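/-
Representations of degree less than `p`: the images of the `p`-elements (namespace `Cfsg.Agent.FeitBound`).

Main results: `PEl`, `Scal`, `PComm` (the images of the `p`-elements commute), `Idx` (modulo scalars a Sylow
subgroup is cyclic of order at most `p`), `comm_of_irr`, `sylow_comm`, `pgroup_closure`.
-/
import Cfsg.Agent.EqLemmas
import Cfsg.Agent.Lib.CharApp.Schur
import Cfsg.Agent.Lib.Char.Integral
import Cfsg.Agent.Lib.Char.Eigen

set_option autoImplicit false
set_option linter.unusedSectionVars false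
set_option linter.style.haveILetI false

namespace Cfsg.Agent.FeitBound

open Module

universe u

section elements

variable {G : Type*} [Group G] {p : ℕ}

/-- A `p`-element. -/
def PEl (p : ℕ) (g : G) : Prop := ∃ k : ℕ, g ^ p ^ k = 1

theorem PEl.one : PEl p (1 : G) := ⟨0, by simp⟩

theorem PEl.map {H : Type*} [Group H] (f : G →* H) {g : G} (h : PEl p g) : PEl p (f g) := by
  obtain ⟨k, hk⟩ := h
  exact ⟨k, by rw [← map_pow, hk, map_one]⟩

theorem PEl.conj {g : G} (h : PEl p g) (a : G) : PEl p (a * g * a⁻¹) := by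
  have := h.map (MulAut.conj a).toMonoidHom
  simpa using this

theorem PEl.inv {g : G} (h : PEl p g) : PEl p g⁻¹ := by
  obtain ⟨k, hk⟩ := h
  exact ⟨k, by rw [inv_pow, hk, inv_one]⟩

theorem PEl.pow {g : G} (h : PEl p g) (n : ℕ) : PEl p (g ^ n) := by
  obtain ⟨k, hk⟩ := h
  exact ⟨k, by rw [← pow_mul, mul_comm, pow_mul, hk, one_pow]⟩

theorem PEl.mul {a b : G} (ha : PEl p a) (hb : PEl p b) (h : Commute a b) : PEl p (a * b) := by
  obtain ⟨k, hk⟩ := ha
  obtain ⟨l, hl⟩ := hb
  refine ⟨k + l, ?_⟩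
  rw [h.mul_pow, pow_add, pow_mul, hk, one_pow, one_mul, mul_comm, pow_mul, hl, one_pow]

theorem pEl_of_mem {H : Subgroup G} (hH : IsPGroup p H) {g : G} (hg : g ∈ H) : PEl p g := by
  obtain ⟨k, hk⟩ := hH ⟨g, hg⟩
  exact ⟨k, congrArg Subtype.val hk⟩

theorem pEl_coe {H : Subgroup G} {g : H} : PEl p (g : G) ↔ PEl p g := by
  constructor
  · rintro ⟨k, hk⟩; exact ⟨k, Subtype.ext (by simpa using hk)⟩
  · rintro ⟨k, hk⟩; exact ⟨k, congrArg Subtype.val hk⟩

theorem exists_sylow_mem {g : G} (h : PEl p g) : ∃ Q : Sylow p G, g ∈ Q := by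
  obtain ⟨k, hk⟩ := h
  have hz : IsPGroup p (Subgroup.zpowers g) := by
    rintro ⟨a, ha⟩
    obtain ⟨i, rfl⟩ := Subgroup.mem_zpowers_iff.mp ha
    refine ⟨k, Subtype.ext ?_⟩
    show (g ^ i) ^ p ^ k = 1
    rw [← zpow_natCast, ← zpow_mul, mul_comm, zpow_mul, zpow_natCast, hk, one_zpow]
  obtain ⟨Q, hQ⟩ := hz.exists_le_sylow
  exact ⟨Q, hQ (Subgroup.mem_zpowers g)⟩

theorem pgroup_closure {S : Set G} (hc : ∀ a ∈ S, ∀ b ∈ S, a * b = b * a) (hS : ∀ a ∈ S, PEl p a) :
    IsPGroup p (Subgroup.closure S) ∧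
      ∀ a ∈ Subgroup.closure S, ∀ b ∈ Subgroup.closure S, a * b = b * a := by
  have h1 : Subgroup.closure S ≤ Subgroup.centralizer S :=
    (Subgroup.closure_le _).mpr fun a ha => Subgroup.mem_centralizer_iff.mpr fun b hb => hc b hb a ha
  have h2 : Subgroup.closure S ≤ Subgroup.centralizer (Subgroup.closure S : Set G) :=
    (Subgroup.closure_le _).mpr fun a ha => Subgroup.mem_centralizer_iff.mpr fun b hb =>
      (Subgroup.mem_centralizer_iff.mp (h1 hb) a ha).symm
  have hcc : ∀ a ∈ Subgroup.closure S, ∀ b ∈ Subgroup.closure S, a * b = b * a := fun a ha b hb =>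
    Subgroup.mem_centralizer_iff.mp (h2 hb) a ha
  refine ⟨fun x => ?_, hcc⟩
  have key : ∀ a ∈ Subgroup.closure S, PEl p a ∧ a ∈ Subgroup.closure S := by
    intro a ha
    induction ha using Subgroup.closure_induction with
    | mem a h => exact ⟨hS a h, Subgroup.subset_closure h⟩
    | one => exact ⟨PEl.one, one_mem _⟩
    | mul a b _ _ iha ihb => exact ⟨iha.1.mul ihb.1 (hcc a iha.2 b ihb.2), mul_mem iha.2 ihb.2⟩
    | inv a _ iha => exact ⟨iha.1.inv, inv_mem iha.2⟩
  exact pEl_coe.mp (key x x.2).1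

end elements

variable {G : Type*} [Group G] {V : Type} [AddCommGroup V] [Module ℂ V]

/-- The element acts as a scalar. -/
def Scal (ρ : Representation ℂ G V) (g : G) : Prop := ∃ c : ℂ, ρ g = c • (1 : Module.End ℂ V)

/-- The images of the `p`-elements commute. -/
def PComm (p : ℕ) (ρ : Representation ℂ G V) : Prop :=
  ∀ a b : G, PEl p a → PEl p b → ρ a * ρ b = ρ b * ρ a

/-- Modulo scalars a Sylow subgroup is cyclic of order at most `p`. -/
def Idx (p : ℕ) (ρ : Representation ℂ G V) : Prop :=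
  ∀ (Q : Sylow p G), ∀ x ∈ Q, ∀ y ∈ Q, ¬ Scal ρ x → ∃ k : ℕ, Scal ρ (y * (x ^ k)⁻¹)

/-- Restriction to a subgroup. -/
abbrev res (ρ : Representation ℂ G V) (H : Subgroup G) : Representation ℂ H V := ρ.comp H.subtype

theorem res_apply (ρ : Representation ℂ G V) (H : Subgroup G) (h : H) : res ρ H h = ρ (h : G) := rfl

variable {ρ : Representation ℂ G V}

theorem rho_mul_apply (a b : G) (v : V) : ρ (a * b) v = ρ a (ρ b v) := by rw [map_mul]; rfl

theorem rho_inv_apply (a : G) (v : V) : ρ a⁻¹ (ρ a v) = v := by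
  rw [← rho_mul_apply, inv_mul_cancel, map_one]; rfl

theorem rho_apply_inv (a : G) (v : V) : ρ a (ρ a⁻¹ v) = v := by
  rw [← rho_mul_apply, mul_inv_cancel, map_one]; rfl

theorem Scal.one : Scal ρ 1 := ⟨1, by rw [map_one, one_smul]⟩

theorem Scal.mul {a b : G} (ha : Scal ρ a) (hb : Scal ρ b) : Scal ρ (a * b) := by
  obtain ⟨c, hc⟩ := ha
  obtain ⟨d, hd⟩ := hb
  exact ⟨c * d, by rw [map_mul, hc, hd, smul_mul_smul_comm, one_mul]⟩

theorem Scal.pow {a : G} (ha : Scal ρ a) : ∀ n : ℕ, Scal ρ (a ^ n)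
  | 0 => by rw [pow_zero]; exact Scal.one
  | n + 1 => by rw [pow_succ]; exact (Scal.pow ha n).mul ha

theorem Scal.inv [Finite G] {a : G} (ha : Scal ρ a) : Scal ρ a⁻¹ := by
  obtain ⟨n, hn⟩ : ∃ n : ℕ, a⁻¹ = a ^ n := ⟨orderOf a - 1, by
    rw [inv_eq_iff_mul_eq_one, ← pow_succ', Nat.sub_add_cancel (orderOf_pos a), pow_orderOf_eq_one]⟩
  rw [hn]; exact ha.pow n

theorem Scal.commute {a : G} (ha : Scal ρ a) (b : G) : ρ a * ρ b = ρ b * ρ a := by
  obtain ⟨c, hc⟩ := ha
  rw [hc, smul_mul_assoc, one_mul, mul_smul_comm, mul_one]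

theorem scal_of_center [FiniteDimensional ℂ V] [ρ.IsIrreducible] {g : G} (hg : g ∈ Subgroup.center G) :
    Scal ρ g :=
  CharApp.exists_scalar_of_mem_center ρ hg

theorem mem_center_of_scal (hinj : Function.Injective ρ) {g : G} (hg : Scal ρ g) : g ∈ Subgroup.center G :=
  Subgroup.mem_center_iff.mpr fun b => hinj (by rw [map_mul, map_mul, hg.commute b])

/-- The transfer of commutation of `p`-elements to a subgroup. -/
theorem PComm.res {p : ℕ} (h : PComm p ρ) (H : Subgroup G) : PComm p (res ρ H) :=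
  fun a b ha hb => h a b (pEl_coe.mpr ha) (pEl_coe.mpr hb)

section subrep

variable [FiniteDimensional ℂ V]

/-- Below a nonzero subrepresentation lies an irreducible one. -/
theorem exists_irr_le {q : Subrepresentation ρ} (hq : q.toSubmodule ≠ ⊥) :
    ∃ W : Subrepresentation ρ, W.toSubmodule ≤ q.toSubmodule ∧ W.toRepresentation.IsIrreducible := by
  classical
  have hex : ∃ n, ∃ W : Subrepresentation ρ, W.toSubmodule ≤ q.toSubmodule ∧ W.toSubmodule ≠ ⊥ ∧
      finrank ℂ W.toSubmodule = n := ⟨_, q, le_rfl, hq, rfl⟩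
  obtain ⟨W, hWq, hW, hn⟩ := Nat.find_spec hex
  haveI : Nontrivial W.toSubmodule := Submodule.nontrivial_iff_ne_bot.2 hW
  refine ⟨W, hWq, CharApp.isIrreducible_of_forall_invariant _ fun S hS => ?_⟩
  by_cases hSb : S = ⊥
  · exact Or.inl hSb
  right
  let r : Subrepresentation ρ := ⟨S.map W.toSubmodule.subtype, by
    rintro g _ ⟨v, hv, rfl⟩
    exact ⟨W.toRepresentation g v, hS g v hv, rfl⟩⟩
  have hrW : r.toSubmodule ≤ W.toSubmodule := by rintro _ ⟨v, -, rfl⟩; exact v.2
  have hr : r.toSubmodule ≠ ⊥ := fun h0 => hSb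
    (Submodule.map_injective_of_injective W.toSubmodule.injective_subtype (h0.trans (Submodule.map_bot _).symm))
  have h1 := Nat.find_min' hex ⟨r, hrW.trans hWq, hr, rfl⟩
  have e : finrank ℂ r.toSubmodule = finrank ℂ S :=
    (LinearEquiv.finrank_eq (Submodule.equivMapOfInjective _ W.toSubmodule.injective_subtype S)).symm
  refine Submodule.eq_top_of_finrank_eq ?_
  have h2 := Submodule.finrank_le S
  omega

variable [Finite G]

/-- Two elements commute on a subrepresentation when they commute on the irreducible ones below it. -/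
theorem comm_of_irr {a b : G} (q : Subrepresentation ρ)
    (h : ∀ W : Subrepresentation ρ, W.toSubmodule ≤ q.toSubmodule → W.toRepresentation.IsIrreducible →
      ∀ v ∈ W.toSubmodule, ρ a (ρ b v) = ρ b (ρ a v)) :
    ∀ v ∈ q.toSubmodule, ρ a (ρ b v) = ρ b (ρ a v) := by
  -- the sum of the irreducible subrepresentations below `q`
  let T : Subrepresentation ρ :=
    ⟨⨆ W : {W : Subrepresentation ρ // W.toSubmodule ≤ q.toSubmodule ∧ W.toRepresentation.IsIrreducible},
      W.1.toSubmodule, fun g v hv => by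
        induction hv using Submodule.iSup_induction' with
        | mem W v hv => exact Submodule.mem_iSup_of_mem W (W.1.apply_mem_toSubmodule g hv)
        | zero => rw [map_zero]; exact zero_mem _
        | add v w _ _ hv hw => rw [map_add]; exact add_mem hv hw⟩
  have hTq : T.toSubmodule ≤ q.toSubmodule := iSup_le fun W => W.2.1
  obtain ⟨R, hR⟩ := Char.exists_isCompl V ρ T
  have hbot : (q ⊓ R).toSubmodule = ⊥ := by
    by_contra hne
    obtain ⟨W, hW, hWi⟩ := exists_irr_le hne
    have hWq : W.toSubmodule ≤ q.toSubmodule := hW.trans inf_le_left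
    have hWT : W.toSubmodule ≤ T.toSubmodule :=
      le_iSup (fun W : {W : Subrepresentation ρ // W.toSubmodule ≤ q.toSubmodule ∧
        W.toRepresentation.IsIrreducible} => W.1.toSubmodule) ⟨W, hWq, hWi⟩
    have hWbot : W.toSubmodule ≤ ⊥ := hR.disjoint hWT (hW.trans inf_le_right)
    haveI := CharApp.nontrivial_of_irr W.toRepresentation
    exact (Submodule.nontrivial_iff_ne_bot.1 inferInstance) (le_bot_iff.mp hWbot)
  have hqT : q.toSubmodule ≤ T.toSubmodule := by
    intro v hv
    have hv' : v ∈ T.toSubmodule ⊔ R.toSubmodule := by rw [hR.sup_eq_top]; exact Submodule.mem_top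
    obtain ⟨t, ht, r, hr, rfl⟩ := Submodule.mem_sup.mp hv'
    have hrq : r ∈ q.toSubmodule := by
      have := Submodule.sub_mem _ hv (hTq ht)
      rwa [add_sub_cancel_left] at this
    have : r ∈ (q ⊓ R).toSubmodule := ⟨hrq, hr⟩
    rw [hbot, Submodule.mem_bot] at this
    rw [this, add_zero]; exact ht
  intro v hv
  have hvT : v ∈ T.toSubmodule := hqT hv
  induction hvT using Submodule.iSup_induction' with
  | mem W v hvW => exact h W.1 W.2.1 W.2.2 v hvW
  | zero => simp
  | add v w hv' hw' ihv ihw => simp only [map_add, ihv (hTq hv'), ihw (hTq hw')]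

/-- The images of the `p`-elements commute when they do so on the irreducible subrepresentations. -/
theorem pcomm_of_irr {p : ℕ} (h : ∀ W : Subrepresentation ρ, W.toRepresentation.IsIrreducible →
    PComm p W.toRepresentation) : PComm p ρ := by
  intro a b ha hb
  refine LinearMap.ext fun v => comm_of_irr ⊤ (fun W _ hWi w hw => ?_) v Submodule.mem_top
  exact congrArg Subtype.val (LinearMap.congr_fun (h W hWi a b ha hb) ⟨w, hw⟩)

/-- A Sylow subgroup has commutative image in degree less than `p`. -/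
theorem sylow_comm {p : ℕ} [Fact p.Prime] (hd : finrank ℂ V < p) (Q : Sylow p G) {a b : G}
    (ha : a ∈ Q) (hb : b ∈ Q) : ρ a * ρ b = ρ b * ρ a := by
  let σ := res ρ (Q : Subgroup G)
  suffices h : PComm p σ from h ⟨a, ha⟩ ⟨b, hb⟩ (Q.isPGroup' _) (Q.isPGroup' _)
  refine pcomm_of_irr fun W hW c d _ _ => ?_
  have h1 := Char.degree_dvd_card W.toRepresentation
  obtain ⟨n, hn⟩ := Q.isPGroup'.exists_card_eq
  rw [hn] at h1
  obtain ⟨j, -, hj⟩ := (Nat.dvd_prime_pow Fact.out).1 h1
  have hW1 : finrank ℂ W.toSubmodule = 1 := by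
    rcases Nat.eq_zero_or_pos j with rfl | hj0
    · simpa using hj
    · exfalso
      have h2 := Submodule.finrank_le W.toSubmodule
      have h3 := Nat.le_self_pow hj0.ne' p
      omega
  obtain ⟨v0, hv0, hspan⟩ := finrank_eq_one_iff'.mp hW1
  obtain ⟨cc, hcc⟩ := hspan (W.toRepresentation c v0)
  obtain ⟨dd, hdd⟩ := hspan (W.toRepresentation d v0)
  refine LinearMap.ext fun v => ?_
  obtain ⟨s, rfl⟩ := hspan v
  simp only [Module.End.mul_apply, map_smul, ← hcc, ← hdd, smul_smul, mul_comm]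

/-- A `p`-element and a normal abelian `p`-group. -/
theorem comm_normal {p : ℕ} [Fact p.Prime] (hd : finrank ℂ V < p) (A : Subgroup G) [A.Normal]
    (hA : IsPGroup p A) {a g : G} (ha : a ∈ A) (hg : PEl p g) : ρ a * ρ g = ρ g * ρ a := by
  obtain ⟨Q, hQ⟩ := exists_sylow_mem hg
  obtain ⟨R, hR⟩ := (IsPGroup.to_sup_of_normal_left hA Q.isPGroup').exists_le_sylow
  exact sylow_comm hd R (hR (Subgroup.mem_sup_left ha)) (hR (Subgroup.mem_sup_right hQ))

end subrep

end Cfsg.Agent.FeitBound
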