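/-
Twisting away the scalar `p`-elements (namespace `Cfsg.Agent.FeitBound`).

Main results: `finrank_eigen_le`, `exists_ppart`, `exists_twist`: a representation of degree less than `p`
twisted by a power of its determinant has a kernel consisting of scalars and containing all scalar `p`-elements.
-/
import Cfsg.Agent.Lib.FeitBound.Rep

set_option autoImplicit false
set_option linter.unusedSectionVars false
set_option linter.style.haveILetI false

namespace Cfsg.Agent.FeitBound

open Module

variable {G : Type*} [Group G] {V : Type} [AddCommGroup V] [Module ℂ V] {p : ℕ}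

open scoped Classical in
/-- An eigenspace is no larger than the multiplicity of the eigenvalue in an eigenbasis. -/
theorem finrank_eigen_le {ι : Type*} [Fintype ι] (f : Module.End ℂ V) (b : Basis ι ℂ V) (μ : ι → ℂ)
    (hμ : ∀ i, f (b i) = μ i • b i) (c : ℂ) :
    finrank ℂ (f.eigenspace c) ≤ (Finset.univ.filter fun i => μ i = c).card := by
  haveI := Module.Finite.of_basis b
  set s := Finset.univ.filter fun i => μ i = c
  have hle : f.eigenspace c ≤ Submodule.span ℂ (b '' (s : Set ι)) := by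
    intro v hv
    rw [Module.End.mem_eigenspace_iff] at hv
    rw [Basis.mem_span_image]
    intro i hi
    rw [Finset.mem_coe, Finsupp.mem_support_iff] at hi
    refine Finset.mem_coe.mpr (Finset.mem_filter.mpr ⟨Finset.mem_univ _, ?_⟩)
    have h1 : b.repr (f v) i = μ i * b.repr v i := by
      conv_lhs => rw [← b.sum_repr v]
      rw [map_sum, map_sum, Finset.sum_apply', Finset.sum_eq_single i]
      · simp [hμ, mul_comm]
      · intro j _ hj
        simp [hμ, hj]
      · intro h; exact absurd (Finset.mem_univ _) h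
    rw [hv, map_smul, Finsupp.smul_apply, smul_eq_mul] at h1
    exact (mul_right_cancel₀ hi h1).symm
  refine (Submodule.finrank_mono hle).trans ?_
  rw [show b '' (s : Set ι) = ((s.image b : Finset V) : Set V) from (Finset.coe_image).symm]
  exact (finrank_span_finset_le_card _).trans Finset.card_image_le

/-- The `p`-part of an element. -/
theorem exists_ppart [Finite G] [hp : Fact p.Prime] (g : G) :
    ∃ e : ℕ, PEl p (g ^ e) ∧ ∀ {H : Type*} [Group H] (f : G →* H), PEl p (f g) → f (g ^ e) = f g := by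
  obtain ⟨a, m, hm, hn⟩ := Nat.exists_eq_pow_mul_and_not_dvd (orderOf_pos g).ne' p hp.out.ne_one
  have hcop : (p ^ a).Coprime m := Nat.Coprime.pow_left _ (hp.out.coprime_iff_not_dvd.mpr hm)
  obtain ⟨e, he1, he2⟩ := Nat.chineseRemainder hcop 1 0
  refine ⟨e, ⟨a, ?_⟩, fun {H} _ f hf => ?_⟩
  · rw [← pow_mul]
    refine orderOf_dvd_iff_pow_eq_one.mp ?_
    rw [hn, mul_comm e]
    exact Nat.mul_dvd_mul_left _ (Nat.modEq_zero_iff_dvd.mp he2)
  · obtain ⟨k, hk⟩ := hf
    obtain ⟨j, -, hj⟩ := (Nat.dvd_prime_pow hp.out).1 (orderOf_dvd_of_pow_eq_one hk)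
    have hdvd : orderOf (f g) ∣ p ^ a := by
      have h1 : orderOf (f g) ∣ p ^ a * m := hn ▸ orderOf_map_dvd f g
      exact (Nat.Coprime.dvd_of_dvd_mul_right
        (by rw [hj]; exact Nat.Coprime.pow_left _ (hp.out.coprime_iff_not_dvd.mpr hm)) h1)
    rw [map_pow]
    conv_rhs => rw [← pow_one (f g)]
    exact pow_eq_pow_iff_modEq.mpr (Nat.ModEq.of_dvd hdvd he1)

variable [Finite G] [FiniteDimensional ℂ V]

/-- A scalar `p`-element. -/
theorem scal_pow_eq_one [Nontrivial V] {ρ : Representation ℂ G V} {c : ℂ} {g : G} {n : ℕ}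
    (hc : ρ g = c • (1 : Module.End ℂ V)) (hn : g ^ n = 1) : c ^ n = 1 := by
  have h := congrArg ρ hn
  rw [map_pow, hc, smul_pow, one_pow, map_one] at h
  exact smul_left_injective ℂ (one_ne_zero : (1 : Module.End ℂ V) ≠ 0) (by simpa using h)

theorem pEl_pow_card [hp : Fact p.Prime] {g : G} (h : PEl p g) : g ^ p ^ Nat.card G = 1 := by
  obtain ⟨k, hk⟩ := h
  obtain ⟨j, -, hj⟩ := (Nat.dvd_prime_pow hp.out).1 (orderOf_dvd_of_pow_eq_one hk)
  refine orderOf_dvd_iff_pow_eq_one.mp (hj ▸ pow_dvd_pow p ?_)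
  have h1 : p ^ j ≤ Nat.card G := hj ▸ Nat.le_of_dvd Nat.card_pos (orderOf_dvd_natCard g)
  exact le_of_lt (lt_of_lt_of_le (Nat.lt_pow_self hp.out.one_lt) h1)

/-- The twist by a power of the determinant. -/
theorem exists_twist [hp : Fact p.Prime] [Nontrivial V] (ρ : Representation ℂ G V)
    (hd : finrank ℂ V < p) :
    ∃ (l : G →* ℂ) (ρ' : Representation ℂ G V), (∀ g, ρ' g = l g • ρ g) ∧ (∀ g, l g ≠ 0) ∧
      (∀ g ∈ commutator G, l g = 1) ∧
      (∀ g, PEl p g → Scal ρ g → ρ' g = 1) := by
  set d := finrank ℂ V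
  have hd0 : 0 < d := finrank_pos
  set n := p ^ Nat.card G
  haveI : NeZero n := ⟨pow_ne_zero _ hp.out.ne_zero⟩
  have hcop : d.Coprime n := Nat.Coprime.pow_right _ (hp.out.coprime_iff_not_dvd.mpr fun h => by
    have := Nat.le_of_dvd hd0 h; omega).symm
  set k : ℕ := (-(d : ZMod n)⁻¹).val with hk
  have hkd : n ∣ d * k + 1 := by
    rw [← ZMod.natCast_eq_zero_iff, Nat.cast_add, Nat.cast_mul, hk, ZMod.natCast_val, ZMod.cast_id, mul_neg,
      ZMod.coe_mul_inv_eq_one d hcop, Nat.cast_one, neg_add_cancel]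
  let l : G →* ℂ := (powMonoidHom k).comp (LinearMap.det.comp ρ)
  have hl : ∀ g, l g = LinearMap.det (ρ g) ^ k := fun g => rfl
  have hl0 : ∀ g, l g ≠ 0 := fun g => by
    refine left_ne_zero_of_mul (b := l g⁻¹) ?_
    rw [← map_mul, mul_inv_cancel, map_one]; exact one_ne_zero
  refine ⟨l, { toFun := fun g => l g • ρ g, map_one' := by rw [map_one, map_one, one_smul],
               map_mul' := fun a b => by rw [map_mul, map_mul, smul_mul_smul_comm] },
    fun g => rfl, hl0, fun g hg => ?_, fun g hg ⟨c, hc⟩ => ?_⟩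
  · -- a homomorphism to a commutative monoid is trivial on the derived subgroup
    let lu : G →* ℂˣ := l.toHomUnits
    have h1 : g ∈ lu.ker := Abelianization.commutator_subset_ker lu hg
    have h2 := congrArg Units.val (MonoidHom.mem_ker.mp h1)
    simpa [lu, MonoidHom.toHomUnits] using h2
  · show l g • ρ g = 1
    have hcn : c ^ n = 1 := scal_pow_eq_one hc (pEl_pow_card hg)
    rw [hl, hc, smul_smul, LinearMap.det_smul, map_one, mul_one, ← pow_mul, ← pow_succ]
    obtain ⟨q, hq⟩ := hkd
    rw [hq, pow_mul, hcn, one_pow, one_smul]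

end Cfsg.Agent.FeitBound
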