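/-
The spectrum of a `p`-element when a Sylow subgroup has order `p` modulo scalars
(namespace `Cfsg.Agent.FeitBound`).

Main results: `weight`, `weight_le_one`, `weight_zero_le`, `spec`: simple spectrum, and an element of the
derived subgroup moves at least `(p - 1) / 2` dimensions.
-/
import Cfsg.Agent.Lib.FeitBound.Twist
import Cfsg.Agent.Lib.FeitSmall.Main

set_option autoImplicit false
set_option linter.unusedSectionVars false
set_option linter.style.haveILetI false

namespace Cfsg.Agent.FeitBound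

open Module Cfsg Cfsg.Agent.Blocks Cfsg.Agent.CyclicDefect
open scoped Pointwise

scoped notation "ζp" => Cfsg.Agent.CyclicDefect.ζ

section roots

variable {p : ℕ} [Fact p.Prime]

theorem ζ_inj : Function.Injective (fun i : ZMod p => ζp i) := ZMod.injective_stdAddChar

theorem ζ_prim : IsPrimitiveRoot (ζp (1 : ZMod p)) p := by
  refine IsPrimitiveRoot.iff_orderOf.mpr (orderOf_eq_prime (ζ_pow 1) fun h => ?_)
  exact one_ne_zero (ζ_inj (h.trans ζ_zero.symm) : (1 : ZMod p) = 0)

theorem ζ_pow_val (i j : ZMod p) : ζp (i * j) = ζp j ^ i.val := by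
  show ZMod.stdAddChar (i * j) = ZMod.stdAddChar j ^ i.val
  rw [← AddChar.map_nsmul_eq_pow, nsmul_eq_mul, ZMod.natCast_zmod_val]

end roots

section weights

variable {H : Type*} [Group H] [Finite H] {p : ℕ} [Fact p.Prime] {x : H} {L : Subgroup H}
variable (hS : Setting p x L)

open scoped Classical in
/-- The multiplicity of an exponent in a character restricted to `⟨x⟩`. -/
noncomputable def weight (χ : IrrCharacter H) (j : ZMod p) : ℕ :=
  letI := Fintype.ofFinite (K x L)
  letI := Fintype.ofFinite (IrrCharacter (K x L))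
  ∑ φ : IrrCharacter (K x L), charDegree (φ : K x L → ℂ) * multN hS χ φ j

include hS

theorem expansion (χ : IrrCharacter H) (i : ZMod p) :
    (χ : H → ℂ) (pw x i) = ∑ j : ZMod p, (weight hS χ j : ℂ) * ζp (i * j) := by
  classical
  letI := Fintype.ofFinite (K x L)
  letI := Fintype.ofFinite (IrrCharacter (K x L))
  have h := apply_eq_sum hS (irr_class χ) i (1 : K x L)
  rw [OneMemClass.coe_one, OneMemClass.coe_one, mul_one] at h
  rw [h]
  simp only [dec_eq_sum_mult, multN_spec hS, weight, Nat.cast_sum, Nat.cast_mul, Finset.sum_mul,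
    charDegree_cast]
  rw [Finset.sum_comm]
  exact Finset.sum_congr rfl fun j _ => Finset.sum_congr rfl fun φ _ => by ring

theorem sum_weight (χ : IrrCharacter H) : ∑ j : ZMod p, weight hS χ j = charDegree (χ : H → ℂ) := by
  classical
  letI := Fintype.ofFinite (K x L)
  letI := Fintype.ofFinite (IrrCharacter (K x L))
  rw [charDegree_eq_sum hS χ]
  simp only [weight, Finset.mul_sum]
  exact Finset.sum_comm

set_option maxHeartbeats 800000 in
open scoped Classical in
/-- The exponents are distinct, and at least `(p - 1) / 2` of them are nonzero. -/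
theorem weight_le_one (hp : 5 ≤ p) (hnn : ∀ N : Subgroup H, N.Normal → Nat.card N ≠ p) (χ : IrrCharacter H)
    (hfaith : ∀ g : H, (χ : H → ℂ) g = (χ : H → ℂ) 1 → g = 1) (hlt : charDegree (χ : H → ℂ) + 1 < p)
    (hx : ‖(χ : H → ℂ) x‖ ≠ (charDegree (χ : H → ℂ) : ℝ)) :
    (∀ j, weight hS χ j ≤ 1) ∧ 2 * weight hS χ 0 + (p - 1) ≤ 2 * charDegree (χ : H → ℂ) ∧
      2 ≤ (K x L).index := by
  letI := Fintype.ofFinite (K x L)
  letI := Fintype.ofFinite (IrrCharacter (K x L))
  haveI := Fintype.ofFinite H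
  haveI := Fintype.ofFinite (IrrCharacter H)
  have hp' : p.Prime := Fact.out
  obtain ⟨M, hM⟩ := CentralChar.exists_pModular p
  obtain ⟨R⟩ := FeitSmall.exists_row hS hM χ hlt hx
  have hmain := FeitSmall.reduce_of_five_le hS hp hnn χ hfaith hlt
  have hE2 : 2 ≤ (K x L).index := by
    rcases hmain with ⟨-, -, h⟩ | ⟨-, _, _, _, _, hR⟩
    · omega
    · exact hR.core.he2
  set η := R.η
  set u0 := R.c.out
  have hu0 : (u0 : (ZMod p)ˣ ⧸ U hS (η : K x L → ℂ)) = R.c := Quotient.out_eq _
  have hrow : ∀ u : (ZMod p)ˣ, (multN hS χ η (u : ZMod p) : ℤ) = multN hS χ η 0 +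
      if (u : (ZMod p)ˣ ⧸ U hS (η : K x L → ℂ)) = R.c then R.ε else 0 := fun u => by
    rw [← R.row u, bInt_eq_sub]; ring
  rcases R.cases hS hM hlt with ⟨hε, hm0, hdeg⟩ | ⟨hε, hm, hη1, hT, hU, hdeg⟩
  · -- the positive sign
    have hηpos := charDegree_pos η
    replace hdeg : charDegree (χ : H → ℂ) = charDegree (η : K x L → ℂ) * (K x L).index := hdeg
    obtain ⟨hη1, hE⟩ : charDegree (η : K x L → ℂ) = 1 ∧ 2 * (K x L).index + 1 = p := by
      rcases hmain with ⟨-, hd, hE⟩ | ⟨hd, -⟩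
      · refine ⟨?_, hE⟩
        by_contra hne
        have := Nat.mul_le_mul_right (K x L).index (show 2 ≤ charDegree (η : K x L → ℂ) by omega)
        omega
      · exfalso
        have h1 : (K x L).index ∣ p := by
          rw [← hd, hdeg]
          exact dvd_add (dvd_mul_left _ _) dvd_rfl
        have h2 := (Nat.dvd_prime hp').mp h1
        have h3 : 0 < charDegree (χ : H → ℂ) := charDegree_pos χ
        omega
    have hz : ∀ φ : IrrCharacter (K x L), multN hS χ φ 0 = 0 := by
      intro φ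
      by_cases hl : Lies M x L (blockOf M (χ : H → ℂ)) φ
      · obtain ⟨l, rfl⟩ := orbit hS hM ⟨χ, rfl⟩ R.lies hl
        have := multN_cjIrr hS χ l η 0
        rwa [mul_zero, hm0] at this
      · exact R.nonlying φ hl 0
    have hw0 : weight hS χ 0 = 0 := by simp [weight, hz]
    have hu0' : 1 ≤ multN hS χ η (u0 : ZMod p) := by
      have := hrow u0
      rw [if_pos hu0, hm0, hε] at this
      omega
    set S := Finset.univ.filter fun j : ZMod p =>
      ∃ l : L, j = (CyclicDefect.alpha hS l : ZMod p) * (u0 : ZMod p) with hS'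
    have hS1 : ∀ j ∈ S, 1 ≤ weight hS χ j := by
      intro j hj
      obtain ⟨l, rfl⟩ := (Finset.mem_filter.mp hj).2
      refine le_trans ?_ (Finset.single_le_sum (f := fun φ : IrrCharacter (K x L) =>
        charDegree (φ : K x L → ℂ) * multN hS χ φ ((CyclicDefect.alpha hS l : ZMod p) * (u0 : ZMod p)))
        (fun _ _ => Nat.zero_le _) (Finset.mem_univ (cjIrr hS l η)))
      show 1 ≤ charDegree (cjIrr hS l η : K x L → ℂ) * _
      rw [multN_cjIrr, charDegree_cjIrr, hη1, one_mul]
      exact hu0'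
    have hScard : (K x L).index ≤ S.card := by
      rw [← FeitSmall.card_range hS, ← Nat.card_eq_finsetCard]
      refine Nat.card_le_card_of_injective (fun a : (CyclicDefect.alpha hS).range =>
        (⟨((a : (ZMod p)ˣ) : ZMod p) * (u0 : ZMod p), Finset.mem_filter.mpr ⟨Finset.mem_univ _, by
          obtain ⟨l, hl⟩ := a.2
          exact ⟨l, by rw [hl]⟩⟩⟩ : S)) fun a b hab => ?_
      exact Subtype.ext (Units.ext (mul_right_cancel₀ (Units.ne_zero u0) (congrArg Subtype.val hab :)))
    have hsum : ∑ j ∈ S, weight hS χ j ≤ charDegree (χ : H → ℂ) :=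
      (Finset.sum_le_sum_of_subset (Finset.subset_univ S)).trans (sum_weight hS χ).le
    rw [hη1, one_mul] at hdeg
    refine ⟨fun j => ?_, by omega, hE2⟩
    by_contra hj
    have hall := sum_weight hS χ
    rw [← Finset.sum_sdiff (Finset.subset_univ S)] at hall
    have hlow : S.card ≤ ∑ j ∈ S, weight hS χ j := by
      simpa using Finset.sum_le_sum hS1
    by_cases hjS : j ∈ S
    · have h2 : ∑ j ∈ S, weight hS χ j = weight hS χ j + ∑ i ∈ S.erase j, weight hS χ i :=
        (Finset.add_sum_erase _ _ hjS).symm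
      have h3 : (S.erase j).card ≤ ∑ i ∈ S.erase j, weight hS χ i := by
        simpa using Finset.sum_le_sum (f := fun _ => 1) (g := weight hS χ) (s := S.erase j)
          (fun i hi => hS1 i (Finset.mem_of_mem_erase hi))
      rw [Finset.card_erase_of_mem hjS] at h3
      omega
    · have h2 : weight hS χ j ≤ ∑ i ∈ Finset.univ \ S, weight hS χ i :=
        Finset.single_le_sum (fun _ _ => Nat.zero_le _) (Finset.mem_sdiff.mpr ⟨Finset.mem_univ _, hjS⟩)
      omega
  · -- the negative sign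
    have hw : ∀ j, weight hS χ j = multN hS χ η j := by
      intro j
      simp only [weight]
      rw [Finset.sum_eq_single η (fun φ _ hne => ?_) (fun h => absurd (Finset.mem_univ _) h), hη1, one_mul]
      rw [R.nonlying φ (fun h => hne ?_) j, mul_zero]
      exact Finset.card_le_one.mp hT.le φ (Finset.mem_filter.mpr ⟨Finset.mem_univ _, h⟩) η
        (Finset.mem_filter.mpr ⟨Finset.mem_univ _, R.lies⟩)
    refine ⟨fun j => ?_, ?_, hE2⟩
    · rw [hw]
      rcases eq_or_ne j 0 with rfl | hj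
      · rw [hm]
      · have := hrow (Units.mk0 j hj)
        rw [Units.val_mk0, hm, hε] at this
        split_ifs at this <;> omega
    · rw [hw, hm]
      have h2 := R.two
      rw [hU] at h2
      omega

end weights

variable {G : Type*} [Group G] [Finite G] {V : Type} [AddCommGroup V] [Module ℂ V] [FiniteDimensional ℂ V]
  {p : ℕ}

/-- What a Sylow subgroup of order `p` modulo scalars gives. -/
structure Spec (p : ℕ) (ρ : Representation ℂ G V) : Prop where
  simple : ∀ y, PEl p y → ¬ Scal ρ y → ∀ c : ℂ, finrank ℂ (Module.End.eigenspace (ρ y) c) ≤ 1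
  moved : ∀ h ∈ commutator G, PEl p h → ¬ Scal ρ h →
    2 * finrank ℂ (Module.End.eigenspace (ρ h) (1 : ℂ)) + (p - 1) ≤ 2 * finrank ℂ V
  derived : ∃ h ∈ commutator G, PEl p h ∧ ¬ Scal ρ h

set_option maxHeartbeats 1000000 in
open scoped Classical in
theorem spec [hp : Fact p.Prime] (hp5 : 5 ≤ p) (ρ : Representation ℂ G V) [ρ.IsIrreducible]
    (hd : finrank ℂ V + 1 < p) (hI : Idx p ρ) (hP : ¬ PComm p ρ) : Spec p ρ := by
  haveI := CharApp.nontrivial_of_irr ρ
  obtain ⟨ℓ, ρ', hρ', hl0, hl1, hker⟩ := exists_twist (p := p) ρ (by omega)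
  set N : Subgroup G := ρ'.ker
  have hNscal : ∀ g ∈ N, Scal ρ g := fun g hg => ⟨(ℓ g)⁻¹, by
    have h : ℓ g • ρ g = 1 := (hρ' g).symm.trans (MonoidHom.mem_ker.mp hg)
    rw [← h, inv_smul_smul₀ (hl0 g)]⟩
  let σ : Representation ℂ (G ⧸ N) V := QuotientGroup.lift N ρ' le_rfl
  have hσ : ∀ g : G, σ (QuotientGroup.mk' N g) = ρ' g := fun g => rfl
  haveI : σ.IsIrreducible := CharApp.isIrreducible_of_forall_invariant σ fun W hW =>
    CharApp.eq_bot_or_top_of_invariant ρ W fun g v hv => by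
      have h : ℓ g • ρ g v ∈ W := by
        have h1 := hW (QuotientGroup.mk' N g) v hv
        rw [hσ, hρ'] at h1
        exact h1
      simpa [inv_smul_smul₀ (hl0 g)] using W.smul_mem (ℓ g)⁻¹ h
  have hσinj : ∀ a, σ a = 1 → a = 1 := by
    intro a
    obtain ⟨g, rfl⟩ := QuotientGroup.mk'_surjective N a
    intro h
    exact (QuotientGroup.eq_one_iff g).mpr (MonoidHom.mem_ker.mpr ((hσ g).symm.trans h))
  -- a nonscalar `p`-element
  obtain ⟨a0, b0, ha0, hb0, hab0⟩ : ∃ a b, PEl p a ∧ PEl p b ∧ ρ a * ρ b ≠ ρ b * ρ a := by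
    simpa [PComm] using hP
  have ha0s : ¬ Scal ρ a0 := fun h => hab0 (h.commute b0)
  obtain ⟨Q, hQ⟩ := exists_sylow_mem ha0
  -- the `p`-th power of a nonscalar element of `Q` is scalar
  have hpow : ∀ z ∈ Q, Scal ρ (z ^ p) := by
    intro z hz
    by_contra hzp
    obtain ⟨k, hk⟩ := hI Q (z ^ p) (pow_mem hz p) z hz hzp
    have hstep : ∀ i : ℕ, Scal ρ (z * (z ^ (p * k) ^ i)⁻¹) := by
      intro i
      induction i with
      | zero => rw [pow_zero, pow_one, mul_inv_cancel]; exact Scal.one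
      | succ i ih =>
        have h1 := ih.mul (hk.pow ((p * k) ^ i))
        have hc : Commute z ((z ^ p) ^ k)⁻¹ := ((Commute.refl z).pow_right p).pow_right k |>.inv_right
        rwa [hc.mul_pow, inv_pow, ← pow_mul, ← pow_mul, mul_assoc, inv_mul_cancel_left, ← mul_assoc p,
          ← pow_succ'] at h1
    obtain ⟨j, hj⟩ := Q.isPGroup' ⟨z, hz⟩
    have hj' : z ^ p ^ j = 1 := congrArg Subtype.val hj
    have h2 := hstep j
    rw [mul_pow, pow_mul, hj', one_pow, inv_one, mul_one] at h2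
    exact hzp (h2.pow p)
  set X := QuotientGroup.mk' N a0
  have hX : orderOf X = p := by
    refine orderOf_eq_prime ?_ fun h => ha0s (hNscal a0 ((QuotientGroup.eq_one_iff a0).mp h))
    rw [← map_pow]
    exact (QuotientGroup.eq_one_iff _).mpr (MonoidHom.mem_ker.mpr (hker _ (ha0.pow p) (hpow a0 hQ)))
  let PH : Sylow p (G ⧸ N) := Q.mapSurjective (QuotientGroup.mk'_surjective N)
  have hPH : (PH : Subgroup (G ⧸ N)) = Subgroup.zpowers X := by
    rw [Sylow.coe_mapSurjective]
    refine le_antisymm ?_ (Subgroup.zpowers_le.mpr ⟨a0, hQ, rfl⟩)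
    rintro _ ⟨y, hy, rfl⟩
    obtain ⟨k, hk⟩ := hI Q a0 hQ y hy ha0s
    have h1 : PEl p (y * (a0 ^ k)⁻¹) := pEl_of_mem Q.isPGroup' (mul_mem hy (inv_mem (pow_mem hQ k)))
    have h2 : QuotientGroup.mk' N (y * (a0 ^ k)⁻¹) = 1 :=
      (QuotientGroup.eq_one_iff _).mpr (MonoidHom.mem_ker.mpr (hker _ h1 hk))
    rw [map_mul, map_inv, mul_inv_eq_one, map_pow] at h2
    rw [h2]
    exact pow_mem (Subgroup.mem_zpowers X) k
  have hPHc : Nat.card (PH : Subgroup (G ⧸ N)) = p := by rw [hPH, Nat.card_zpowers, hX]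
  have hPHn : ¬ (PH : Subgroup (G ⧸ N)).Normal := by
    intro hn
    haveI := Sylow.unique_of_normal PH hn
    refine hP fun a b ha hb => ?_
    obtain ⟨Qa, hQa⟩ := exists_sylow_mem (ha.map (QuotientGroup.mk' N))
    obtain ⟨Qb, hQb⟩ := exists_sylow_mem (hb.map (QuotientGroup.mk' N))
    rw [Subsingleton.elim Qa PH] at hQa
    rw [Subsingleton.elim Qb PH] at hQb
    have hXa : QuotientGroup.mk' N a ∈ Subgroup.zpowers X := hPH ▸ hQa
    have hXb : QuotientGroup.mk' N b ∈ Subgroup.zpowers X := hPH ▸ hQb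
    obtain ⟨i, hi⟩ := Subgroup.mem_zpowers_iff.mp hXa
    obtain ⟨j, hj⟩ := Subgroup.mem_zpowers_iff.mp hXb
    have h : σ (QuotientGroup.mk' N a) * σ (QuotientGroup.mk' N b) =
        σ (QuotientGroup.mk' N b) * σ (QuotientGroup.mk' N a) := by
      rw [← hi, ← hj, ← map_mul σ, ← map_mul σ, (Commute.zpow_zpow_self X i j).eq]
    rw [hσ, hσ, hρ', hρ', smul_mul_smul_comm, smul_mul_smul_comm, mul_comm (ℓ b)] at h
    exact smul_right_injective (Module.End ℂ V) (mul_ne_zero (hl0 a) (hl0 b)) h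
  obtain ⟨x, L, hxP, hS⟩ := CyclicDefect.exists_setting_of_sylow hp.out PH hPHc
  have hnn : ∀ M : Subgroup (G ⧸ N), M.Normal → Nat.card M ≠ p := fun M hM hcard => by
    refine hPHn ?_
    haveI := hM
    obtain ⟨R, hR⟩ := (IsPGroup.of_card (n := 1) (by rw [hcard, pow_one]) : IsPGroup p M).exists_le_sylow
    have hRc : Nat.card (R : Subgroup (G ⧸ N)) = p :=
      (Sylow.card_eq_multiplicity R).trans ((Sylow.card_eq_multiplicity PH).symm.trans hPHc)
    have hRM : (R : Subgroup (G ⧸ N)) = M := (Subgroup.eq_of_le_of_card_ge hR (by rw [hRc, hcard])).symm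
    haveI : (R : Subgroup (G ⧸ N)).Normal := hRM ▸ hM
    haveI := Sylow.unique_of_normal R inferInstance
    rw [Subsingleton.elim PH R]; infer_instance
  let χ : IrrCharacter (G ⧸ N) := ⟨σ.character, Char.isIrrCharacter_character σ⟩
  have hdeg : charDegree (χ : G ⧸ N → ℂ) = finrank ℂ V := Nat.cast_injective (R := ℂ) (by
    rw [charDegree_cast]; exact Representation.char_one σ)
  have hfaith : ∀ g, (χ : G ⧸ N → ℂ) g = (χ : G ⧸ N → ℂ) 1 → g = 1 := fun g hg => hσinj g
    ((Char.character_eq_finrank_iff σ g).mp (hg.trans (Representation.char_one σ)))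
  have hxns : ‖(χ : G ⧸ N → ℂ) x‖ ≠ (charDegree (χ : G ⧸ N → ℂ) : ℝ) := by
    rw [hdeg]
    intro h
    obtain ⟨w, hw⟩ := (Char.norm_character_eq_iff σ x).mp h
    obtain ⟨i, hi⟩ := hS.exists_pw (show X ∈ Subgroup.zpowers x by rw [← hxP, hPH]; exact Subgroup.mem_zpowers X)
    have hXs : σ X = (w ^ i.val) • (1 : Module.End ℂ V) := by
      rw [hi, pw, map_pow, hw, show (LinearMap.id : Module.End ℂ V) = 1 from rfl, smul_pow, one_pow]
    have h1 : ℓ a0 • ρ a0 = (w ^ i.val) • (1 : Module.End ℂ V) := by rw [← hρ', ← hσ]; exact hXs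
    exact ha0s ⟨(ℓ a0)⁻¹ * w ^ i.val, by rw [mul_smul, ← h1, inv_smul_smul₀ (hl0 a0)]⟩
  obtain ⟨hw1, hw0, hidx⟩ := weight_le_one hS hp5 hnn χ hfaith (by omega) hxns
  -- an eigenbasis for `x`
  obtain ⟨b, μ, hμ, hroot⟩ := Char.exists_eigenbasis σ x
  have hζ : ∀ r, ∃ j : ZMod p, ζp j = μ r := by
    intro r
    have h1 : μ r ^ p = 1 := hS.hx ▸ hroot r
    obtain ⟨i, -, hi⟩ := (ζ_prim (p := p)).eq_pow_of_pow_eq_one h1
    refine ⟨(i : ZMod p), ?_⟩
    rw [ζ_eq_one_pow, ZMod.val_natCast, ← hi]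
    exact (pow_eq_pow_mod i (ζ_pow (1 : ZMod p))).symm
  choose jr hjr using hζ
  have hcnt : ∀ j, (Finset.univ.filter fun r => jr r = j).card = weight hS χ j := by
    intro j
    apply Nat.cast_injective (R := ℂ)
    rw [← FeitSmall.mu_of_expansion (x := x) (expansion hS χ) j,
      FeitSmall.mu_of_expansion (x := x) (c := fun j => ((Finset.univ.filter fun r => jr r = j).card : ℂ))
        (fun i => ?_) j]
    show σ.character (x ^ i.val) = _
    rw [Char.character_pow σ x b μ hμ, ← Finset.sum_fiberwise Finset.univ jr]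
    refine Finset.sum_congr rfl fun j _ => ?_
    rw [Finset.sum_congr rfl (fun r hr => show μ r ^ i.val = ζp (i * j) by
      rw [← hjr, (Finset.mem_filter.mp hr).2, ← ζ_pow_val]), Finset.sum_const, nsmul_eq_mul]
  have hjinj : Function.Injective jr := fun r s hrs => by
    have h1 := hw1 (jr r)
    rw [← hcnt] at h1
    exact Finset.card_le_one.mp h1 r (by simp) s (by simp [hrs])
  -- every `p`-element in an eigenbasis
  have key : ∀ y, PEl p y → ¬ Scal ρ y → ∃ (b' : Basis (Fin (finrank ℂ V)) ℂ V) (i : ZMod p), i ≠ 0 ∧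
      ∀ r, ρ y (b' r) = ((ℓ y)⁻¹ * ζp (i * jr r)) • b' r := by
    intro y hy hys
    obtain ⟨R, hR⟩ := exists_sylow_mem (hy.map (QuotientGroup.mk' N))
    obtain ⟨a, ha⟩ := MulAction.exists_smul_eq (G ⧸ N) PH R
    have hy' : a⁻¹ * QuotientGroup.mk' N y * a ∈ Subgroup.zpowers x := by
      rw [← hxP]
      rw [← ha] at hR
      have h2 : QuotientGroup.mk' N y ∈ MulAut.conj a • (PH : Subgroup (G ⧸ N)) := hR
      rw [Subgroup.mem_pointwise_smul_iff_inv_smul_mem] at h2
      simpa [MulAut.smul_def] using h2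
    obtain ⟨i, hi⟩ := hS.exists_pw hy'
    have hi0 : i ≠ 0 := by
      rintro rfl
      rw [hS.pw_zero] at hi
      have h1 : QuotientGroup.mk' N y = 1 := by
        calc QuotientGroup.mk' N y = a * (a⁻¹ * QuotientGroup.mk' N y * a) * a⁻¹ := by group
          _ = 1 := by rw [hi]; group
      exact hys (hNscal y ((QuotientGroup.eq_one_iff y).mp h1))
    let e : V ≃ₗ[ℂ] V := LinearEquiv.ofLinear (σ a) (σ a⁻¹)
      (by rw [← Module.End.mul_eq_comp, ← map_mul, mul_inv_cancel, map_one]; rfl)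
      (by rw [← Module.End.mul_eq_comp, ← map_mul, inv_mul_cancel, map_one]; rfl)
    refine ⟨b.map e, i, hi0, fun r => ?_⟩
    have hσy : σ (QuotientGroup.mk' N y) (σ a (b r)) = ζp (i * jr r) • σ a (b r) := by
      rw [show QuotientGroup.mk' N y = a * pw x i * a⁻¹ by rw [← hi]; group, rho_mul_apply, rho_mul_apply,
        rho_inv_apply, pw, map_pow]
      have hp' : ∀ m : ℕ, (σ x ^ m) (b r) = μ r ^ m • b r := by
        intro m
        induction m with
        | zero => simp
        | succ m ih => rw [pow_succ, Module.End.mul_apply, hμ r, map_smul, ih, smul_smul, pow_succ']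
      rw [hp', map_smul, ← hjr, ← ζ_pow_val]
    rw [hσ, hρ', LinearMap.smul_apply] at hσy
    show ρ y (σ a (b r)) = _ • σ a (b r)
    rw [mul_smul, ← hσy, inv_smul_smul₀ (hl0 y)]
  refine ⟨fun y hy hys c => ?_, fun h hh hhp hhs => ?_, ?_⟩
  · obtain ⟨b', i, hi, hb'⟩ := key y hy hys
    refine (finrank_eigen_le _ b' _ hb' c).trans (Finset.card_le_one.mpr fun r hr s hs => ?_)
    have h1 := mul_left_cancel₀ (inv_ne_zero (hl0 y))
      ((Finset.mem_filter.mp hr).2.trans (Finset.mem_filter.mp hs).2.symm)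
    exact hjinj (mul_left_cancel₀ hi (ζ_inj h1))
  · obtain ⟨b', i, hi, hb'⟩ := key h hhp hhs
    have h1 := (finrank_eigen_le _ b' _ hb' (1 : ℂ)).trans (Finset.card_le_card (show
      (Finset.univ.filter fun r => (ℓ h)⁻¹ * ζp (i * jr r) = 1) ⊆ Finset.univ.filter fun r => jr r = 0 by
      intro r hr
      rw [Finset.mem_filter, hl1 h hh, inv_one, one_mul, ← ζ_zero (p := p)] at hr
      exact Finset.mem_filter.mpr ⟨Finset.mem_univ _,
        (mul_eq_zero.mp (ζ_inj hr.2)).resolve_left hi⟩))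
    rw [hcnt] at h1
    omega
  · -- a commutator
    obtain ⟨l, hl⟩ : ∃ l : L, l ∉ K x L := by
      by_contra hcon
      push Not at hcon
      rw [(Subgroup.eq_top_iff' (K x L)).mpr hcon, Subgroup.index_top] at hidx
      omega
    set c := (l : G ⧸ N) * x * (l : G ⧸ N)⁻¹ * x⁻¹ with hc
    have hcmem : c ∈ commutator (G ⧸ N) :=
      Subgroup.commutator_mem_commutator (Subgroup.mem_top _) (Subgroup.mem_top _)
    have hc1 : c ≠ 1 := fun h => hl (mem_K.mpr (by
      rw [hc, mul_inv_eq_one, mul_inv_eq_iff_eq_mul] at h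
      exact h.symm))
    have hcp : PEl p c := by
      refine pEl_of_mem PH.isPGroup' ?_
      rw [hxP]
      exact mul_mem ((alphaVal_spec hS l) ▸ hS.pw_mem _) (inv_mem (Subgroup.mem_zpowers x))
    rw [commutator_def, ← (MonoidHom.range_eq_top.mpr (QuotientGroup.mk'_surjective N)),
      MonoidHom.range_eq_map, ← Subgroup.map_commutator] at hcmem
    obtain ⟨g, hg, hgc⟩ := hcmem
    obtain ⟨e, he, hef⟩ := exists_ppart (p := p) g
    have hge : QuotientGroup.mk' N (g ^ e) = c := (hef _ (by rw [hgc]; exact hcp)).trans hgc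
    refine ⟨g ^ e, pow_mem hg e, he, fun hs => hc1 ?_⟩
    rw [← hge]
    exact (QuotientGroup.eq_one_iff _).mpr (MonoidHom.mem_ker.mpr (hker _ he hs))

end Cfsg.Agent.FeitBound
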