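/-
Eigenspaces and small consequences of the induction hypothesis (namespace `Cfsg.Agent.FeitBound`).

Main results: `Good` (the induction statement), `ft` (degree below `(p - 1) / 2`), `eigSub`, `pcomm_of_eigen`,
`comm_closure`, `Idx.pow_scal`.
-/
import Cfsg.Agent.Lib.FeitBound.Spec

set_option autoImplicit false
set_option linter.unusedSectionVars false
set_option linter.style.haveILetI false

namespace Cfsg.Agent.FeitBound

open Module

universe u

/-- The statement for the groups and representations of total size at most `k`. -/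
def Good (p k : ℕ) : Prop :=
  ∀ (H : Type u) [Group H] [Finite H] (W : Type) [AddCommGroup W] [Module ℂ W] [FiniteDimensional ℂ W]
    (σ : Representation ℂ H W), Nat.card H + finrank ℂ W ≤ k → finrank ℂ W + 2 ≤ p → σ.IsIrreducible →
      ¬ PComm p σ → Idx p σ

section closure

variable {G : Type*} [Group G] {M : Type*} [Monoid M]

theorem commute_map_inv (f : G →* M) {a : G} {m : M} (h : Commute (f a) m) : Commute (f a⁻¹) m := by
  show f a⁻¹ * m = m * f a⁻¹
  calc f a⁻¹ * m = f a⁻¹ * (m * f a) * f a⁻¹ := by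
        rw [mul_assoc, mul_assoc m, ← map_mul, mul_inv_cancel, map_one, mul_one]
    _ = m * f a⁻¹ := by rw [← h.eq, ← mul_assoc (f a⁻¹), ← map_mul, inv_mul_cancel, map_one, one_mul]

theorem comm_closure_one (f : G →* M) {S : Set G} {m : M} (h : ∀ a ∈ S, Commute (f a) m) {a : G}
    (ha : a ∈ Subgroup.closure S) : Commute (f a) m := by
  induction ha using Subgroup.closure_induction with
  | mem a ha => exact h a ha
  | one => rw [map_one]; exact Commute.one_left m
  | mul a b _ _ iha ihb => rw [map_mul]; exact iha.mul_left ihb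
  | inv a _ iha => exact commute_map_inv f iha

/-- Generators with commuting images give commuting images. -/
theorem comm_closure (f : G →* M) {S : Set G} (h : ∀ a ∈ S, ∀ b ∈ S, Commute (f a) (f b)) {a b : G}
    (ha : a ∈ Subgroup.closure S) (hb : b ∈ Subgroup.closure S) : Commute (f a) (f b) :=
  comm_closure_one f (fun a' ha' => (comm_closure_one f (fun b' hb' => (h a' ha' b' hb').symm) hb).symm) ha

/-- A homomorphism with commutative image kills the derived subgroup. -/
theorem map_commutator_eq_one (f : G →* M) (h : ∀ a b : G, Commute (f a) (f b)) {a : G}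
    (ha : a ∈ commutator G) : f a = 1 := by
  refine MonoidHom.mem_ker.mp ((Subgroup.commutator_le.mpr fun a _ b _ => ?_) ha)
  rw [MonoidHom.mem_ker, commutatorElement_def, map_mul, map_mul, map_mul, (h a b).eq, mul_assoc (f b),
    ← map_mul f a, mul_inv_cancel, map_one, mul_one, ← map_mul, mul_inv_cancel, map_one]

end closure

variable {G : Type u} [Group G] [Finite G] {V : Type} [AddCommGroup V] [Module ℂ V] [FiniteDimensional ℂ V]
  {ρ : Representation ℂ G V} {p : ℕ}

theorem Idx.pow_scal (hI : Idx p ρ) (Q : Sylow p G) {z : G} (hz : z ∈ Q) : Scal ρ (z ^ p) := by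
  by_contra hzp
  obtain ⟨k, hk⟩ := hI Q (z ^ p) (pow_mem hz p) z hz hzp
  have hstep : ∀ i : ℕ, Scal ρ (z * (z ^ (p * k) ^ i)⁻¹) := by
    intro i
    induction i with
    | zero => rw [pow_zero, pow_one, mul_inv_cancel]; exact Scal.one
    | succ i ih =>
      have h1 := ih.mul (hk.pow ((p * k) ^ i))
      have hc : Commute z ((z ^ p) ^ k)⁻¹ := ((Commute.refl z).pow_right p).pow_right k |>.inv_right
      rwa [hc.mul_pow, inv_pow, ← pow_mul, ← pow_mul, mul_assoc, inv_mul_cancel_left, ← mul_assoc p,
        ← pow_succ'] at h1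
  obtain ⟨j, hj⟩ := Q.isPGroup' ⟨z, hz⟩
  have h2 := hstep j
  rw [mul_pow, pow_mul, show z ^ p ^ j = 1 from congrArg Subtype.val hj, one_pow, inv_one, mul_one] at h2
  exact hzp (h2.pow p)

/-- Degree below `(p - 1) / 2`: the images of the `p`-elements commute. -/
theorem ft [Fact p.Prime] (hp5 : 5 ≤ p) {k : ℕ} (hG : Good.{u} p k) (σ : Representation ℂ G V)
    (hk : Nat.card G + finrank ℂ V ≤ k) (hd : 2 * finrank ℂ V + 1 < p) : PComm p σ := by
  refine pcomm_of_irr fun W hW => ?_
  by_contra hP
  have hle := Submodule.finrank_le W.toSubmodule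
  have hI := hG G W.toSubmodule W.toRepresentation (by omega) (by omega) hW hP
  have hS := spec hp5 W.toRepresentation (by omega) hI hP
  obtain ⟨h, hh, hhp, hhs⟩ := hS.derived
  have := hS.moved h hh hhp hhs
  omega

/-- The eigenspace of an element as a subrepresentation of a subgroup commuting with it. -/
def eigSub (H : Subgroup G) (g : G) (hc : ∀ h ∈ H, ρ h * ρ g = ρ g * ρ h) (c : ℂ) :
    Subrepresentation (res ρ H) :=
  ⟨Module.End.eigenspace (ρ g) c, fun h v hv => by
    rw [Module.End.mem_eigenspace_iff] at hv ⊢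
    show ρ g (ρ (h : G) v) = c • ρ (h : G) v
    have := LinearMap.congr_fun (hc h h.2) v
    rw [Module.End.mul_apply, Module.End.mul_apply, hv, map_smul] at this
    exact this.symm⟩

theorem eigSub_toSubmodule (H : Subgroup G) (g : G) (hc : ∀ h ∈ H, ρ h * ρ g = ρ g * ρ h) (c : ℂ) :
    (eigSub H g hc c).toSubmodule = Module.End.eigenspace (ρ g) c := rfl

theorem apply_of_sub {H : Subgroup G} {q : Subrepresentation (res ρ H)} (h : PComm p q.toRepresentation)
    {a b : H} (ha : PEl p a) (hb : PEl p b) {v : V} (hv : v ∈ q.toSubmodule) :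
    ρ (a : G) (ρ (b : G) v) = ρ (b : G) (ρ (a : G) v) :=
  congrArg Subtype.val (LinearMap.congr_fun (h a b ha hb) ⟨v, hv⟩)

/-- Commutation on every eigenspace. -/
theorem pcomm_of_eigen (H : Subgroup G) (g : G) (hc : ∀ h ∈ H, ρ h * ρ g = ρ g * ρ h)
    (h : ∀ c : ℂ, Module.End.eigenspace (ρ g) c ≠ ⊥ → PComm p (eigSub H g hc c).toRepresentation) :
    PComm p (res ρ H) := by
  intro a b ha hb
  obtain ⟨e, μ, hμ, -⟩ := Char.exists_eigenbasis ρ g
  refine e.ext fun i => ?_
  have hmem : e i ∈ Module.End.eigenspace (ρ g) (μ i) := Module.End.mem_eigenspace_iff.mpr (hμ i)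
  exact apply_of_sub (h _ fun hb => e.ne_zero i ((Submodule.mem_bot ℂ).mp (hb ▸ hmem))) ha hb hmem

/-- Two eigenspaces. -/
theorem finrank_eigen_add (f : Module.End ℂ V) {c c' : ℂ} (hne : c ≠ c') :
    finrank ℂ (f.eigenspace c) + finrank ℂ (f.eigenspace c') ≤ finrank ℂ V := by
  have hd : f.eigenspace c ⊓ f.eigenspace c' = ⊥ := by
    refine (Submodule.eq_bot_iff _).mpr fun v hv => ?_
    obtain ⟨h1, h2⟩ := Submodule.mem_inf.mp hv
    rw [Module.End.mem_eigenspace_iff] at h1 h2
    have h3 : (c - c') • v = 0 := by rw [sub_smul, ← h1, ← h2, sub_self]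
    exact (smul_eq_zero.mp h3).resolve_left (sub_ne_zero.mpr hne)
  have h := Submodule.finrank_sup_add_finrank_inf_eq (f.eigenspace c) (f.eigenspace c')
  rw [hd, finrank_bot] at h
  have h2 := Submodule.finrank_le (f.eigenspace c ⊔ f.eigenspace c')
  omega

theorem finrank_inf_ge (A B : Submodule ℂ V) :
    finrank ℂ A + finrank ℂ B ≤ finrank ℂ V + finrank ℂ (A ⊓ B : Submodule ℂ V) := by
  have h := Submodule.finrank_sup_add_finrank_inf_eq A B
  have h2 := Submodule.finrank_le (A ⊔ B)
  omega

/-- An eigenspace meets a subrepresentation in an eigenspace of the restriction. -/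
theorem finrank_inf_le {H : Subgroup G} (q : Subrepresentation (res ρ H)) (h : H) (c : ℂ) :
    finrank ℂ (q.toSubmodule ⊓ Module.End.eigenspace (ρ (h : G)) c : Submodule ℂ V) ≤
      finrank ℂ (Module.End.eigenspace (q.toRepresentation h) c) := by
  refine le_trans (Submodule.finrank_mono ?_)
    (Submodule.finrank_map_le q.toSubmodule.subtype (Module.End.eigenspace (q.toRepresentation h) c))
  rintro v ⟨hv, hv'⟩
  refine ⟨⟨v, hv⟩, Module.End.mem_eigenspace_iff.mpr (Subtype.ext ?_), rfl⟩
  exact Module.End.mem_eigenspace_iff.mp hv'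

theorem scal_of_eigen_top {g : G} {c : ℂ} (h : Module.End.eigenspace (ρ g) c = ⊤) : Scal ρ g :=
  ⟨c, LinearMap.ext fun v => by
    have := Module.End.mem_eigenspace_iff.mp (h ▸ (Submodule.mem_top : v ∈ (⊤ : Submodule ℂ V)))
    simpa using this⟩

end Cfsg.Agent.FeitBound
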