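/-
The quotient by scalars (namespace `Cfsg.Agent.FeitBound`).

Main results: `exists_quot` (a faithful twist with a Sylow subgroup of order `p` that is not normal),
`center_quot_equiv`.
-/
import Cfsg.Agent.Lib.FeitBound.Tools

set_option autoImplicit false
set_option linter.unusedSectionVars false
set_option linter.style.haveILetI false

namespace Cfsg.Agent.FeitBound

open Module Cfsg
open scoped Pointwise

universe u

variable {G : Type u} [Group G] [Finite G] {V : Type} [AddCommGroup V] [Module ℂ V] [FiniteDimensional ℂ V]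

/-- The quotient of `G` by the kernel of a twist of `ρ`. -/
structure QuotData (p : ℕ) [Fact p.Prime] (ρ : Representation ℂ G V) (Q : Type u) [Group Q] (π : G →* Q)
    (σ : Representation ℂ Q V) : Prop where
  surj : Function.Surjective π
  irr : σ.IsIrreducible
  inj : Function.Injective σ
  smul : ∀ g, ∃ l : ℂ, l ≠ 0 ∧ σ (π g) = l • ρ g
  sylow : ∃ P : Sylow p Q, Nat.card (P : Subgroup Q) = p ∧ ¬ (P : Subgroup Q).Normal
  nn : ∀ M : Subgroup Q, M.Normal → Nat.card M ≠ p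

set_option maxHeartbeats 800000 in
theorem exists_quot {p : ℕ} [hp : Fact p.Prime] (ρ : Representation ℂ G V) [ρ.IsIrreducible]
    (hd : finrank ℂ V < p) (hI : Idx p ρ) (hP : ¬ PComm p ρ) :
    ∃ (Q : Type u) (_ : Group Q) (_ : Finite Q) (π : G →* Q) (σ : Representation ℂ Q V),
      QuotData p ρ Q π σ := by
  haveI := CharApp.nontrivial_of_irr ρ
  obtain ⟨ℓ, ρ', hρ', hl0, -, hker⟩ := exists_twist (p := p) ρ (by omega)
  set N : Subgroup G := ρ'.ker
  have hNscal : ∀ g ∈ N, Scal ρ g := fun g hg => ⟨(ℓ g)⁻¹, by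
    have h : ℓ g • ρ g = 1 := (hρ' g).symm.trans (MonoidHom.mem_ker.mp hg)
    rw [← h, inv_smul_smul₀ (hl0 g)]⟩
  let σ : Representation ℂ (G ⧸ N) V := QuotientGroup.lift N ρ' le_rfl
  have hσ : ∀ g : G, σ (QuotientGroup.mk' N g) = ρ' g := fun g => rfl
  haveI : σ.IsIrreducible := CharApp.isIrreducible_of_forall_invariant σ fun W hW =>
    CharApp.eq_bot_or_top_of_invariant ρ W fun g v hv => by
      have h : ℓ g • ρ g v ∈ W := by
        have h1 := hW (QuotientGroup.mk' N g) v hv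
        rw [hσ, hρ'] at h1
        exact h1
      simpa [inv_smul_smul₀ (hl0 g)] using W.smul_mem (ℓ g)⁻¹ h
  have hσinj : ∀ a, σ a = 1 → a = 1 := by
    intro a
    obtain ⟨g, rfl⟩ := QuotientGroup.mk'_surjective N a
    intro h
    exact (QuotientGroup.eq_one_iff g).mpr (MonoidHom.mem_ker.mpr ((hσ g).symm.trans h))
  -- a nonscalar `p`-element
  obtain ⟨a0, b0, ha0, hb0, hab0⟩ : ∃ a b, PEl p a ∧ PEl p b ∧ ρ a * ρ b ≠ ρ b * ρ a := by
    simpa [PComm] using hP
  have ha0s : ¬ Scal ρ a0 := fun h => hab0 (h.commute b0)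
  obtain ⟨Q, hQ⟩ := exists_sylow_mem ha0
  set X := QuotientGroup.mk' N a0
  have hX : orderOf X = p := by
    refine orderOf_eq_prime ?_ fun h => ha0s (hNscal a0 ((QuotientGroup.eq_one_iff a0).mp h))
    rw [← map_pow]
    exact (QuotientGroup.eq_one_iff _).mpr (MonoidHom.mem_ker.mpr (hker _ (ha0.pow p) (hI.pow_scal Q hQ)))
  let PH : Sylow p (G ⧸ N) := Q.mapSurjective (QuotientGroup.mk'_surjective N)
  have hPH : (PH : Subgroup (G ⧸ N)) = Subgroup.zpowers X := by
    rw [Sylow.coe_mapSurjective]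
    refine le_antisymm ?_ (Subgroup.zpowers_le.mpr ⟨a0, hQ, rfl⟩)
    rintro _ ⟨y, hy, rfl⟩
    obtain ⟨k, hk⟩ := hI Q a0 hQ y hy ha0s
    have h1 : PEl p (y * (a0 ^ k)⁻¹) := pEl_of_mem Q.isPGroup' (mul_mem hy (inv_mem (pow_mem hQ k)))
    have h2 : QuotientGroup.mk' N (y * (a0 ^ k)⁻¹) = 1 :=
      (QuotientGroup.eq_one_iff _).mpr (MonoidHom.mem_ker.mpr (hker _ h1 hk))
    rw [map_mul, map_inv, mul_inv_eq_one, map_pow] at h2
    rw [h2]
    exact pow_mem (Subgroup.mem_zpowers X) k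
  have hPHc : Nat.card (PH : Subgroup (G ⧸ N)) = p := by rw [hPH, Nat.card_zpowers, hX]
  have hPHn : ¬ (PH : Subgroup (G ⧸ N)).Normal := by
    intro hn
    haveI := Sylow.unique_of_normal PH hn
    refine hP fun a b ha hb => ?_
    obtain ⟨Qa, hQa⟩ := exists_sylow_mem (ha.map (QuotientGroup.mk' N))
    obtain ⟨Qb, hQb⟩ := exists_sylow_mem (hb.map (QuotientGroup.mk' N))
    rw [Subsingleton.elim Qa PH] at hQa
    rw [Subsingleton.elim Qb PH] at hQb
    obtain ⟨i, hi⟩ := Subgroup.mem_zpowers_iff.mp (hPH ▸ hQa : QuotientGroup.mk' N a ∈ Subgroup.zpowers X)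
    obtain ⟨j, hj⟩ := Subgroup.mem_zpowers_iff.mp (hPH ▸ hQb : QuotientGroup.mk' N b ∈ Subgroup.zpowers X)
    have h : σ (QuotientGroup.mk' N a) * σ (QuotientGroup.mk' N b) =
        σ (QuotientGroup.mk' N b) * σ (QuotientGroup.mk' N a) := by
      rw [← hi, ← hj, ← map_mul σ, ← map_mul σ, (Commute.zpow_zpow_self X i j).eq]
    rw [hσ, hσ, hρ', hρ', smul_mul_smul_comm, smul_mul_smul_comm, mul_comm (ℓ b)] at h
    exact smul_right_injective (Module.End ℂ V) (mul_ne_zero (hl0 a) (hl0 b)) h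
  have hnn : ∀ M : Subgroup (G ⧸ N), M.Normal → Nat.card M ≠ p := fun M hM hcard => by
    refine hPHn ?_
    haveI := hM
    obtain ⟨R, hR⟩ := (IsPGroup.of_card (n := 1) (by rw [hcard, pow_one]) : IsPGroup p M).exists_le_sylow
    have hRc : Nat.card (R : Subgroup (G ⧸ N)) = p :=
      (Sylow.card_eq_multiplicity R).trans ((Sylow.card_eq_multiplicity PH).symm.trans hPHc)
    have hRM : (R : Subgroup (G ⧸ N)) = M := (Subgroup.eq_of_le_of_card_ge hR (by rw [hRc, hcard])).symm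
    haveI : (R : Subgroup (G ⧸ N)).Normal := hRM ▸ hM
    haveI := Sylow.unique_of_normal R inferInstance
    rw [Subsingleton.elim PH R]; infer_instance
  exact ⟨G ⧸ N, inferInstance, inferInstance, QuotientGroup.mk' N, σ, QuotientGroup.mk'_surjective N,
    inferInstance, (injective_iff_map_eq_one σ).mpr hσinj, fun g => ⟨ℓ g, hl0 g, (hσ g).trans (hρ' g)⟩,
    ⟨PH, hPHc, hPHn⟩, hnn⟩

variable {p : ℕ} [Fact p.Prime] {ρ : Representation ℂ G V} {Q : Type u} [Group Q] {π : G →* Q}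
  {σ : Representation ℂ Q V}

theorem QuotData.center_iff (D : QuotData p ρ Q π σ) {g : G} : π g ∈ Subgroup.center Q ↔ Scal ρ g := by
  obtain ⟨l, hl, hg⟩ := D.smul g
  haveI := D.irr
  constructor
  · intro h
    obtain ⟨c, hc⟩ := scal_of_center (ρ := σ) h
    exact ⟨l⁻¹ * c, by rw [mul_smul, ← hc, hg, inv_smul_smul₀ hl]⟩
  · rintro ⟨c, hc⟩
    exact mem_center_of_scal D.inj ⟨l * c, by rw [hg, hc, smul_smul]⟩

/-- The quotients by the centres agree. -/
theorem QuotData.center_quot_equiv (D : QuotData p ρ Q π σ) [ρ.IsIrreducible] (hinj : Function.Injective ρ) :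
    Nonempty (G ⧸ Subgroup.center G ≃* Q ⧸ Subgroup.center Q) := by
  let π' : G →* Q ⧸ Subgroup.center Q := (QuotientGroup.mk' _).comp π
  have hπ : π'.ker = Subgroup.center G := by
    ext g
    rw [MonoidHom.mem_ker]
    exact ((QuotientGroup.eq_one_iff _).trans D.center_iff).trans
      ⟨mem_center_of_scal hinj, fun h => scal_of_center h⟩
  exact ⟨(QuotientGroup.quotientMulEquivOfEq hπ).symm.trans
    (QuotientGroup.quotientKerEquivOfSurjective π' ((QuotientGroup.mk'_surjective _).comp D.surj))⟩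

theorem QuotData.dvd_card (D : QuotData p ρ Q π σ) [Finite Q] :
    p ∣ Nat.card Q ∧ ¬ p ^ 2 ∣ Nat.card Q := by
  obtain ⟨P, hP, -⟩ := D.sylow
  refine ⟨hP ▸ Subgroup.card_subgroup_dvd_card _, fun h => ?_⟩
  obtain ⟨R, hR⟩ := Sylow.exists_subgroup_card_pow_prime p h
  obtain ⟨S, hS⟩ := (IsPGroup.of_card hR).exists_le_sylow
  have h1 := Subgroup.card_le_of_le hS
  rw [hR, (Sylow.card_eq_multiplicity S).trans ((Sylow.card_eq_multiplicity P).symm.trans hP)] at h1
  have := (Fact.out : p.Prime).two_le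
  nlinarith

end Cfsg.Agent.FeitBound
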