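/-
Idempotents of rank one and two-dimensional elements of small projective order
(namespace `Cfsg.Agent.FeitBound`).

Main results: `Idem1` with `Idem1.sandwich`, `Idem1.eq_of_kill` (in dimension three an idempotent of rank one
killing two others is determined), `det_eq_prod`, `trace_two`, `overlap_values`, `sum_overlap_ne`, `psl5_pow`.
-/
import Cfsg.Agent.Lib.FeitBound.Rep
import Cfsg.Agent.Lib.PSL2.Facts
import Mathlib.LinearAlgebra.Trace
import Mathlib.LinearAlgebra.Determinant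
import Mathlib.Analysis.SpecialFunctions.Trigonometric.Bounds

set_option autoImplicit false
set_option linter.unusedSectionVars false
set_option linter.style.haveILetI false

namespace Cfsg.Agent.FeitBound

open Module

section idem

variable {V : Type} [AddCommGroup V] [Module ℂ V] [FiniteDimensional ℂ V]

theorem trace_idem {P : Module.End ℂ V} (hP : P * P = P) :
    LinearMap.trace ℂ V P = (finrank ℂ (LinearMap.range P) : ℂ) :=
  ((LinearMap.isProj_range_iff_isIdempotentElem _).mpr hP).trace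

theorem eq_one_of_trace {P : Module.End ℂ V} (hP : P * P = P)
    (h : LinearMap.trace ℂ V P = (finrank ℂ V : ℂ)) : P = 1 := by
  rw [trace_idem hP, Nat.cast_inj] at h
  refine LinearMap.ext fun v => ?_
  obtain ⟨w, rfl⟩ : v ∈ LinearMap.range P := (Submodule.eq_top_of_finrank_eq h) ▸ Submodule.mem_top
  exact LinearMap.congr_fun hP w

/-- An idempotent of rank one. -/
structure Idem1 (P : Module.End ℂ V) : Prop where
  idem : P * P = P
  tr : LinearMap.trace ℂ V P = 1

variable {P Q R S : Module.End ℂ V}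

theorem Idem1.sandwich (hP : Idem1 P) (A : Module.End ℂ V) :
    P * A * P = LinearMap.trace ℂ V (P * A) • P := by
  have h1 : finrank ℂ (LinearMap.range P) = 1 := by
    have := (trace_idem hP.idem).symm.trans hP.tr
    exact_mod_cast this
  obtain ⟨v, -, hv⟩ := finrank_eq_one_iff'.mp h1
  obtain ⟨s, hs⟩ := hv ⟨P (A (v : V)), LinearMap.mem_range_self P _⟩
  have h2 : P * A * P = s • P := by
    refine LinearMap.ext fun w => ?_
    obtain ⟨t, ht⟩ := hv ⟨P w, LinearMap.mem_range_self P w⟩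
    have ht' : t • (v : V) = P w := congrArg Subtype.val ht
    have hs' : s • (v : V) = P (A (v : V)) := congrArg Subtype.val hs
    rw [Module.End.mul_apply, Module.End.mul_apply, LinearMap.smul_apply, ← ht', map_smul, map_smul, ← hs',
      smul_comm]
  have h3 := congrArg (LinearMap.trace ℂ V) h2
  rw [LinearMap.trace_mul_comm ℂ (P * A) P, ← mul_assoc, hP.idem, map_smul, hP.tr, smul_eq_mul, mul_one] at h3
  rw [h2, h3]

theorem Idem1.ne_zero (hP : Idem1 P) : P ≠ 0 := fun e => by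
  have := hP.tr
  rw [e, map_zero] at this
  exact zero_ne_one this

/-- Commuting idempotents of rank one. -/
theorem Idem1.eq_or_mul (hP : Idem1 P) (hQ : Idem1 Q) (hc : P * Q = Q * P) : P = Q ∨ P * Q = 0 := by
  have h1 : P * Q = LinearMap.trace ℂ V (P * Q) • P := by
    rw [← hP.sandwich Q, mul_assoc, ← hc, ← mul_assoc, hP.idem]
  have h2 : P * Q = LinearMap.trace ℂ V (P * Q) • Q := by
    conv_rhs => rw [LinearMap.trace_mul_comm ℂ P Q, ← hQ.sandwich P, mul_assoc, hc, ← mul_assoc, hQ.idem]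
    exact hc
  by_cases h0 : LinearMap.trace ℂ V (P * Q) = 0
  · exact Or.inr (by rw [h1, h0, zero_smul])
  · exact Or.inl (smul_right_injective _ h0 (h1.symm.trans h2))

theorem Idem1.third (hn : finrank ℂ V = 3) (hP : Idem1 P) (hR : Idem1 R) (h1 : P * R = 0) (h2 : R * P = 0) :
    Idem1 (1 - P - R) := by
  constructor
  · simp only [mul_sub, sub_mul, one_mul, mul_one, hP.idem, hR.idem, h1, h2]
    abel
  · rw [map_sub, map_sub, hP.tr, hR.tr, LinearMap.trace_one, hn]
    norm_num

/-- An idempotent of rank one killing two others is determined. -/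
theorem Idem1.eq_of_kill (hn : finrank ℂ V = 3) (hP : Idem1 P) (hQ : Idem1 Q) (hR : Idem1 R) (hS : Idem1 S)
    (hγ : LinearMap.trace ℂ V (P * Q) ≠ 1)
    (hRP : R * P = 0) (hPR : P * R = 0) (hRQ : R * Q = 0) (hQR : Q * R = 0)
    (hSP : S * P = 0) (hPS : P * S = 0) (hSQ : S * Q = 0) (hQS : Q * S = 0) : S = R := by
  set γ := LinearMap.trace ℂ V (P * Q) with hγdef
  set D := P + Q - P * Q - Q * P with hD
  have e1 : P * (Q * P) = γ • P := by rw [← mul_assoc, hP.sandwich, hγdef]
  have e2 : Q * (P * Q) = γ • Q := by rw [← mul_assoc, hQ.sandwich, hγdef, LinearMap.trace_mul_comm]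
  have hPD : P * D = (1 - γ) • P := by
    rw [hD, mul_sub, mul_sub, mul_add, hP.idem, e1, ← mul_assoc, hP.idem, sub_smul, one_smul]
    abel
  have hQD : Q * D = (1 - γ) • Q := by
    rw [hD, mul_sub, mul_sub, mul_add, hQ.idem, e2, ← mul_assoc, hQ.idem, sub_smul, one_smul]
    abel
  have hDD : D * D = (1 - γ) • D := by
    conv_lhs => arg 1; rw [hD]
    rw [sub_mul, sub_mul, add_mul, mul_assoc P Q D, mul_assoc Q P D, hPD, hQD, mul_smul_comm, mul_smul_comm, hD]
    simp only [smul_sub, smul_add]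
  have hg : (1 - γ) ≠ 0 := sub_ne_zero.mpr (Ne.symm hγ)
  set F := (1 - γ)⁻¹ • D with hF
  have hFF : F * F = F := by
    rw [hF, smul_mul_smul_comm, hDD, smul_smul, mul_assoc, inv_mul_cancel₀ hg, mul_one]
  have hFtr : LinearMap.trace ℂ V F = 2 := by
    rw [hF, map_smul, hD, map_sub, map_sub, map_add, hP.tr, hQ.tr, LinearMap.trace_mul_comm ℂ Q P, ← hγdef,
      smul_eq_mul]
    field_simp
    ring
  have key : ∀ T, Idem1 T → T * P = 0 → P * T = 0 → T * Q = 0 → Q * T = 0 → T = 1 - F := by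
    intro T hT hTP hPT hTQ hQT
    have hTD : T * F = 0 := by
      rw [hF, mul_smul_comm, hD, mul_sub, mul_sub, mul_add, hTP, hTQ, ← mul_assoc, hTP, ← mul_assoc, hTQ]
      simp
    have hDT : F * T = 0 := by
      rw [hF, smul_mul_assoc, hD, sub_mul, sub_mul, add_mul, hPT, hQT, mul_assoc, hQT, mul_assoc, hPT]
      simp
    refine eq_sub_of_add_eq (eq_one_of_trace ?_ ?_)
    · rw [add_mul, mul_add, mul_add, hT.idem, hFF, hTD, hDT]
      abel
    · rw [map_add, hT.tr, hFtr, hn]
      norm_num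
  rw [key S hS hSP hPS hSQ hQS, key R hR hRP hPR hRQ hQR]

theorem Idem1.affine_pow (hP : P * P = P) (c r : ℂ) (m : ℕ) :
    (c • (1 + (r - 1) • P)) ^ m = c ^ m • (1 + (r ^ m - 1) • P) := by
  induction m with
  | zero => simp
  | succ m ih =>
    rw [pow_succ, ih, smul_mul_smul_comm, ← pow_succ]
    congr 1
    simp only [mul_add, add_mul, mul_one, one_mul, smul_mul_smul_comm, hP]
    rw [add_assoc, ← add_smul, ← add_smul, pow_succ]
    congr 2
    ring

end idem

section two

variable {V : Type} [AddCommGroup V] [Module ℂ V] [FiniteDimensional ℂ V]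

theorem det_eq_prod {ι : Type*} [Fintype ι] [DecidableEq ι] (f : Module.End ℂ V) (e : Basis ι ℂ V) (μ : ι → ℂ)
    (h : ∀ i, f (e i) = μ i • e i) : LinearMap.det f = ∏ i, μ i := by
  rw [← LinearMap.det_toMatrix e, show LinearMap.toMatrix e e f = Matrix.diagonal μ from ?_, Matrix.det_diagonal]
  ext i j
  rw [LinearMap.toMatrix_apply, h, map_smul, Basis.repr_self, Matrix.diagonal_apply]
  by_cases hij : i = j
  · subst hij; simp
  · simp [Finsupp.single_apply, hij, Ne.symm hij]

theorem trace_eq_sum {ι : Type*} [Fintype ι] [DecidableEq ι] (f : Module.End ℂ V) (e : Basis ι ℂ V) (μ : ι → ℂ)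
    (h : ∀ i, f (e i) = μ i • e i) : LinearMap.trace ℂ V f = ∑ i, μ i := by
  rw [LinearMap.trace_eq_matrix_trace ℂ e, show LinearMap.toMatrix e e f = Matrix.diagonal μ from ?_,
    Matrix.trace_diagonal]
  ext i j
  rw [LinearMap.toMatrix_apply, h, map_smul, Basis.repr_self, Matrix.diagonal_apply]
  by_cases hij : i = j
  · subst hij; simp
  · simp [Finsupp.single_apply, hij, Ne.symm hij]

/-- A rank-one deformation of a scalar in dimension two. -/
theorem det_affine (hn : finrank ℂ V = 2) {P : Module.End ℂ V} (hP : Idem1 P) (c r : ℂ) :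
    LinearMap.det (c • (1 + (r - 1) • P)) = c ^ 2 * r := by
  classical
  have hker : finrank ℂ (LinearMap.ker P) = 1 := by
    have h1 := LinearMap.finrank_range_add_finrank_ker P
    have h2 : finrank ℂ (LinearMap.range P) = 1 := by
      have := (trace_idem hP.idem).symm.trans hP.tr
      exact_mod_cast this
    omega
  obtain ⟨u, hu, hu0⟩ := Submodule.exists_mem_ne_zero_of_ne_bot (p := LinearMap.ker P) fun e => by
    rw [e, finrank_bot] at hker; omega
  obtain ⟨v, hv⟩ : ∃ v, P v ≠ 0 := by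
    by_contra hcon
    push Not at hcon
    exact hP.ne_zero (LinearMap.ext hcon)
  set w := P v
  have hw : P w = w := LinearMap.congr_fun hP.idem v
  have hu' : P u = 0 := LinearMap.mem_ker.mp hu
  have hli : LinearIndependent ℂ ![u, w] := by
    rw [LinearIndependent.pair_iff]
    intro s t hst
    have h1 := congrArg P hst
    rw [map_add, map_smul, map_smul, hu', hw, smul_zero, zero_add, map_zero] at h1
    have ht : t = 0 := (smul_eq_zero.mp h1).resolve_right hv
    rw [ht, zero_smul, add_zero] at hst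
    exact ⟨(smul_eq_zero.mp hst).resolve_right hu0, ht⟩
  let e := basisOfLinearIndependentOfCardEqFinrank hli (by simp [hn])
  rw [det_eq_prod _ e ![c, c * r] fun i => ?_, Fin.prod_univ_two]
  · simp
    ring
  · fin_cases i <;> simp [e, hu', hw, smul_smul, ← add_smul] <;> ring_nf

/-- A scalar power in dimension two. -/
theorem trace_two (hn : finrank ℂ V = 2) {f : Module.End ℂ V} (e : Basis (Fin (finrank ℂ V)) ℂ V)
    (μ : Fin (finrank ℂ V) → ℂ) (h : ∀ i, f (e i) = μ i • e i) (hμ : ∀ i, μ i ≠ 0) {m : ℕ} (hm : 0 < m)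
    {s : ℂ} (hs : f ^ m = s • 1) :
    ∃ r : ℂ, r ^ m = 1 ∧ (r = 1 → ∃ t : ℂ, f = t • 1) ∧
      LinearMap.trace ℂ V f ^ 2 = LinearMap.det f * (2 + r + r⁻¹) := by
  classical
  set i0 : Fin (finrank ℂ V) := ⟨0, by omega⟩
  set i1 : Fin (finrank ℂ V) := ⟨1, by omega⟩
  have hall : ∀ i, i = i0 ∨ i = i1 := fun i => by
    rcases i with ⟨i, hi⟩
    simp only [i0, i1, Fin.mk.injEq]
    omega
  have hne : i0 ≠ i1 := by simp [i0, i1]
  have huniv : (Finset.univ : Finset (Fin (finrank ℂ V))) = {i0, i1} :=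
    (Finset.eq_univ_iff_forall.mpr fun i => by simpa using hall i).symm
  have hpw : ∀ i, μ i ^ m = s := by
    intro i
    have h1 : ∀ j : ℕ, (f ^ j) (e i) = μ i ^ j • e i := by
      intro j
      induction j with
      | zero => simp
      | succ j ih => rw [pow_succ, Module.End.mul_apply, h i, map_smul, ih, smul_smul, pow_succ']
    have h2 := h1 m
    rw [hs, LinearMap.smul_apply, Module.End.one_apply] at h2
    exact (smul_left_injective ℂ (e.ne_zero i) h2).symm
  refine ⟨μ i0 / μ i1, ?_, fun hr => ⟨μ i0, e.ext fun i => ?_⟩, ?_⟩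
  · rw [div_pow, hpw, ← hpw i1, div_self (pow_ne_zero _ (hμ i1))]
  · rw [LinearMap.smul_apply, Module.End.one_apply, h]
    rcases hall i with rfl | rfl
    · rfl
    · rw [(div_eq_one_iff_eq (hμ i1)).mp hr]
  · rw [trace_eq_sum f e μ h, det_eq_prod f e μ h, huniv, Finset.sum_pair hne, Finset.prod_pair hne]
    have h0 := hμ i0
    have h1 := hμ i1
    field_simp
    ring

end two

/-- The traces of elements of projective order at most five. -/
theorem sq_values {r R : ℂ} {s : ℝ} (hs : s ^ 2 = 5) {m : ℕ} (hm : m = 2 ∨ m = 3 ∨ m = 5) (hr : r ^ m = 1)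
    (hr1 : r ≠ 1) (hR : R ^ 2 = 2 + r + r⁻¹) :
    ∃ a : ℝ, R = a ∧ (a = 0 ∨ a = 1 ∨ a = -1 ∨ a = (1 + s) / 2 ∨ a = -(1 + s) / 2 ∨ a = (1 - s) / 2 ∨
      a = -(1 - s) / 2) := by
  have hr0 : r ≠ 0 := fun e => by
    rw [e, zero_pow (by omega)] at hr
    exact zero_ne_one hr
  have hf : r - 1 ≠ 0 := sub_ne_zero.mpr hr1
  have fin : ∀ a : ℝ, R ^ 2 = (a : ℂ) ^ 2 → R = (a : ℂ) ∨ R = ((-a : ℝ) : ℂ) := fun a ha => by
    push_cast
    exact sq_eq_sq_iff_eq_or_eq_neg.mp ha
  rcases hm with rfl | rfl | rfl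
  · have h1 : r = -1 := by
      have : (r - 1) * (r + 1) = 0 := by linear_combination hr
      exact eq_neg_of_add_eq_zero_left ((mul_eq_zero.mp this).resolve_left hf)
    refine ⟨0, ?_, Or.inl rfl⟩
    rw [h1] at hR
    norm_num at hR
    simp [hR]
  · have h1 : r ^ 2 + r + 1 = 0 := by
      have : (r - 1) * (r ^ 2 + r + 1) = 0 := by linear_combination hr
      exact (mul_eq_zero.mp this).resolve_left hf
    have h2 : R ^ 2 = ((1 : ℝ) : ℂ) ^ 2 := by
      rw [hR]
      push_cast
      field_simp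
      linear_combination h1
    rcases fin 1 h2 with h | h
    · exact ⟨1, h, Or.inr (Or.inl rfl)⟩
    · exact ⟨-1, h, Or.inr (Or.inr (Or.inl rfl))⟩
  · have h1 : r ^ 4 + r ^ 3 + r ^ 2 + r + 1 = 0 := by
      have : (r - 1) * (r ^ 4 + r ^ 3 + r ^ 2 + r + 1) = 0 := by linear_combination hr
      exact (mul_eq_zero.mp this).resolve_left hf
    have hs' : (s : ℂ) ^ 2 = 5 := by exact_mod_cast hs
    have h2 : (R ^ 2 - (((1 + s) / 2 : ℝ) : ℂ) ^ 2) * (R ^ 2 - (((1 - s) / 2 : ℝ) : ℂ) ^ 2) = 0 := by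
      have hq : (R ^ 2) ^ 2 - 3 * R ^ 2 + 1 = 0 := by
        rw [hR]
        field_simp
        linear_combination h1
      push_cast
      linear_combination hq + (-(R ^ 2) / 2 + ((s : ℂ) ^ 2 + 3) / 16) * hs'
    rcases mul_eq_zero.mp h2 with h | h
    · rcases fin _ (sub_eq_zero.mp h) with h' | h'
      · exact ⟨_, h', by right; right; right; left; rfl⟩
      · exact ⟨_, h', by right; right; right; right; left; ring⟩
    · rcases fin _ (sub_eq_zero.mp h) with h' | h'
      · exact ⟨_, h', by right; right; right; right; right; left; rfl⟩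
      · exact ⟨_, h', by right; right; right; right; right; right; ring⟩

/-- Two such traces with sum `(3 + √5) / 2`. -/
theorem overlap_values {R R' r r' : ℂ} {s : ℝ} (hs0 : 0 ≤ s) (hs : s ^ 2 = 5) {m m' : ℕ}
    (hm : m = 2 ∨ m = 3 ∨ m = 5) (hm' : m' = 2 ∨ m' = 3 ∨ m' = 5) (hr : r ^ m = 1) (hr' : r' ^ m' = 1)
    (h1 : r ≠ 1) (h1' : r' ≠ 1) (hR : R ^ 2 = 2 + r + r⁻¹) (hR' : R' ^ 2 = 2 + r' + r'⁻¹)
    (hsum : R + R' = (((3 + s) / 2 : ℝ) : ℂ)) : R = 1 ∨ R = (((1 + s) / 2 : ℝ) : ℂ) := by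
  obtain ⟨a, rfl, ha⟩ := sq_values hs hm hr h1 hR
  obtain ⟨b, rfl, hb⟩ := sq_values hs hm' hr' h1' hR'
  rw [← Complex.ofReal_add, Complex.ofReal_inj] at hsum
  have h2 : 2.236 < s := by nlinarith
  have h3 : s < 2.237 := by nlinarith
  have key : a = 1 ∨ a = (1 + s) / 2 := by
    rcases ha with rfl | rfl | rfl | rfl | rfl | rfl | rfl
    · exfalso; rcases hb with rfl | rfl | rfl | rfl | rfl | rfl | rfl <;> linarith
    · exact Or.inl rfl
    · exfalso; rcases hb with rfl | rfl | rfl | rfl | rfl | rfl | rfl <;> linarith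
    · exact Or.inr rfl
    all_goals (exfalso; rcases hb with rfl | rfl | rfl | rfl | rfl | rfl | rfl <;> linarith)
  rcases key with rfl | rfl
  · exact Or.inl Complex.ofReal_one
  · exact Or.inr rfl

/-- The sum of three overlaps, scaled by `ε = (5 - √5) / 2`. -/
theorem sum_overlap_ne {s : ℝ} (hs0 : 0 ≤ s) (hs : s ^ 2 = 5) {a b c : ℂ}
    (ha : a = 1 ∨ a = (((3 - s) / 2 : ℝ) : ℂ)) (hb : b = 1 ∨ b = (((3 - s) / 2 : ℝ) : ℂ))
    (hc : c = 1 ∨ c = (((3 - s) / 2 : ℝ) : ℂ)) : a + b + c ≠ (((5 - s) / 2 : ℝ) : ℂ) := by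
  have h2 : 2.236 < s := by nlinarith
  have h3 : s < 2.237 := by nlinarith
  intro e
  have e' := congrArg Complex.re e
  rcases ha with rfl | rfl <;> rcases hb with rfl | rfl <;> rcases hc with rfl | rfl <;>
    simp only [Complex.add_re, Complex.ofReal_re, Complex.one_re] at e' <;> linarith

/-- A primitive fifth root of unity with positive real part. -/
theorem exists_omega : ∃ (ω : ℂ) (s : ℝ), IsPrimitiveRoot ω 5 ∧ 0 ≤ s ∧ s ^ 2 = 5 ∧
    ω + ω⁻¹ = (((s - 1) / 2 : ℝ) : ℂ) := by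
  set ω := Complex.exp (2 * Real.pi * Complex.I / 5)
  have hω : IsPrimitiveRoot ω 5 := by
    have := Complex.isPrimitiveRoot_exp 5 (by norm_num)
    simpa [ω] using this
  have hω0 : ω ≠ 0 := Complex.exp_ne_zero _
  set a : ℝ := 2 * Real.cos (2 * Real.pi / 5)
  have ha : ω + ω⁻¹ = (a : ℂ) := by
    rw [show ω⁻¹ = Complex.exp (-(2 * Real.pi * Complex.I / 5)) from (Complex.exp_neg _).symm]
    simp only [ω, a]
    push_cast
    rw [Complex.two_cos]
    congr 1 <;> congr 1 <;> ring
  have hpos : 0 ≤ a := mul_nonneg (by norm_num) (Real.cos_nonneg_of_mem_Icc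
    ⟨by linarith [Real.pi_pos], by linarith [Real.pi_pos]⟩)
  have h4 : ω ^ 4 + ω ^ 3 + ω ^ 2 + ω + 1 = 0 := by
    have := hω.geom_sum_eq_zero (by norm_num)
    simp only [Finset.sum_range_succ, Finset.sum_range_zero] at this
    linear_combination this
  have hq : a ^ 2 + a - 1 = 0 := by
    have : ((a ^ 2 + a - 1 : ℝ) : ℂ) = 0 := by
      push_cast
      rw [← ha]
      field_simp
      linear_combination h4
    exact_mod_cast this
  refine ⟨ω, 2 * a + 1, hω, by linarith, by linear_combination 4 * hq, ?_⟩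
  rw [ha]
  congr 1
  ring

/-- The element orders of `PSL(2, 5)`. -/
theorem psl5_pow (x : Matrix.ProjectiveSpecialLinearGroup (Fin 2) (ZMod 5)) :
    ∃ m : ℕ, (m = 2 ∨ m = 3 ∨ m = 5) ∧ x ^ m = 1 := by
  haveI : Fact (Nat.Prime 5) := ⟨by norm_num⟩
  have h := PSL2.psl_orderOf_cases (F := ZMod 5) 5 x
  have hc : Nat.card (ZMod 5) = 5 := Nat.card_zmod 5
  rw [hc] at h
  rcases h with h | h | h
  · exact ⟨2, Or.inl rfl, orderOf_dvd_iff_pow_eq_one.mp (by simpa using h)⟩
  · exact ⟨3, Or.inr (Or.inl rfl), orderOf_dvd_iff_pow_eq_one.mp (by simpa using h)⟩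
  · exact ⟨5, Or.inr (Or.inr rfl), orderOf_dvd_iff_pow_eq_one.mp h⟩

end Cfsg.Agent.FeitBound
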