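/-
The minimal counterexample: centralizers of nonscalar elements (namespace `Cfsg.Agent.FeitBound`).

Main results: `Min`, `Min.ft_sub`, `Min.spec_sub`, `Min.scal_of_conj_comm` (a `p`-element whose conjugates
commute is scalar).
-/
import Cfsg.Agent.Lib.FeitBound.Tools

set_option autoImplicit false
set_option linter.unusedSectionVars false
set_option linter.style.haveILetI false

namespace Cfsg.Agent.FeitBound

open Module
open scoped Pointwise

universe u

variable {G : Type u} [Group G] [Finite G] {V : Type} [AddCommGroup V] [Module ℂ V] [FiniteDimensional ℂ V]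
  {p : ℕ} [Fact p.Prime]

theorem Scal.conj {ρ : Representation ℂ G V} {z : G} (hz : Scal ρ z) (a : G) : Scal ρ (a * z * a⁻¹) := by
  obtain ⟨c, hc⟩ := hz
  refine ⟨c, ?_⟩
  rw [map_mul, map_mul, hc, mul_smul_comm, mul_one, smul_mul_assoc, ← map_mul, mul_inv_cancel, map_one]

/-- A minimal configuration. -/
structure Min (p : ℕ) (ρ : Representation ℂ G V) (k : ℕ) : Prop where
  hp5 : 5 ≤ p
  card : Nat.card G + finrank ℂ V = k + 1
  good : Good.{u} p k
  inj : Function.Injective ρ
  deg : finrank ℂ V + 2 ≤ p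
  irr : ρ.IsIrreducible
  np : ¬ PComm p ρ

variable {ρ : Representation ℂ G V} {k : ℕ} (h : Min p ρ k)
include h

theorem Min.card_lt {H : Subgroup G} (hH : H ≠ ⊤) : Nat.card H + finrank ℂ V ≤ k := by
  have h1 : Nat.card H < Nat.card G := by
    refine lt_of_le_of_ne (Nat.le_of_dvd Nat.card_pos (Subgroup.card_subgroup_dvd_card H)) fun e => ?_
    exact hH (Subgroup.card_eq_iff_eq_top H |>.mp e)
  have := h.card
  omega

theorem Min.centralizer_ne_top {g : G} (hg : ¬ Scal ρ g) : Subgroup.centralizer ({g} : Set G) ≠ ⊤ := by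
  intro e
  haveI := h.irr
  refine hg (scal_of_center (Subgroup.mem_center_iff.mpr fun b => ?_))
  exact Subgroup.mem_centralizer_singleton_iff.mp (e ▸ Subgroup.mem_top b : b ∈ _)

theorem Min.rho_comm {g : G} (a : G) (ha : a ∈ Subgroup.centralizer ({g} : Set G)) :
    ρ a * ρ g = ρ g * ρ a := by
  rw [← map_mul, ← map_mul, Subgroup.mem_centralizer_singleton_iff.mp ha]

/-- Proper subrepresentations of small degree. -/
theorem Min.ft_sub (H : Subgroup G) (q : Subrepresentation (res ρ H))
    (hd : 2 * finrank ℂ q.toSubmodule + 1 < p) (hlt : finrank ℂ q.toSubmodule < finrank ℂ V) :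
    PComm p q.toRepresentation := by
  refine ft h.hp5 h.good _ ?_ hd
  have h1 := Nat.le_of_dvd Nat.card_pos (Subgroup.card_subgroup_dvd_card H)
  have := h.card
  omega

theorem Min.spec_sub {H : Subgroup G} (q : Subrepresentation (res ρ H)) (hH : H ≠ ⊤)
    (hi : q.toRepresentation.IsIrreducible) (hP : ¬ PComm p q.toRepresentation) :
    Idx p q.toRepresentation ∧ Spec p q.toRepresentation ∧ p ≤ 2 * finrank ℂ q.toSubmodule + 1 := by
  have hle := Submodule.finrank_le q.toSubmodule
  have hd := h.deg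
  have hI := h.good H q.toSubmodule q.toRepresentation (by have := h.card_lt hH; omega) (by omega) hi hP
  have hS := spec h.hp5 q.toRepresentation (by omega) hI hP
  refine ⟨hI, hS, ?_⟩
  by_contra hlt
  exact hP (ft h.hp5 h.good _ (by have := h.card_lt hH; omega) (by omega))

/-- A `p`-element whose conjugates commute is scalar. -/
theorem Min.scal_of_conj_comm {x : G} (hx : PEl p x)
    (hc : ∀ a b : G, (a * x * a⁻¹) * (b * x * b⁻¹) = (b * x * b⁻¹) * (a * x * a⁻¹)) : Scal ρ x := by
  by_contra hxs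
  set A := Subgroup.normalClosure ({x} : Set G)
  have hS : ∀ a ∈ Group.conjugatesOfSet ({x} : Set G), ∃ c : G, a = c * x * c⁻¹ := by
    intro a ha
    obtain ⟨y, hy, hyc⟩ := Group.mem_conjugatesOfSet_iff.mp ha
    rw [Set.mem_singleton_iff] at hy
    obtain ⟨c, hc'⟩ := isConj_iff.mp hyc
    exact ⟨c, by rw [← hc', hy]⟩
  have hA : IsPGroup p A := (pgroup_closure (S := Group.conjugatesOfSet ({x} : Set G))
    (fun a ha b hb => by
      obtain ⟨c, rfl⟩ := hS a ha
      obtain ⟨d, rfl⟩ := hS b hb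
      exact hc c d)
    (fun a ha => by obtain ⟨c, rfl⟩ := hS a ha; exact hx.conj c)).1
  have hd := h.deg
  have hxcomm : ∀ g, PEl p g → Commute (ρ g) (ρ x) := fun g hg =>
    (comm_normal (by omega) A hA (Subgroup.subset_normalClosure rfl) hg).symm
  set M := Subgroup.closure {g : G | PEl p g}
  have hM : ∀ g ∈ M, ρ g * ρ x = ρ x * ρ g := fun g hg => comm_closure_one ρ hxcomm hg
  obtain ⟨e, μ, hμ, -⟩ := Char.exists_eigenbasis ρ x
  obtain ⟨i, j, hij⟩ : ∃ i j, μ i ≠ μ j := by
    by_contra hall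
    push Not at hall
    rcases Nat.eq_zero_or_pos (finrank ℂ V) with h0 | h0
    · haveI : Subsingleton V := Module.finrank_zero_iff.mp h0
      exact hxs ⟨1, Subsingleton.elim _ _⟩
    · exact hxs ⟨μ ⟨0, h0⟩, e.ext fun r => by rw [hμ r, hall r ⟨0, h0⟩]; rfl⟩
  have hne : ∀ r, e r ∈ Module.End.eigenspace (ρ x) (μ r) := fun r => Module.End.mem_eigenspace_iff.mpr (hμ r)
  obtain ⟨r, hr⟩ : ∃ r, 2 * finrank ℂ (Module.End.eigenspace (ρ x) (μ r)) ≤ finrank ℂ V := by
    by_contra hcon
    push Not at hcon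
    have := finrank_eigen_add (ρ x) hij
    have := hcon i
    have := hcon j
    omega
  set W := eigSub (ρ := ρ) M x hM (μ r)
  have hWd : 2 * finrank ℂ W.toSubmodule ≤ finrank ℂ V := hr
  have hn : 0 < finrank ℂ V := by
    rw [Module.finrank_eq_card_basis e]; exact Fintype.card_pos_iff.mpr ⟨i⟩
  have hPW := h.ft_sub M W (by omega) (by omega)
  -- the vectors on which the `p`-elements commute
  let U : Submodule ℂ V := ⨅ a : {a : G // PEl p a}, ⨅ b : {b : G // PEl p b},
    LinearMap.ker (ρ a.1 * ρ b.1 - ρ b.1 * ρ a.1)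
  have hU : ∀ v, v ∈ U ↔ ∀ a b : G, PEl p a → PEl p b → ρ a (ρ b v) = ρ b (ρ a v) := by
    intro v
    simp [U, sub_eq_zero]
    exact ⟨fun H a b ha hb => H a ha b hb, fun H a ha b hb => H a b ha hb⟩
  have hUG : ∀ g : G, ∀ v ∈ U, ρ g v ∈ U := by
    intro g v hv
    rw [hU] at hv ⊢
    intro a b ha hb
    have h1 := congrArg (ρ g) (hv (g⁻¹ * a * g) (g⁻¹ * b * g)
      (by simpa using ha.conj g⁻¹) (by simpa using hb.conj g⁻¹))
    simp only [← rho_mul_apply] at h1 ⊢
    convert h1 using 3 <;> group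
  haveI := h.irr
  rcases CharApp.eq_bot_or_top_of_invariant ρ U hUG with hbot | htop
  · refine e.ne_zero r ((Submodule.mem_bot ℂ).mp (hbot ▸ (hU _).mpr fun a b ha hb => ?_))
    exact apply_of_sub hPW (a := ⟨a, Subgroup.subset_closure ha⟩) (b := ⟨b, Subgroup.subset_closure hb⟩)
      (pEl_coe.mp ha) (pEl_coe.mp hb) (hne r)
  · exact h.np fun a b ha hb => LinearMap.ext fun v => (hU v).mp (htop ▸ Submodule.mem_top) a b ha hb

end Cfsg.Agent.FeitBound
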