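/-
The tight case: two `p`-elements with large eigenspaces (namespace `Cfsg.Agent.FeitBound`).

Main results: `Min.exists_pair` (two noncommuting `p`-elements with large eigenspaces force degree `p - 2` and
a third one commuting with both), `Min.false_of_big_seven` (no such pair for `p ≥ 7`).
-/
import Cfsg.Agent.Lib.FeitBound.Minimal

set_option autoImplicit false
set_option linter.unusedSectionVars false
set_option linter.style.haveILetI false

namespace Cfsg.Agent.FeitBound

open Module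
open scoped Pointwise

universe u

section two_step

variable {G : Type*} [Group G] [Finite G] {V : Type} [AddCommGroup V] [Module ℂ V] [FiniteDimensional ℂ V]
  {ρ : Representation ℂ G V}

/-- An element trivial on a subspace and on the quotient is trivial. -/
theorem eq_one_of_two_step {g : G} (W : Submodule ℂ V) (hW : ∀ v ∈ W, ρ g v = v)
    (hq : ∀ v, ρ g v - v ∈ W) : ρ g = 1 := by
  obtain ⟨e, μ, hμ, -⟩ := Char.exists_eigenbasis ρ g
  refine e.ext fun i => ?_
  have h1 := hW _ (hq (e i))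
  rw [hμ i, map_sub, map_smul, hμ i] at h1
  have h2 : ((μ i - 1) * (μ i - 1)) • e i = 0 := by
    rw [show (μ i - 1) * (μ i - 1) = μ i * μ i - μ i - (μ i - 1) by ring, sub_smul, sub_smul, sub_smul,
      one_smul, ← smul_smul, h1, sub_self]
  rw [hμ i, sub_eq_zero.mp (mul_self_eq_zero.mp ((smul_eq_zero.mp h2).resolve_right (e.ne_zero i))), one_smul,
    Module.End.one_apply]

/-- A subrepresentation on whose quotient two generators act by scalars: so does everything. -/
theorem sub_mem_of_commutator {X : Subgroup G} (W : Subrepresentation (res ρ X)) {x y : G}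
    (hx : x ∈ X) (hy : y ∈ X) (htop : Subgroup.closure ({⟨x, hx⟩, ⟨y, hy⟩} : Set X) = ⊤) {c d : ℂ}
    (hc : ∀ v, ρ x v - c • v ∈ W.toSubmodule) (hd : ∀ v, ρ y v - d • v ∈ W.toSubmodule) {u : X}
    (hu : u ∈ commutator X) (v : V) : ρ (u : G) v - v ∈ W.toSubmodule := by
  let τ : X →* Module.End ℂ (V ⧸ W.toSubmodule) :=
    { toFun := fun a => W.toSubmodule.mapQ W.toSubmodule (ρ (a : G)) fun v hv => W.apply_mem_toSubmodule a hv
      map_one' := Submodule.linearMap_qext _ (LinearMap.ext fun v => by simp)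
      map_mul' := fun a b => Submodule.linearMap_qext _ (LinearMap.ext fun v =>
        congrArg Submodule.Quotient.mk (rho_mul_apply (ρ := ρ) (a : G) (b : G) v)) }
  have hτ : ∀ (a : X) (v : V), τ a (Submodule.Quotient.mk v) = Submodule.Quotient.mk (ρ (a : G) v) :=
    fun a v => rfl
  have hgen : ∀ a ∈ ({⟨x, hx⟩, ⟨y, hy⟩} : Set X), ∃ s : ℂ, τ a = s • 1 := by
    rintro a (rfl | rfl)
    · exact ⟨c, Submodule.linearMap_qext _ (LinearMap.ext fun v => (Submodule.Quotient.eq _).mpr (hc v))⟩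
    · exact ⟨d, Submodule.linearMap_qext _ (LinearMap.ext fun v => (Submodule.Quotient.eq _).mpr (hd v))⟩
  have h1 : τ u = 1 := map_commutator_eq_one τ (fun a b => comm_closure τ (fun a' ha' b' hb' => by
      obtain ⟨s, hs⟩ := hgen a' ha'
      rw [hs]
      exact (Commute.one_left _).smul_left s)
    (htop ▸ Subgroup.mem_top a) (htop ▸ Subgroup.mem_top b)) hu
  have h2 := hτ u v
  rw [h1, Module.End.one_apply] at h2
  exact (Submodule.Quotient.eq _).mp h2.symm

end two_step

variable {G : Type u} [Group G] [Finite G] {V : Type} [AddCommGroup V] [Module ℂ V] [FiniteDimensional ℂ V]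
  {p : ℕ} [hp : Fact p.Prime] {ρ : Representation ℂ G V} {k : ℕ} (h : Min p ρ k)
include h

/-- Two noncommuting `p`-elements with eigenvalues of multiplicity above half of the degree. -/
structure Pair (p : ℕ) (ρ : Representation ℂ G V) {x y : G} {X : Subgroup G}
    (W : Subrepresentation (res ρ X)) (hx : x ∈ X) (hy : y ∈ X) (c d : ℂ) : Prop where
  top : X ≠ ⊤
  irr : W.toRepresentation.IsIrreducible
  np : ¬ PComm p W.toRepresentation
  idx : Idx p W.toRepresentation
  spec : Spec p W.toRepresentation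
  dim : 2 * finrank ℂ W.toSubmodule + 1 = p
  deg : finrank ℂ V + 2 = p
  nx : ¬ Scal W.toRepresentation ⟨x, hx⟩
  ny : ¬ Scal W.toRepresentation ⟨y, hy⟩
  qx : ∀ v, ρ x v - c • v ∈ W.toSubmodule
  qy : ∀ v, ρ y v - d • v ∈ W.toSubmodule
  third : ∃ (z : G) (a : ℂ), PEl p z ∧ a ≠ c ∧ z * x = x * z ∧ z * y = y * z ∧
    (∀ v ∈ W.toSubmodule, ρ z v = a • v) ∧ ∀ v, ρ z v - c • v ∈ W.toSubmodule

set_option maxHeartbeats 1000000 in
/-- Two noncommuting `p`-elements with large eigenspaces. -/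
theorem Min.exists_pair {x y : G} (hxp : PEl p x) (hyp : PEl p y) {c d : ℂ}
    (hc : finrank ℂ V < 2 * finrank ℂ (Module.End.eigenspace (ρ x) c))
    (hd : finrank ℂ V < 2 * finrank ℂ (Module.End.eigenspace (ρ y) d))
    (hne : ρ x * ρ y ≠ ρ y * ρ x) :
    ∃ (X : Subgroup G) (W : Subrepresentation (res ρ X)) (hx : x ∈ X) (hy : y ∈ X), Pair p ρ W hx hy c d := by
  set E := Module.End.eigenspace (ρ x) c
  set E' := Module.End.eigenspace (ρ y) d
  set U0 := E ⊓ E'
  have hU0 : U0 ≠ ⊥ := fun e => by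
    have := finrank_inf_ge E E'
    rw [show E ⊓ E' = ⊥ from e, finrank_bot] at this
    omega
  set X := Subgroup.closure ({x, y} : Set G)
  have hxX : x ∈ X := Subgroup.subset_closure (Set.mem_insert _ _)
  have hyX : y ∈ X := Subgroup.subset_closure (Set.mem_insert_of_mem _ rfl)
  have hX : X ≠ ⊤ := by
    intro hX
    have hfix : ∀ a ∈ X, ∀ v ∈ U0, ρ a v ∈ U0 := by
      suffices hs : ∀ a ∈ X, ∃ s : ℂ, ∀ v ∈ U0, ρ a v = s • v from fun a ha v hv => by
        obtain ⟨s, hs⟩ := hs a ha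
        rw [hs v hv]; exact U0.smul_mem s hv
      intro a ha
      induction ha using Subgroup.closure_induction with
      | mem a ha =>
        rcases ha with rfl | rfl
        · exact ⟨c, fun v hv => Module.End.mem_eigenspace_iff.mp hv.1⟩
        · exact ⟨d, fun v hv => Module.End.mem_eigenspace_iff.mp hv.2⟩
      | one => exact ⟨1, fun v _ => by simp⟩
      | mul a b _ _ iha ihb =>
        obtain ⟨s, hs⟩ := iha
        obtain ⟨s', hs'⟩ := ihb
        exact ⟨s' * s, fun v hv => by rw [rho_mul_apply, hs' v hv, map_smul, hs v hv, smul_smul]⟩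
      | inv a _ iha =>
        obtain ⟨s, hs⟩ := iha
        refine ⟨s⁻¹, fun v hv => ?_⟩
        have h1 : v = s • ρ a⁻¹ v := by rw [← map_smul, ← hs v hv, rho_inv_apply]
        by_cases hs0 : s = 0
        · rw [hs0, zero_smul] at h1
          simp [h1]
        · conv_rhs => rw [h1]
          rw [inv_smul_smul₀ hs0]
    haveI := h.irr
    rcases CharApp.eq_bot_or_top_of_invariant ρ U0 (fun a => hfix a (hX ▸ Subgroup.mem_top a)) with e | e
    · exact hU0 e
    · exact hne ((scal_of_eigen_top (eq_top_iff.mpr (e.symm.le.trans inf_le_left))).commute y)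
  have htop : Subgroup.closure ({⟨x, hxX⟩, ⟨y, hyX⟩} : Set X) = ⊤ := by
    rw [← Subgroup.closure_closure_coe_preimage (k := ({x, y} : Set G))]
    congr 1
    ext ⟨z, hz⟩
    simp [Subtype.ext_iff]
  obtain ⟨W, hW, hWP⟩ : ∃ W : Subrepresentation (res ρ X), W.toRepresentation.IsIrreducible ∧
      ¬ PComm p W.toRepresentation := by
    by_contra hcon
    push Not at hcon
    exact hne (pcomm_of_irr hcon ⟨x, hxX⟩ ⟨y, hyX⟩ (pEl_coe.mp hxp) (pEl_coe.mp hyp))
  obtain ⟨hI, hS, hdim⟩ := h.spec_sub W hX hW hWP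
  have hgen : ∀ a b : X, Scal W.toRepresentation a → ({a, b} : Set X) = {⟨x, hxX⟩, ⟨y, hyX⟩} → False := by
    intro a b hs he
    refine hWP fun a' b' _ _ => ?_
    refine comm_closure W.toRepresentation (S := {a, b}) ?_ (he.symm ▸ htop ▸ Subgroup.mem_top a')
      (he.symm ▸ htop ▸ Subgroup.mem_top b')
    rintro s (rfl | rfl) s' (rfl | rfl)
    · exact Commute.refl _
    · exact hs.commute _
    · exact (hs.commute _).symm
    · exact Commute.refl _
  have hnx : ¬ Scal W.toRepresentation ⟨x, hxX⟩ := fun hs => hgen _ ⟨y, hyX⟩ hs rfl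
  have hny : ¬ Scal W.toRepresentation ⟨y, hyX⟩ := fun hs => hgen _ ⟨x, hxX⟩ hs (Set.pair_comm _ _)
  -- the counts
  have hcount : ∀ (g : G) (hg : g ∈ X), PEl p g → ¬ Scal W.toRepresentation ⟨g, hg⟩ → ∀ s : ℂ,
      finrank ℂ V < 2 * finrank ℂ (Module.End.eigenspace (ρ g) s) →
      2 * finrank ℂ W.toSubmodule + 1 = p ∧ finrank ℂ V + 2 = p ∧
        0 < finrank ℂ (W.toSubmodule ⊓ Module.End.eigenspace (ρ g) s : Submodule ℂ V) ∧
        ∀ v, ρ g v - s • v ∈ W.toSubmodule := by
    intro g hg hgp hgs s hs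
    have h1 := hS.simple ⟨g, hg⟩ (pEl_coe.mp hgp) hgs s
    have h2 : finrank ℂ (W.toSubmodule ⊓ Module.End.eigenspace (ρ g) s : Submodule ℂ V) ≤
        finrank ℂ (Module.End.eigenspace (W.toRepresentation ⟨g, hg⟩) s) := finrank_inf_le W ⟨g, hg⟩ s
    have h3 := finrank_inf_ge W.toSubmodule (Module.End.eigenspace (ρ g) s)
    have h4 := Submodule.finrank_sup_add_finrank_inf_eq W.toSubmodule (Module.End.eigenspace (ρ g) s)
    have h5 := Submodule.finrank_le (W.toSubmodule ⊔ Module.End.eigenspace (ρ g) s)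
    have h6 := h.deg
    have hsup : W.toSubmodule ⊔ Module.End.eigenspace (ρ g) s = ⊤ :=
      Submodule.eq_top_of_finrank_eq (by omega)
    refine ⟨by omega, by omega, by omega, fun v => ?_⟩
    obtain ⟨w, hw, e, he, rfl⟩ := Submodule.mem_sup.mp (hsup ▸ Submodule.mem_top : v ∈ _ ⊔ _)
    rw [map_add, Module.End.mem_eigenspace_iff.mp he, smul_add, add_sub_add_right_eq_sub]
    exact Submodule.sub_mem _ (W.apply_mem_toSubmodule ⟨g, hg⟩ hw) (W.toSubmodule.smul_mem s hw)
  obtain ⟨hWd, hn, hline, hqx⟩ := hcount x hxX hxp hnx c hc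
  obtain ⟨-, -, -, hqy⟩ := hcount y hyX hyp hny d hd
  -- a commutator in the Sylow subgroup of `x`
  obtain ⟨Q, hQ⟩ := exists_sylow_mem (pEl_coe.mp hxp : PEl p (⟨x, hxX⟩ : X))
  obtain ⟨h0, hh0, hh0p, hh0s⟩ := hS.derived
  obtain ⟨R, hR⟩ := exists_sylow_mem hh0p
  obtain ⟨g, hg⟩ := MulAction.exists_smul_eq X R Q
  set h1 := g * h0 * g⁻¹
  have hh1Q : h1 ∈ Q := by
    rw [← hg]
    show g * h0 * g⁻¹ ∈ (MulAut.conj g • (R : Subgroup X))
    exact Subgroup.smul_mem_pointwise_smul h0 (MulAut.conj g) _ hR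
  have hh1c : h1 ∈ commutator X := (inferInstance : (commutator X).Normal).conj_mem _ hh0 g
  have hh1s : ¬ Scal W.toRepresentation h1 := fun hs => hh0s (by
    have := hs.conj (ρ := W.toRepresentation) g⁻¹
    simpa [h1, mul_assoc] using this)
  obtain ⟨j, a, ha⟩ := hI Q h1 hh1Q ⟨x, hxX⟩ hQ hh1s
  set z0 : X := ⟨x, hxX⟩ * (h1 ^ j)⁻¹
  have hz0 : z0 ∈ Q := mul_mem hQ (inv_mem (pow_mem hh1Q j))
  have hzW : ∀ v ∈ W.toSubmodule, ρ (z0 : G) v = a • v := fun v hv => by
    exact congrArg Subtype.val (LinearMap.congr_fun ha ⟨v, hv⟩)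
  have hq1 : ∀ u ∈ commutator X, ∀ v, ρ (u : G) v - v ∈ W.toSubmodule := fun u hu v =>
    sub_mem_of_commutator W hxX hyX htop hqx hqy hu v
  have hqz : ∀ v, ρ (z0 : G) v - c • v ∈ W.toSubmodule := by
    intro v
    have h3 := hq1 _ (inv_mem (pow_mem hh1c j)) v
    have h4 : ρ (z0 : G) v - c • v = ρ x (ρ (((h1 ^ j)⁻¹ : X) : G) v - v) + (ρ x v - c • v) := by
      rw [map_sub, sub_add_sub_cancel, ← rho_mul_apply]
      rfl
    rw [h4]
    exact Submodule.add_mem _ (W.apply_mem_toSubmodule ⟨x, hxX⟩ h3) (hqx v)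
  have hac : a ≠ c := by
    intro hac
    obtain ⟨w, hw, hw0⟩ := Submodule.exists_mem_ne_zero_of_ne_bot
      (p := W.toSubmodule ⊓ Module.End.eigenspace (ρ x) c) fun e => by rw [e, finrank_bot] at hline; omega
    -- the power of the commutator fixes `w`
    have hfix : ρ ((h1 ^ j : X) : G) w = w := by
      have e1 : ((h1 ^ j : X) : G) = (z0 : G)⁻¹ * x := by
        simp [z0]
      have hc0 : c ≠ 0 := fun e => hw0 (by
        have h7 := Module.End.mem_eigenspace_iff.mp hw.2
        rw [e, zero_smul] at h7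
        rw [← rho_inv_apply (ρ := ρ) x w, h7, map_zero])
      rw [e1, rho_mul_apply, Module.End.mem_eigenspace_iff.mp hw.2, map_smul]
      have h7 := congrArg (ρ (z0 : G)⁻¹) (hzW w hw.1)
      rw [rho_inv_apply, map_smul, hac] at h7
      exact h7.symm
    by_cases hjs : Scal W.toRepresentation (h1 ^ j)
    · refine hnx ?_
      have h8 := (show Scal W.toRepresentation z0 from ⟨a, ha⟩).mul hjs
      simpa [z0, inv_mul_cancel_right] using h8
    · have h8 := hS.moved _ (pow_mem hh1c j) (pEl_of_mem Q.isPGroup' (pow_mem hh1Q j)) hjs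
      have h9 : (⟨w, hw.1⟩ : W.toSubmodule) ∈
          Module.End.eigenspace (W.toRepresentation (h1 ^ j)) (1 : ℂ) := by
        rw [Module.End.mem_eigenspace_iff, one_smul]
        exact Subtype.ext hfix
      have h10 : 0 < finrank ℂ (Module.End.eigenspace (W.toRepresentation (h1 ^ j)) (1 : ℂ)) :=
        Nat.pos_of_ne_zero fun e => by
          rw [Submodule.finrank_eq_zero] at e
          rw [e, Submodule.mem_bot] at h9
          exact hw0 (congrArg Subtype.val h9)
      omega
  have hcom : ∀ b : X, z0 * b = b * z0 := by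
    intro b
    set u := z0 * b * z0⁻¹ * b⁻¹
    have hu : u ∈ commutator X := Subgroup.commutator_mem_commutator (Subgroup.mem_top _) (Subgroup.mem_top _)
    have huW : W.toRepresentation u = 1 := by
      have hzs : Scal W.toRepresentation z0 := ⟨a, ha⟩
      rw [show u = z0 * b * z0⁻¹ * b⁻¹ from rfl, map_mul, map_mul, map_mul, hzs.commute,
        mul_assoc (W.toRepresentation b), ← map_mul _ z0, mul_inv_cancel, map_one, mul_one, ← map_mul,
        mul_inv_cancel, map_one]
    have hu1 : ρ (u : G) = 1 := eq_one_of_two_step W.toSubmodule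
      (fun v hv => congrArg Subtype.val (LinearMap.congr_fun huW ⟨v, hv⟩)) (hq1 u hu)
    have hu2 : u = 1 := Subtype.ext (h.inj (hu1.trans (map_one ρ).symm))
    rwa [show u = z0 * b * z0⁻¹ * b⁻¹ from rfl, mul_inv_eq_one, mul_inv_eq_iff_eq_mul] at hu2
  exact ⟨X, W, hxX, hyX, hX, hW, hWP, hI, hS, hWd, hn, hnx, hny, hqx, hqy, (z0 : G), a,
    pEl_coe.mpr (pEl_of_mem Q.isPGroup' hz0), hac,
    congrArg Subtype.val (hcom ⟨x, hxX⟩), congrArg Subtype.val (hcom ⟨y, hyX⟩), hzW, hqz⟩

omit h in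
/-- The third element has two eigenvalues. -/
theorem eigen_of_two_step {z : G} {a c : ℂ} (W : Submodule ℂ V) (hW : ∀ v ∈ W, ρ z v = a • v)
    (hq : ∀ v, ρ z v - c • v ∈ W) {μ : ℂ} {v : V} (hv : ρ z v = μ • v) (hv0 : v ≠ 0) : μ = a ∨ μ = c := by
  have h1 := hq v
  rw [hv, ← sub_smul] at h1
  by_cases hμ : μ = c
  · exact Or.inr hμ
  · left
    have hvW : v ∈ W := by
      have := W.smul_mem (μ - c)⁻¹ h1
      rwa [inv_smul_smul₀ (sub_ne_zero.mpr hμ)] at this
    exact smul_left_injective ℂ hv0 (hv.symm.trans (hW v hvW))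

/-- A nonscalar `p`-element with a large eigenspace fails to commute with a conjugate. -/
theorem Min.exists_noncomm_conj {z : G} (hzp : PEl p z) (hzs : ¬ Scal ρ z) {a : ℂ}
    (hbig : finrank ℂ V < 2 * finrank ℂ (Module.End.eigenspace (ρ z) a)) :
    ∃ g : G, finrank ℂ V < 2 * finrank ℂ (Module.End.eigenspace (ρ (g * z * g⁻¹)) a) ∧
      ρ z * ρ (g * z * g⁻¹) ≠ ρ (g * z * g⁻¹) * ρ z := by
  obtain ⟨g, hg⟩ : ∃ g : G, ρ z * ρ (g * z * g⁻¹) ≠ ρ (g * z * g⁻¹) * ρ z := by
    by_contra hcon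
    push Not at hcon
    refine hzs (h.scal_of_conj_comm hzp fun a b => ?_)
    have h1 : z * ((a⁻¹ * b) * z * (a⁻¹ * b)⁻¹) = (a⁻¹ * b) * z * (a⁻¹ * b)⁻¹ * z :=
      h.inj (by rw [map_mul ρ z, map_mul ρ ((a⁻¹ * b) * z * (a⁻¹ * b)⁻¹)]; exact hcon _)
    simpa [mul_assoc] using congrArg (fun t => a * t * a⁻¹) h1
  have hbig' : finrank ℂ V < 2 * finrank ℂ (Module.End.eigenspace (ρ (g * z * g⁻¹)) a) := by
    refine lt_of_lt_of_le hbig (Nat.mul_le_mul_left 2 ?_)
    have hinj : Function.Injective (ρ g) := fun u v huv => by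
      rw [← rho_inv_apply (ρ := ρ) g u, huv, rho_inv_apply]
    rw [(Submodule.equivMapOfInjective (ρ g) hinj _).finrank_eq]
    refine Submodule.finrank_mono ?_
    rintro _ ⟨v, hv, rfl⟩
    refine Module.End.mem_eigenspace_iff.mpr ?_
    rw [rho_mul_apply, rho_mul_apply, rho_inv_apply, Module.End.mem_eigenspace_iff.mp hv, map_smul]
  exact ⟨g, hbig', hg⟩

/-- For `p ≥ 7` there is no such pair. -/
theorem Min.false_of_big_seven (hp7 : 7 ≤ p) {x y : G} (hxp : PEl p x) (hyp : PEl p y) {c d : ℂ}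
    (hc : finrank ℂ V < 2 * finrank ℂ (Module.End.eigenspace (ρ x) c))
    (hd : finrank ℂ V < 2 * finrank ℂ (Module.End.eigenspace (ρ y) d))
    (hne : ρ x * ρ y ≠ ρ y * ρ x) : False := by
  obtain ⟨X, W, hx, hy, P⟩ := h.exists_pair hxp hyp hc hd hne
  obtain ⟨z, a, hzp, hac, -, -, hzW, hzq⟩ := P.third
  have hbig : finrank ℂ V < 2 * finrank ℂ (Module.End.eigenspace (ρ z) a) := by
    have hle : W.toSubmodule ≤ Module.End.eigenspace (ρ z) a := fun v hv =>
      Module.End.mem_eigenspace_iff.mpr (hzW v hv)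
    have := Submodule.finrank_mono hle
    have := P.dim
    have := P.deg
    omega
  have hzs : ¬ Scal ρ z := by
    rintro ⟨s, hs⟩
    have hne0 : W.toSubmodule ≠ ⊥ := fun e => by
      have := P.dim
      rw [e, finrank_bot] at this
      omega
    obtain ⟨w, hw, hw0⟩ := Submodule.exists_mem_ne_zero_of_ne_bot hne0
    have hsa : s = a := smul_left_injective ℂ hw0 (by
      show s • w = a • w
      rw [← hzW w hw, hs]; rfl)
    have hlt : finrank ℂ W.toSubmodule < finrank ℂ V := by have := P.dim; have := P.deg; omega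
    obtain ⟨v, hv⟩ : ∃ v, v ∉ W.toSubmodule := by
      by_contra hcon
      push Not at hcon
      rw [(Submodule.eq_top_iff'.mpr hcon), finrank_top] at hlt
      omega
    refine hac ?_
    by_contra hne'
    refine hv ?_
    have h1 := hzq v
    rw [hs, LinearMap.smul_apply, Module.End.one_apply, hsa, ← sub_smul] at h1
    have := W.toSubmodule.smul_mem (a - c)⁻¹ h1
    rwa [inv_smul_smul₀ (sub_ne_zero.mpr hne')] at this
  obtain ⟨g, hbig', hg⟩ := h.exists_noncomm_conj hzp hzs hbig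
  obtain ⟨X', W', hz', hzg', P'⟩ := h.exists_pair hzp (hzp.conj g) hbig hbig' hg
  obtain ⟨e, μ, hμ, -⟩ := Char.exists_eigenbasis W'.toRepresentation (⟨z, hz'⟩ : X')
  have hμac : ∀ i, μ i = a ∨ μ i = c := fun i =>
    eigen_of_two_step (ρ := ρ) W.toSubmodule hzW hzq (v := (e i : V))
      (congrArg Subtype.val (hμ i)) (fun h0 => e.ne_zero i (Subtype.ext h0))
  have hμi : Function.Injective μ := by
    intro i j hij
    by_contra hne'
    have hsimp := P'.spec.simple _ (pEl_coe.mp hzp) P'.nx (μ i)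
    have hli : LinearIndependent ℂ ![e i, e j] :=
      by
      have h1 := e.linearIndependent.comp ![i, j] (by
        intro s t; fin_cases s <;> fin_cases t <;> simp [hne', Ne.symm hne'])
      rwa [show ⇑e ∘ ![i, j] = ![e i, e j] from by funext s; fin_cases s <;> rfl] at h1
    have hle : Submodule.span ℂ (Set.range ![e i, e j]) ≤
        Module.End.eigenspace (W'.toRepresentation ⟨z, hz'⟩) (μ i) := by
      rw [Submodule.span_le]
      rintro _ ⟨s, rfl⟩
      fin_cases s
      · exact Module.End.mem_eigenspace_iff.mpr (hμ i)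
      · exact Module.End.mem_eigenspace_iff.mpr (hij ▸ hμ j)
    have h2 := Submodule.finrank_mono hle
    rw [finrank_span_eq_card hli, Fintype.card_fin] at h2
    omega
  classical
  have hcard : finrank ℂ W'.toSubmodule ≤ ({a, c} : Finset ℂ).card := by
    rw [← Fintype.card_fin (finrank ℂ W'.toSubmodule), ← Finset.card_univ]
    exact Finset.card_le_card_of_injOn μ (fun i _ => by simpa using hμac i) (hμi.injOn)
  have := P'.dim
  rw [Finset.card_pair hac] at hcard
  omega

end Cfsg.Agent.FeitBound
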