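/-
Degree three and the prime five: homologies of order five do not occur (namespace `Cfsg.Agent.FeitBound`).

Main results: `Hom5`, `Min.exists_hom` (a normalised homology), `Min.overlap` (the trace of the product of two
noncommuting axes), `Min.false_of_big_five`.
-/
import Cfsg.Agent.Lib.FeitBound.Tight
import Cfsg.Agent.Lib.FeitBound.Homology
import Cfsg.Agent.Lib.FeitBound.Quot

set_option autoImplicit false
set_option linter.unusedSectionVars false
set_option linter.style.haveILetI false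

namespace Cfsg.Agent.FeitBound

open Module Cfsg

universe u

variable {G : Type u} [Group G] [Finite G] {V : Type} [AddCommGroup V] [Module ℂ V] [FiniteDimensional ℂ V]
  {p : ℕ} {ρ : Representation ℂ G V}

/-- A normalised homology. -/
structure Hom5 (p : ℕ) (ρ : Representation ℂ G V) (ω : ℂ) (x : G) (P : Module.End ℂ V) : Prop where
  pel : PEl p x
  idem : Idem1 P
  form : ∃ c : ℂ, c ≠ 0 ∧ ρ x = c • (1 + (ω - 1) • P)

variable {ω : ℂ} {x y : G} {P Q : Module.End ℂ V}

theorem affine_commute {c r : ℂ} (hc : c ≠ 0) (hr : r ≠ 1) (A : Module.End ℂ V) :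
    (c • (1 + (r - 1) • P)) * A = A * (c • (1 + (r - 1) • P)) ↔ P * A = A * P := by
  rw [smul_mul_assoc, mul_smul_comm, (smul_right_injective _ hc).eq_iff, add_mul, mul_add, one_mul, mul_one,
    smul_mul_assoc, mul_smul_comm, add_right_inj]
  exact (smul_right_injective _ (sub_ne_zero.mpr hr)).eq_iff

theorem Hom5.comm_iff (hω : ω ≠ 1) (hx : Hom5 p ρ ω x P) (hy : Hom5 p ρ ω y Q) :
    ρ x * ρ y = ρ y * ρ x ↔ P * Q = Q * P := by
  obtain ⟨c, hc, ex⟩ := hx.form
  obtain ⟨d, hd, ey⟩ := hy.form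
  rw [ex, affine_commute hc hω, ey]
  exact ⟨fun e => ((affine_commute hd hω P).mp e.symm).symm, fun e => ((affine_commute hd hω P).mpr e.symm).symm⟩

theorem Hom5.conj (hx : Hom5 p ρ ω x P) (g : G) : Hom5 p ρ ω (g * x * g⁻¹) (ρ g * P * ρ g⁻¹) := by
  have hg : ρ g⁻¹ * ρ g = 1 := by rw [← map_mul, inv_mul_cancel, map_one]
  have hg' : ρ g * ρ g⁻¹ = 1 := by rw [← map_mul, mul_inv_cancel, map_one]
  refine ⟨hx.pel.conj g, ⟨?_, ?_⟩, ?_⟩
  · calc ρ g * P * ρ g⁻¹ * (ρ g * P * ρ g⁻¹) = ρ g * P * (ρ g⁻¹ * ρ g) * P * ρ g⁻¹ := by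
          simp only [mul_assoc]
      _ = _ := by rw [hg, mul_one, mul_assoc (ρ g) P P, hx.idem.idem]
  · rw [LinearMap.trace_mul_comm, ← mul_assoc, hg, one_mul, hx.idem.tr]
  · obtain ⟨c, hc, ex⟩ := hx.form
    refine ⟨c, hc, ?_⟩
    rw [map_mul, map_mul, ex, mul_smul_comm, smul_mul_assoc, mul_add, add_mul, mul_one, hg', mul_smul_comm,
      smul_mul_assoc]

theorem Hom5.kill_big (hn : finrank ℂ V = 3) (hx : Hom5 p ρ ω x P) :
    ∃ c, ρ x = c • (1 + (ω - 1) • P) ∧ finrank ℂ V < 2 * finrank ℂ (Module.End.eigenspace (ρ x) c) := by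
  obtain ⟨c, -, ex⟩ := hx.form
  refine ⟨c, ex, ?_⟩
  have h1 := LinearMap.finrank_range_add_finrank_ker P
  have h2 : finrank ℂ (LinearMap.range P) = 1 := by
    have := (trace_idem hx.idem.idem).symm.trans hx.idem.tr
    exact_mod_cast this
  have h3 : LinearMap.ker P ≤ Module.End.eigenspace (ρ x) c := fun v hv => by
    rw [Module.End.mem_eigenspace_iff, ex]
    simp [LinearMap.mem_ker.mp hv]
  have := Submodule.finrank_mono h3
  omega

theorem Hom5.third (hn : finrank ℂ V = 3) (hω0 : ω ≠ 0) (hinj : Function.Injective ρ) (hx : Hom5 p ρ ω x P)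
    (hy : Hom5 p ρ ω y Q) (h1 : P * Q = 0) (h2 : Q * P = 0) [Fact p.Prime] :
    Hom5 p ρ ω (x * y)⁻¹ (1 - P - Q) := by
  obtain ⟨c, hc, ex⟩ := hx.form
  obtain ⟨d, hd, ey⟩ := hy.form
  have hcomm : Commute x y := hinj (by
    rw [map_mul, map_mul, ex, ey, affine_commute_of hc hd h1 h2])
  refine ⟨(hx.pel.mul hy.pel hcomm).inv, hx.idem.third hn hy.idem h1 h2, (c * d * ω)⁻¹,
    inv_ne_zero (mul_ne_zero (mul_ne_zero hc hd) hω0), ?_⟩
  set M := (c * d * ω)⁻¹ • (1 + (ω - 1) • (1 - P - Q))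
  have hM : ρ (x * y) * M = 1 := by
    rw [map_mul, ex, ey, smul_mul_smul_comm, smul_mul_smul_comm]
    simp only [mul_add, add_mul, mul_sub, sub_mul, mul_one, one_mul, smul_mul_assoc, mul_smul_comm, h1, h2,
      hx.idem.idem, hy.idem.idem, smul_zero, smul_add, smul_sub, smul_smul, zero_mul, mul_zero, add_zero, sub_zero]
    match_scalars <;> field_simp <;> ring
  calc ρ (x * y)⁻¹ = ρ (x * y)⁻¹ * (ρ (x * y) * M) := by rw [hM, mul_one]
    _ = M := by rw [← mul_assoc, ← map_mul, inv_mul_cancel, map_one, one_mul]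
where
  affine_commute_of {c d : ℂ} (hc : c ≠ 0) (hd : d ≠ 0) (h1 : P * Q = 0) (h2 : Q * P = 0) :
      (c • (1 + (ω - 1) • P)) * (d • (1 + (ω - 1) • Q)) = (d • (1 + (ω - 1) • Q)) * (c • (1 + (ω - 1) • P)) := by
    simp only [mul_add, add_mul, mul_one, one_mul, smul_mul_assoc, mul_smul_comm, smul_add, smul_smul, h1, h2,
      smul_zero, add_zero]
    match_scalars <;> ring

variable [Fact (Nat.Prime 5)] {k : ℕ} (h : Min 5 ρ k)
include h

set_option maxHeartbeats 1000000 in
/-- A power of an element of a pair is a normalised homology. -/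
theorem Min.exists_hom (hn : finrank ℂ V = 3) (hω : IsPrimitiveRoot ω 5) {x : G} (hxp : PEl 5 x)
    (hxs : ¬ Scal ρ x) {c : ℂ} (hc : finrank ℂ V < 2 * finrank ℂ (Module.End.eigenspace (ρ x) c)) :
    ∃ (m : ℕ) (P : Module.End ℂ V), Hom5 5 ρ ω (x ^ m) P ∧ (∀ A, P * A = A * P ↔ ρ x * A = A * ρ x) := by
  classical
  obtain ⟨g, hc', hne⟩ := h.exists_noncomm_conj hxp hxs hc
  obtain ⟨X, W, hx, hy, D⟩ := h.exists_pair hxp (hxp.conj g) hc hc' hne
  obtain ⟨R, hR⟩ := exists_sylow_mem (pEl_coe.mp hxp : PEl 5 (⟨x, hx⟩ : X))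
  obtain ⟨s, hs⟩ := D.idx.pow_scal R hR
  obtain ⟨e, μ, hμ, hroot⟩ := Char.exists_eigenbasis ρ x
  have hμ0 : ∀ i, μ i ≠ 0 := fun i e0 => by
    have := hroot i
    rw [e0, zero_pow (orderOf_pos x).ne'] at this
    exact zero_ne_one this
  have hpw : ∀ (j : ℕ) (i), ρ (x ^ j) (e i) = μ i ^ j • e i := by
    intro j i
    induction j with
    | zero => simp
    | succ j ih => rw [pow_succ, rho_mul_apply, hμ i, map_smul, ih, smul_smul, pow_succ']
  -- outside the eigenvalue `c` the fifth powers agree with those on the line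
  obtain ⟨w, hw, hw0⟩ : ∃ w ∈ W.toSubmodule ⊓ Module.End.eigenspace (ρ x) c, w ≠ 0 := by
    refine Submodule.exists_mem_ne_zero_of_ne_bot fun e0 => ?_
    have := finrank_inf_ge W.toSubmodule (Module.End.eigenspace (ρ x) c)
    rw [e0, finrank_bot] at this
    have := D.dim
    omega
  have hc0 : c ≠ 0 := fun e0 => hw0 (by
    have h7 := Module.End.mem_eigenspace_iff.mp hw.2
    rw [e0, zero_smul] at h7
    rw [← rho_inv_apply (ρ := ρ) x w, h7, map_zero])
  have hW5 : ∀ v ∈ W.toSubmodule, ρ (x ^ 5) v = s • v := fun v hv =>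
    congrArg Subtype.val (LinearMap.congr_fun hs ⟨v, hv⟩)
  have hs5 : s = c ^ 5 := by
    refine smul_left_injective ℂ hw0 ?_
    show s • w = c ^ 5 • w
    rw [← hW5 w hw.1]
    have h7 := Module.End.mem_eigenspace_iff.mp hw.2
    have : ∀ j : ℕ, ρ (x ^ j) w = c ^ j • w := by
      intro j
      induction j with
      | zero => simp
      | succ j ih => rw [pow_succ, rho_mul_apply, h7, map_smul, ih, smul_smul, pow_succ']
    exact this 5
  have hfive : ∀ i, μ i ≠ c → μ i ^ 5 = c ^ 5 := by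
    intro i hi
    have h1 := D.qx (e i)
    rw [hμ i, ← sub_smul] at h1
    have h2 : e i ∈ W.toSubmodule := by
      have := W.toSubmodule.smul_mem (μ i - c)⁻¹ h1
      rwa [inv_smul_smul₀ (sub_ne_zero.mpr hi)] at this
    rw [← hs5]
    exact smul_left_injective ℂ (e.ne_zero i) ((hpw 5 i).symm.trans (hW5 _ h2))
  -- exactly one eigenvalue differs from `c`
  set S := Finset.univ.filter fun i => μ i ≠ c
  have hS : S.card = 1 := by
    have h1 := finrank_eigen_le _ e μ hμ c
    have h2 : (Finset.univ.filter fun i => μ i = c).card + S.card = finrank ℂ V := by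
      rw [show S = Finset.univ.filter fun i => ¬ μ i = c from rfl, Finset.card_filter_add_card_filter_not,
        Finset.card_univ, Fintype.card_fin]
    have h3 : S.card ≠ 0 := fun h0 => hxs ⟨c, e.ext fun i => by
      have : μ i = c := by
        by_contra hi
        have : i ∈ S := Finset.mem_filter.mpr ⟨Finset.mem_univ i, hi⟩
        rw [Finset.card_eq_zero.mp h0] at this
        simp at this
      rw [hμ i, this, LinearMap.smul_apply, Module.End.one_apply]⟩
    omega
  obtain ⟨i0, hi0⟩ := Finset.card_eq_one.mp hS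
  have hiff : ∀ i, μ i ≠ c ↔ i = i0 := fun i => by
    have : i ∈ S ↔ i ∈ ({i0} : Finset _) := by rw [hi0]
    simpa [S] using this
  set r := μ i0 / c
  have hr1 : r ≠ 1 := fun e0 => (hiff i0).mpr rfl ((div_eq_one_iff_eq hc0).mp e0)
  have hr5 : r ^ 5 = 1 := by
    rw [div_pow, hfive i0 ((hiff i0).mpr rfl), div_self (pow_ne_zero _ hc0)]
  have hrprim : IsPrimitiveRoot r 5 := IsPrimitiveRoot.iff_orderOf.mpr (orderOf_eq_prime hr5 hr1)
  obtain ⟨m, -, hm⟩ := hrprim.eq_pow_of_pow_eq_one hω.pow_eq_one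
  set P : Module.End ℂ V := ((r - 1) * c)⁻¹ • (ρ x - c • 1)
  have hrc : (r - 1) * c ≠ 0 := mul_ne_zero (sub_ne_zero.mpr hr1) hc0
  have hP : ∀ i, P (e i) = (if i = i0 then (1 : ℂ) else 0) • e i := by
    intro i
    rw [show P (e i) = ((r - 1) * c)⁻¹ • (ρ x (e i) - c • e i) from rfl, hμ i, ← sub_smul, smul_smul]
    congr 1
    by_cases hi : i = i0
    · subst hi
      rw [if_pos rfl, show μ i - c = (r - 1) * c by rw [sub_mul, one_mul, div_mul_cancel₀ _ hc0],
        inv_mul_cancel₀ hrc]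
    · rw [if_neg hi, not_not.mp (mt (hiff i).mp hi), sub_self, mul_zero]
  have hid : Idem1 P := by
    refine ⟨e.ext fun i => ?_, ?_⟩
    · rw [Module.End.mul_apply, hP, map_smul, hP, smul_smul]
      congr 1
      split_ifs <;> simp
    · rw [trace_eq_sum P e _ hP, Finset.sum_ite_eq' Finset.univ i0 fun _ => (1 : ℂ), if_pos (Finset.mem_univ _)]
  have hform : ρ x = c • (1 + (r - 1) • P) := by
    refine e.ext fun i => ?_
    rw [hμ i, LinearMap.smul_apply, LinearMap.add_apply, Module.End.one_apply, LinearMap.smul_apply, hP,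
      smul_smul, smul_add, smul_smul, ← add_smul]
    congr 1
    by_cases hi : i = i0
    · subst hi
      rw [if_pos rfl]
      linear_combination -(div_mul_cancel₀ (μ i) hc0)
    · rw [if_neg hi, not_not.mp (mt (hiff i).mp hi)]
      ring
  refine ⟨m, P, ⟨hxp.pow m, hid, c ^ m, pow_ne_zero _ hc0, ?_⟩, fun A => ?_⟩
  · rw [map_pow, hform, Idem1.affine_pow hid.idem, hm]
  · rw [hform, affine_commute hc0 hr1]

/-- The projective order of an element of the two-dimensional piece. -/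
theorem Min.pow_scal_two {X : Subgroup G} {W : Subrepresentation (res ρ X)} {hx : x ∈ X} {hy : y ∈ X}
    {c d : ℂ} (D : Pair 5 ρ W hx hy c d) (g : X) :
    ∃ m : ℕ, (m = 2 ∨ m = 3 ∨ m = 5) ∧ Scal W.toRepresentation (g ^ m) := by
  haveI := D.irr
  have hd2 : finrank ℂ W.toSubmodule = 2 := by have := D.dim; omega
  obtain ⟨Q', hG, hF, π, σ, T⟩ := exists_quot (p := 5) W.toRepresentation (by omega) D.idx D.np
  haveI := T.irr
  haveI := Fintype.ofFinite Q'
  let χ : IrrCharacter Q' := ⟨σ.character, Char.isIrrCharacter_character σ⟩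
  have hdeg : charDegree (χ : Q' → ℂ) = 2 := Nat.cast_injective (R := ℂ) (by
    rw [Blocks.charDegree_cast, ← hd2]; exact Representation.char_one σ)
  have hfaith : ∀ a, (χ : Q' → ℂ) a = (χ : Q' → ℂ) 1 → a = 1 := fun a ha =>
    T.inj (((Char.character_eq_finrank_iff σ a).mp (ha.trans (Representation.char_one σ))).trans (map_one σ).symm)
  obtain ⟨hdiv, hsq⟩ := T.dvd_card
  obtain ⟨φ⟩ := Cfsg.Agent.S4504.result 5 (by norm_num) hdiv hsq T.nn (χ : Q' → ℂ)
    (Char.IsIrrCharacter.isCharacter χ.2) hfaith (by rw [hdeg])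
  obtain ⟨m, hm, hpow⟩ := psl5_pow (φ (QuotientGroup.mk' _ (π g)))
  refine ⟨m, hm, T.center_iff.mp ?_⟩
  rw [← map_pow φ, MulEquiv.map_eq_one_iff, ← map_pow, ← map_pow π] at hpow
  exact (QuotientGroup.eq_one_iff _).mp hpow

set_option maxHeartbeats 1000000 in
/-- Two noncommuting normalised homologies. -/
theorem Min.overlap (hn : finrank ℂ V = 3) (hω : IsPrimitiveRoot ω 5) {s : ℝ} (hs0 : 0 ≤ s) (hs : s ^ 2 = 5)
    (hωs : ω + ω⁻¹ = (((s - 1) / 2 : ℝ) : ℂ)) (hx : Hom5 5 ρ ω x P) (hy : Hom5 5 ρ ω y Q)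
    (hne : P * Q ≠ Q * P) :
    ((2 - (ω + ω⁻¹)) * LinearMap.trace ℂ V (P * Q) = 1 ∨
        (2 - (ω + ω⁻¹)) * LinearMap.trace ℂ V (P * Q) = (((3 - s) / 2 : ℝ) : ℂ)) ∧
      ∃ (z : G) (R : Module.End ℂ V), Hom5 5 ρ ω z R ∧ R * P = P * R ∧ R * Q = Q * R := by
  have hω1 : ω ≠ 1 := hω.ne_one (by norm_num)
  have hω0 : ω ≠ 0 := hω.ne_zero (by norm_num)
  obtain ⟨c, ex, hcb⟩ := hx.kill_big hn
  obtain ⟨d, ey, hdb⟩ := hy.kill_big hn
  have hxy : ρ x * ρ y ≠ ρ y * ρ x := fun e => hne ((hx.comm_iff hω1 hy).mp e)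
  obtain ⟨X, W, hxX, hyX, D⟩ := h.exists_pair hx.pel hy.pel hcb hdb hxy
  have hWd : finrank ℂ W.toSubmodule = 2 := by have := D.dim; omega
  have hc0 : c ≠ 0 := fun e0 => hxy (by rw [ex, e0, zero_smul, zero_mul, mul_zero])
  have hd0 : d ≠ 0 := fun e0 => hxy (by rw [ey, e0, zero_smul, zero_mul, mul_zero])
  constructor
  swap
  · -- the third homology
    obtain ⟨z, a, hzp, hac, hzx, hzy, hzW, hzq⟩ := D.third
    have hWne : W.toSubmodule ≠ ⊥ := fun e0 => by rw [e0, finrank_bot] at hWd; omega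
    have hza : finrank ℂ V < 2 * finrank ℂ (Module.End.eigenspace (ρ z) a) := by
      have hle : W.toSubmodule ≤ Module.End.eigenspace (ρ z) a := fun v hv =>
        Module.End.mem_eigenspace_iff.mpr (hzW v hv)
      have := Submodule.finrank_mono hle
      omega
    have hzs : ¬ Scal ρ z := by
      rintro ⟨b, hb⟩
      obtain ⟨w, hw, hw0⟩ := Submodule.exists_mem_ne_zero_of_ne_bot hWne
      have hba : b = a := smul_left_injective ℂ hw0 (by
        show b • w = a • w
        rw [← hzW w hw, hb]; rfl)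
      obtain ⟨v, hv⟩ : ∃ v, v ∉ W.toSubmodule := by
        by_contra hcon
        push Not at hcon
        rw [(Submodule.eq_top_iff'.mpr hcon), finrank_top] at hWd
        omega
      have h1 := hzq v
      rw [hb, LinearMap.smul_apply, Module.End.one_apply, hba, ← sub_smul] at h1
      have := W.toSubmodule.smul_mem (a - c)⁻¹ h1
      rw [inv_smul_smul₀ (sub_ne_zero.mpr hac)] at this
      exact hv this
    obtain ⟨m, R, hR, hiff⟩ := h.exists_hom hn hω hzp hzs hza
    refine ⟨z ^ m, R, hR, (hiff P).mpr ?_, (hiff Q).mpr ?_⟩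
    · refine ((affine_commute hc0 hω1 (ρ z)).mp ?_).symm
      rw [← ex, ← map_mul, ← map_mul, hzx]
    · refine ((affine_commute hd0 hω1 (ρ z)).mp ?_).symm
      rw [← ey, ← map_mul, ← map_mul, hzy]
  · -- the traces on the piece
    have hPW : ∀ v, P v ∈ W.toSubmodule := fun v => by
      have h1 := D.qx v
      rw [ex, LinearMap.smul_apply, LinearMap.add_apply, Module.End.one_apply, LinearMap.smul_apply, smul_add,
        add_sub_cancel_left, smul_smul] at h1
      have := W.toSubmodule.smul_mem (c * (ω - 1))⁻¹ h1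
      rwa [inv_smul_smul₀ (mul_ne_zero hc0 (sub_ne_zero.mpr hω1))] at this
    have hQW : ∀ v, Q v ∈ W.toSubmodule := fun v => by
      have h1 := D.qy v
      rw [ey, LinearMap.smul_apply, LinearMap.add_apply, Module.End.one_apply, LinearMap.smul_apply, smul_add,
        add_sub_cancel_left, smul_smul] at h1
      have := W.toSubmodule.smul_mem (d * (ω - 1))⁻¹ h1
      rwa [inv_smul_smul₀ (mul_ne_zero hd0 (sub_ne_zero.mpr hω1))] at this
    set σ := W.toRepresentation
    set P' : Module.End ℂ W.toSubmodule := P.restrict fun v _ => hPW v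
    set Q' : Module.End ℂ W.toSubmodule := Q.restrict fun v _ => hQW v
    have hP' : Idem1 P' := ⟨LinearMap.ext fun v => Subtype.ext (LinearMap.congr_fun hx.idem.idem v.1),
      (LinearMap.trace_restrict_eq_of_forall_mem _ _ hPW).trans hx.idem.tr⟩
    have hQ' : Idem1 Q' := ⟨LinearMap.ext fun v => Subtype.ext (LinearMap.congr_fun hy.idem.idem v.1),
      (LinearMap.trace_restrict_eq_of_forall_mem _ _ hQW).trans hy.idem.tr⟩
    set γ := LinearMap.trace ℂ V (P * Q)
    have hγ : LinearMap.trace ℂ W.toSubmodule (P' * Q') = γ := by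
      rw [show P' * Q' = (P * Q).restrict (fun v _ => hPW (Q v)) from LinearMap.ext fun v => rfl]
      exact LinearMap.trace_restrict_eq_of_forall_mem _ _ fun v => hPW (Q v)
    have hσx : σ ⟨x, hxX⟩ = c • (1 + (ω - 1) • P') :=
      LinearMap.ext fun v => Subtype.ext (LinearMap.congr_fun ex v.1)
    have hσy : σ ⟨y, hyX⟩ = d • (1 + (ω - 1) • Q') :=
      LinearMap.ext fun v => Subtype.ext (LinearMap.congr_fun ey v.1)
    have hσy' : σ (⟨y, hyX⟩⁻¹ : X) = d⁻¹ • (1 + (ω⁻¹ - 1) • Q') := by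
      have h1 : σ ⟨y, hyX⟩ * (d⁻¹ • (1 + (ω⁻¹ - 1) • Q')) = 1 := by
        rw [hσy, smul_mul_smul_comm, mul_inv_cancel₀ hd0, one_smul]
        simp only [mul_add, add_mul, mul_one, one_mul, smul_mul_assoc, mul_smul_comm, smul_smul, hQ'.idem]
        match_scalars <;> field_simp <;> ring
      calc σ (⟨y, hyX⟩⁻¹ : X) = σ (⟨y, hyX⟩⁻¹ : X) * (σ ⟨y, hyX⟩ * (d⁻¹ • (1 + (ω⁻¹ - 1) • Q'))) := by
            rw [h1, mul_one]
        _ = _ := by rw [← mul_assoc, ← map_mul, inv_mul_cancel, map_one, one_mul]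
    have gen : ∀ (g : X) (b η : ℂ), η ≠ 0 → b ≠ 0 → σ g = (c • (1 + (ω - 1) • P')) * (b • (1 + (η - 1) • Q')) →
        ∃ (m : ℕ) (r : ℂ), (m = 2 ∨ m = 3 ∨ m = 5) ∧ r ^ m = 1 ∧ (r = 1 → Scal σ g) ∧
          (2 + (ω - 1) + (η - 1) + (ω - 1) * (η - 1) * γ) ^ 2 = ω * η * (2 + r + r⁻¹) := by
      intro g b η hη hb hg
      obtain ⟨m, hm, t, ht⟩ := h.pow_scal_two D g
      obtain ⟨e, μ, hμ, hroot⟩ := Char.exists_eigenbasis σ g
      have hμ0 : ∀ i, μ i ≠ 0 := fun i e0 => by
        have := hroot i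
        rw [e0, zero_pow (orderOf_pos g).ne'] at this
        exact zero_ne_one this
      rw [map_pow] at ht
      obtain ⟨r, hr, hr1, htr⟩ := trace_two hWd e μ hμ hμ0 (by rcases hm with rfl | rfl | rfl <;> norm_num) ht
      refine ⟨m, r, hm, hr, hr1, ?_⟩
      have hdet : LinearMap.det (σ g) = c ^ 2 * ω * (b ^ 2 * η) := by
        rw [hg, map_mul, det_affine hWd hP', det_affine hWd hQ']
      have htrace : LinearMap.trace ℂ _ (σ g) = c * b * (2 + (ω - 1) + (η - 1) + (ω - 1) * (η - 1) * γ) := by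
        rw [hg, smul_mul_smul_comm, map_smul, mul_add, add_mul, add_mul, one_mul, one_mul, mul_one,
          smul_mul_smul_comm, map_add, map_add, map_add, map_smul, map_smul, map_smul, hP'.tr, hQ'.tr, hγ,
          LinearMap.trace_one, hWd]
        simp only [smul_eq_mul, mul_one]
        push_cast
        ring
      rw [hdet, htrace] at htr
      refine mul_left_cancel₀ (pow_ne_zero 2 (mul_ne_zero hc0 hb)) ?_
      linear_combination htr
    have hno : ∀ (g : X), (g = ⟨x, hxX⟩ * ⟨y, hyX⟩ ∨ g = ⟨x, hxX⟩ * (⟨y, hyX⟩⁻¹ : X)) → ¬ Scal σ g := by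
      intro g hg hs
      -- then the two elements commute
      have hcomm : σ ⟨x, hxX⟩ * σ ⟨y, hyX⟩ = σ ⟨y, hyX⟩ * σ ⟨x, hxX⟩ := by
        rcases hg with rfl | rfl
        · have h1 := hs.commute (⟨x, hxX⟩ : X)
          rw [← map_mul σ, ← map_mul σ] at h1 ⊢
          have h2 := congrArg (fun A => σ (⟨x, hxX⟩⁻¹ : X) * A) h1
          simp only [← map_mul σ, mul_assoc, inv_mul_cancel_left] at h2
          exact h2.symm
        · have h1 := hs.commute (⟨y, hyX⟩ : X)
          rw [← map_mul σ, ← map_mul σ, inv_mul_cancel_right] at h1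
          rw [← map_mul σ, ← map_mul σ]
          have h2 := congrArg (fun A => A * σ (⟨y, hyX⟩ : X)) h1
          simp only [← map_mul σ] at h2
          rw [h2]
          congr 1
          group
      refine hxy ?_
      set u : X := ⟨x, hxX⟩ * ⟨y, hyX⟩ * ((⟨y, hyX⟩ : X) * ⟨x, hxX⟩)⁻¹
      have hu : σ u = 1 := by
        rw [map_mul, map_mul, hcomm, ← map_mul, ← map_mul, mul_inv_cancel, map_one]
      have hu1 : ρ (u : G) = 1 := by
        refine eq_one_of_two_step W.toSubmodule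
          (fun v hv => congrArg Subtype.val (LinearMap.congr_fun hu ⟨v, hv⟩)) fun v => ?_
        set v' := ρ (y * x)⁻¹ v with hv'
        have hv : v = ρ (y * x) v' := (rho_apply_inv (ρ := ρ) (y * x) v).symm
        have e1 : ρ (u : G) v = ρ (x * y) v' := by
          rw [hv', ← rho_mul_apply]; rfl
        rw [e1]
        conv => arg 2; arg 2; rw [hv]
        rw [rho_mul_apply, rho_mul_apply]
        have a1 := W.apply_mem_toSubmodule ⟨x, hxX⟩ (D.qy v')
        have a2 := W.apply_mem_toSubmodule ⟨y, hyX⟩ (D.qx v')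
        have a3 : d • (ρ x v' - c • v') - c • (ρ y v' - d • v') ∈ W.toSubmodule :=
          Submodule.sub_mem _ (W.toSubmodule.smul_mem d (D.qx v')) (W.toSubmodule.smul_mem c (D.qy v'))
        have a4 := Submodule.add_mem _ (Submodule.sub_mem _ a1 a2) a3
        simp only [res_apply, map_sub, map_smul] at a4
        convert a4 using 1
        simp only [smul_sub, smul_comm c d v']
        abel
      rw [← map_mul, ← map_mul]
      have h3 : (u : G) = 1 := h.inj (hu1.trans (map_one ρ).symm)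
      have h4 : x * y * (y * x)⁻¹ = 1 := h3
      rw [mul_inv_eq_one.mp h4]
    obtain ⟨m, r, hm, hr, hr1, hR⟩ := gen (⟨x, hxX⟩ * ⟨y, hyX⟩) d ω hω0 hd0 (by rw [map_mul, hσx, hσy])
    obtain ⟨m', r', hm', hr', hr1', hR'⟩ := gen (⟨x, hxX⟩ * (⟨y, hyX⟩⁻¹ : X)) d⁻¹ ω⁻¹ (inv_ne_zero hω0)
      (inv_ne_zero hd0) (by rw [map_mul, hσx, hσy'])
    set ε := 2 - (ω + ω⁻¹) with hε
    have e1 : (2 - ε * γ) ^ 2 = 2 + r + r⁻¹ := by
      refine mul_left_cancel₀ (mul_ne_zero hω0 hω0) ?_
      rw [← hR, hε]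
      field_simp
      ring
    have e2 : (2 - ε * (1 - γ)) ^ 2 = 2 + r' + r'⁻¹ := by
      have h5 : ω * ω⁻¹ = 1 := mul_inv_cancel₀ hω0
      rw [h5, one_mul] at hR'
      rw [← hR', hε]
      congr 1
      linear_combination (-γ) * h5
    have hsum : (2 - ε * γ) + (2 - ε * (1 - γ)) = (((3 + s) / 2 : ℝ) : ℂ) := by
      rw [hε, hωs]
      push_cast
      ring
    rcases overlap_values hs0 hs hm hm' hr hr' (fun e => hno _ (Or.inl rfl) (hr1 e))
        (fun e => hno _ (Or.inr rfl) (hr1' e)) e1 e2 hsum with h6 | h6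
    · left
      linear_combination -h6
    · right
      push_cast at h6 ⊢
      linear_combination -h6

/-- No homologies of order five in degree three. -/
theorem Min.false_of_big_five (hn : finrank ℂ V = 3) {x y : G} (hxp : PEl 5 x) {c : ℂ}
    (hc : finrank ℂ V < 2 * finrank ℂ (Module.End.eigenspace (ρ x) c)) (hne : ρ x * ρ y ≠ ρ y * ρ x) : False := by
  obtain ⟨ω, s, hω, hs0, hs, hωs⟩ := exists_omega
  have hω0 : ω ≠ 0 := hω.ne_zero (by norm_num)
  have hω1 : ω ≠ 1 := hω.ne_one (by norm_num)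
  have hxs : ¬ Scal ρ x := fun hs' => hne (hs'.commute y)
  obtain ⟨m, P, hP, hiff⟩ := h.exists_hom hn hω hxp hxs hc
  set ε := 2 - (ω + ω⁻¹)
  -- a homology noncommuting with a given one
  have hnc : ∀ {z : G} {R : Module.End ℂ V}, Hom5 5 ρ ω z R →
      ∃ (g : G) (S : Module.End ℂ V), Hom5 5 ρ ω g S ∧ R * S ≠ S * R := by
    intro z R hR
    obtain ⟨b, ez, hzb⟩ := hR.kill_big hn
    have hzs : ¬ Scal ρ z := by
      rintro ⟨t, ht⟩
      obtain ⟨g, -, hg⟩ := h.exists_noncomm_conj hxp hxs hc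
      refine hR.idem.ne_zero ?_
      have h1 : (b * (ω - 1)) • R = (t - b) • (1 : Module.End ℂ V) := by
        rw [sub_smul, ← ht, ez, smul_add, smul_smul, add_sub_cancel_left]
      have h2 : R = ((b * (ω - 1))⁻¹ * (t - b)) • (1 : Module.End ℂ V) := by
        rw [mul_smul, ← h1, inv_smul_smul₀ ?_]
        refine mul_ne_zero (fun e0 => ?_) (sub_ne_zero.mpr hω1)
        obtain ⟨b', hb', ez'⟩ := hR.form
        rw [e0, zero_smul] at ez
        have := congrArg (fun A => ρ z⁻¹ * A) ez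
        simp only [← map_mul, inv_mul_cancel, map_one, mul_zero] at this
        obtain ⟨v, hv⟩ : ∃ v : V, v ≠ 0 := by
          haveI : Nontrivial V := Module.nontrivial_of_finrank_pos (R := ℂ) (by omega)
          exact exists_ne 0
        exact hv (LinearMap.congr_fun this v)
      set t' := (b * (ω - 1))⁻¹ * (t - b)
      have h3 := hR.idem.idem
      rw [h2, smul_mul_smul_comm, one_mul] at h3
      have h4 := hR.idem.tr
      rw [h2, map_smul, LinearMap.trace_one, hn, smul_eq_mul] at h4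
      push_cast at h4
      haveI : Nontrivial V := Module.nontrivial_of_finrank_pos (R := ℂ) (by omega)
      have h5 : t' * t' = t' := smul_left_injective ℂ (one_ne_zero (α := Module.End ℂ V)) h3
      exfalso
      have h6 : t' = 1 / 3 := by linear_combination h4 / 3
      rw [h6] at h5
      norm_num at h5
    obtain ⟨g, -, hg⟩ := h.exists_noncomm_conj hR.pel hzs hzb
    exact ⟨_, _, hR.conj g, fun e => hg ((hR.comm_iff hω1 (hR.conj g)).mpr e)⟩
  -- commuting or prescribed overlap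
  have hov : ∀ {a b : G} {A B : Module.End ℂ V}, Hom5 5 ρ ω a A → Hom5 5 ρ ω b B → A * B ≠ B * A →
      ε * LinearMap.trace ℂ V (A * B) = 1 ∨ ε * LinearMap.trace ℂ V (A * B) = (((3 - s) / 2 : ℝ) : ℂ) :=
    fun hA hB hAB => (h.overlap hn hω hs0 hs hωs hA hB hAB).1
  -- a frame through a commuting pair
  have hframe : ∀ {A R B : Module.End ℂ V}, Idem1 A → Idem1 R → Idem1 B → R * A = A * R → R * B = B * R →
      A * B ≠ B * A → A * R = 0 ∧ R * A = 0 := by
    intro A R B hA hR hB h1 h2 h3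
    rcases hA.eq_or_mul hR h1.symm with e | e
    · exact absurd (e ▸ h2) h3
    · exact ⟨e, h1.trans e⟩
  obtain ⟨y1, Q, hQ, hPQ⟩ := hnc hP
  obtain ⟨-, z, R, hR, hRP, hRQ⟩ := h.overlap hn hω hs0 hs hωs hP hQ hPQ
  obtain ⟨hPR0, hRP0⟩ := hframe hP.idem hR.idem hQ.idem hRP hRQ hPQ
  obtain ⟨hQR0, hRQ0⟩ := hframe hQ.idem hR.idem hP.idem hRQ hRP (Ne.symm hPQ)
  obtain ⟨g, S, hS, hRS⟩ := hnc hR
  -- `S` commutes with an axis of each frame through `R`
  have hchoose : ∀ {a : G} {A : Module.End ℂ V}, Hom5 5 ρ ω a A → A * R = 0 → R * A = 0 →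
      ∃ (b : G) (B : Module.End ℂ V), Hom5 5 ρ ω b B ∧ S * B = 0 ∧ B * S = 0 ∧ B * R = 0 ∧ R * B = 0 ∧
        (B = A ∨ B = 1 - A - R) := by
    intro a A hA h1 h2
    have hA' := hA.third hn hω0 h.inj hR h1 h2
    have key : ∀ {b : G} {B : Module.End ℂ V}, Hom5 5 ρ ω b B → B * R = 0 → R * B = 0 → S * B = B * S →
        S * B = 0 ∧ B * S = 0 := by
      intro b B hB hBR hRB hc'
      rcases hS.idem.eq_or_mul hB.idem hc' with e | e
      · exact absurd (show R * S = S * R by rw [e, hRB, hBR]) hRS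
      · exact ⟨e, hc' ▸ e⟩
    have h1' : (1 - A - R) * R = 0 := by rw [sub_mul, sub_mul, one_mul, h1, hR.idem.idem, sub_zero, sub_self]
    have h2' : R * (1 - A - R) = 0 := by rw [mul_sub, mul_sub, mul_one, h2, hR.idem.idem, sub_zero, sub_self]
    by_cases hc1 : S * A = A * S
    · exact ⟨a, A, hA, (key hA h1 h2 hc1).1, (key hA h1 h2 hc1).2, h1, h2, Or.inl rfl⟩
    by_cases hc2 : S * (1 - A - R) = (1 - A - R) * S
    · exact ⟨_, _, hA', (key hA' h1' h2' hc2).1, (key hA' h1' h2' hc2).2, h1', h2', Or.inr rfl⟩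
    exfalso
    refine sum_overlap_ne hs0 hs (hov hA hS (Ne.symm hc1)) (hov hA' hS (Ne.symm hc2)) (hov hR hS hRS) ?_
    rw [← mul_add, ← mul_add, ← map_add, ← map_add, ← add_mul, ← add_mul,
      show A + (1 - A - R) + R = 1 by abel, one_mul, hS.idem.tr, mul_one]
    show ε = _
    simp only [ε, hωs]
    push_cast
    ring
  obtain ⟨b1, A, hA, hSA, hAS, hAR, hRA, hAeq⟩ := hchoose hP hPR0 hRP0
  obtain ⟨b2, B, hB, hSB, hBS, hBR, hRB, hBeq⟩ := hchoose hQ hQR0 hRQ0
  have hAB : A * B ≠ B * A := by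
    have e1 : ∀ {T : Module.End ℂ V}, R * T = T * R → (A * T = T * A → P * T = T * P) := by
      intro T hRT e
      rcases hAeq with rfl | rfl
      · exact e
      · rw [sub_mul, sub_mul, one_mul, mul_sub, mul_sub, mul_one, hRT] at e
        have := sub_left_inj.mp e
        exact sub_right_inj.mp this
    intro e
    have h1 := e1 (show R * B = B * R by rw [hRB, hBR]) e
    rcases hBeq with rfl | rfl
    · exact hPQ h1
    · rw [mul_sub, mul_sub, mul_one, sub_mul, sub_mul, one_mul, ← hRP] at h1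
      exact hPQ (sub_right_inj.mp (sub_left_inj.mp h1))
  have hγ : LinearMap.trace ℂ V (A * B) ≠ 1 := by
    intro e
    have h2s : 2.236 < s := by nlinarith
    have h3s : s < 2.237 := by nlinarith
    rcases hov hA hB hAB with h1 | h1 <;> rw [e, mul_one] at h1 <;>
      simp only [ε, hωs] at h1 <;> have h7 := congrArg Complex.re h1 <;>
      simp only [Complex.sub_re, Complex.ofReal_re, Complex.one_re] at h7 <;> norm_num at h7 <;> linarith
  exact hRS (by rw [Idem1.eq_of_kill hn hA.idem hB.idem hR.idem hS.idem hγ hRA hAR hRB hBR hSA hAS hSB hBS])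

end Cfsg.Agent.FeitBound
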