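/-
The minimal counterexample: eigenvalues of large multiplicity (namespace `Cfsg.Agent.FeitBound`).

Main results: `Min.scal_of_eigen` (an eigenvalue of multiplicity above `n / 2` only for scalars),
`Min.cen_pel`, `Min.mem_of_commute`.
-/
import Cfsg.Agent.Lib.FeitBound.Five

set_option autoImplicit false
set_option linter.unusedSectionVars false
set_option linter.style.haveILetI false

namespace Cfsg.Agent.FeitBound

open Module
open scoped Pointwise

universe u

variable {G : Type u} [Group G] [Finite G] {V : Type} [AddCommGroup V] [Module ℂ V] [FiniteDimensional ℂ V]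
  {p : ℕ} [Fact p.Prime] {ρ : Representation ℂ G V} {k : ℕ} (h : Min p ρ k)
include h

/-- An eigenvalue of multiplicity above half of the degree. -/
theorem Min.scal_of_eigen {x : G} (hx : PEl p x) {c : ℂ}
    (hc : finrank ℂ V < 2 * finrank ℂ (Module.End.eigenspace (ρ x) c)) : Scal ρ x := by
  by_contra hxs
  obtain ⟨g, hc', hne⟩ := h.exists_noncomm_conj hx hxs hc
  rcases Nat.lt_or_ge p 7 with hlt | hge
  · have hp5 : p = 5 := by
      have := h.hp5
      interval_cases p
      · rfl
      · exact absurd (Fact.out : Nat.Prime 6) (by norm_num)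
    subst hp5
    obtain ⟨X, W, hX, hY, D⟩ := h.exists_pair hx (hx.conj g) hc hc' hne
    exact h.false_of_big_five (by have := D.deg; omega) hx hc hne
  · exact h.false_of_big_seven hge hx (hx.conj g) hc hc' hne

/-- The centralizer of a nonscalar `p`-element. -/
theorem Min.cen_pel {x : G} (hx : PEl p x) (hxs : ¬ Scal ρ x) :
    PComm p (res ρ (Subgroup.centralizer ({x} : Set G))) := by
  refine pcomm_of_eigen _ x h.rho_comm fun c hne => ?_
  have h1 : 2 * finrank ℂ (Module.End.eigenspace (ρ x) c) ≤ finrank ℂ V := by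
    by_contra hcon
    exact hxs (h.scal_of_eigen hx (c := c) (by omega))
  have h2 : 0 < finrank ℂ (Module.End.eigenspace (ρ x) c) :=
    Nat.pos_of_ne_zero fun e => hne (Submodule.finrank_eq_zero.mp e)
  have := h.deg
  exact h.ft_sub _ _ (by rw [eigSub_toSubmodule]; omega) (by rw [eigSub_toSubmodule]; omega)

theorem Min.comm_trans {x a b : G} (hx : PEl p x) (hxs : ¬ Scal ρ x) (ha : PEl p a) (hb : PEl p b)
    (hax : a * x = x * a) (hbx : b * x = x * b) : a * b = b * a :=
  h.inj (by
    rw [map_mul, map_mul]
    exact h.cen_pel hx hxs ⟨a, Subgroup.mem_centralizer_singleton_iff.mpr hax⟩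
      ⟨b, Subgroup.mem_centralizer_singleton_iff.mpr hbx⟩ (pEl_coe.mp ha) (pEl_coe.mp hb))

theorem Min.sylow_mul_comm (Q : Sylow p G) {a b : G} (ha : a ∈ Q) (hb : b ∈ Q) : a * b = b * a :=
  h.inj (by rw [map_mul, map_mul, sylow_comm (by have := h.deg; omega) Q ha hb])

/-- A nonscalar element lies in one Sylow subgroup, which contains the `p`-elements commuting with it. -/
theorem Min.mem_of_commute {P : Sylow p G} {x y : G} (hxP : x ∈ P) (hxs : ¬ Scal ρ x) (hy : PEl p y)
    (hc : y * x = x * y) : y ∈ P := by
  have hx : PEl p x := pEl_of_mem P.isPGroup' hxP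
  have hS := pgroup_closure (p := p) (S := insert y ((P : Subgroup G) : Set G)) (fun a ha b hb => by
    have e : ∀ z ∈ insert y ((P : Subgroup G) : Set G), PEl p z ∧ z * x = x * z := by
      rintro z (rfl | hz)
      · exact ⟨hy, hc⟩
      · exact ⟨pEl_of_mem P.isPGroup' hz, h.sylow_mul_comm P hz hxP⟩
    exact h.comm_trans hx hxs (e a ha).1 (e b hb).1 (e a ha).2 (e b hb).2) (fun a ha => by
    rcases ha with rfl | ha
    · exact hy
    · exact pEl_of_mem P.isPGroup' ha)
  have hle : (P : Subgroup G) ≤ Subgroup.closure (insert y ((P : Subgroup G) : Set G)) := fun a ha =>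
    Subgroup.subset_closure (Set.mem_insert_of_mem _ ha)
  have heq := P.is_maximal' hS.1 hle
  show y ∈ (P : Subgroup G)
  rw [← heq]
  exact Subgroup.subset_closure (Set.mem_insert _ _)

end Cfsg.Agent.FeitBound
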