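/-
The centralizer of a nonscalar element in a minimal counterexample (namespace `Cfsg.Agent.FeitBound`).

Main results: `idx_of_gen`, `Min.cen` (if a Sylow subgroup modulo scalars has order above `p`, the `p`-elements
of the centralizer of a nonscalar element commute), `Min.comm_of_commute`.
-/
import Cfsg.Agent.Lib.FeitBound.Eigen

set_option autoImplicit false
set_option linter.unusedSectionVars false
set_option linter.style.haveILetI false

namespace Cfsg.Agent.FeitBound

open Module
open scoped Pointwise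

universe u

variable {G : Type u} [Group G] [Finite G] {V : Type} [AddCommGroup V] [Module ℂ V] [FiniteDimensional ℂ V]
  {p : ℕ} [Fact p.Prime] {ρ : Representation ℂ G V}

/-- The powers with congruent exponents agree modulo scalars. -/
theorem scal_pow_mul_inv {h : G} (hp' : Scal ρ (h ^ p)) {a b : ℕ} (hab : a ≡ b [MOD p]) :
    Scal ρ (h ^ a * (h ^ b)⁻¹) := by
  have e : ∀ n : ℕ, h ^ n = h ^ (n % p) * (h ^ p) ^ (n / p) := fun n => by
    rw [← pow_mul, ← pow_add, Nat.mod_add_div]
  rw [e a, e b, show a % p = b % p from hab, mul_inv_rev, mul_assoc, ← mul_assoc ((h ^ p) ^ (a / p))]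
  have hs := (hp'.pow (a / p)).mul (hp'.pow (b / p)).inv
  exact hs.conj _ |> fun t => by simpa [mul_assoc] using t

/-- A generator modulo scalars gives the index bound. -/
theorem idx_of_gen (P0 : Sylow p G) (h : G) (hp' : Scal ρ (h ^ p))
    (hgen : ∀ a ∈ P0, ∃ k : ℕ, Scal ρ (a * (h ^ k)⁻¹))
    (hcomm : ∀ a ∈ P0, ∀ b ∈ P0, a * b = b * a) (hh : h ∈ P0) : Idx p ρ := by
  -- the case of `P0` itself
  have key : ∀ x ∈ P0, ∀ y ∈ P0, ¬ Scal ρ x → ∃ k : ℕ, Scal ρ (y * (x ^ k)⁻¹) := by
    intro x hx y hy hxs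
    obtain ⟨i, hi⟩ := hgen x hx
    obtain ⟨j, hj⟩ := hgen y hy
    have hi0 : ¬ p ∣ i := fun hd => hxs (by
      have h1 : Scal ρ (h ^ i) := by
        obtain ⟨q, rfl⟩ := hd
        rw [pow_mul]; exact hp'.pow q
      have := hi.mul h1
      rwa [inv_mul_cancel_right] at this)
    haveI : NeZero p := ⟨(Fact.out : p.Prime).ne_zero⟩
    refine ⟨((j : ZMod p) * (i : ZMod p)⁻¹).val, ?_⟩
    set k := ((j : ZMod p) * (i : ZMod p)⁻¹).val with hk
    have hmod : j ≡ i * k [MOD p] := by
      rw [← ZMod.natCast_eq_natCast_iff, Nat.cast_mul, hk, ZMod.natCast_val, ZMod.cast_id, mul_left_comm,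
        mul_inv_cancel₀ (by rwa [Ne, ZMod.natCast_eq_zero_iff]), mul_one]
    have hcm : Commute (h ^ i) (x * (h ^ i)⁻¹) := by
      have hc : Commute (h ^ i) x := (show Commute h x from hcomm h hh x hx).pow_left i
      exact hc.mul_right (Commute.refl _).inv_right
    have hxk : x ^ k = (x * (h ^ i)⁻¹) ^ k * h ^ (i * k) := by
      rw [pow_mul, ← hcm.symm.mul_pow, inv_mul_cancel_right]
    rw [hxk, mul_inv_rev, ← mul_assoc]
    refine Scal.mul ?_ (hi.pow k).inv
    have := hj.mul (scal_pow_mul_inv hp' hmod)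
    rwa [mul_assoc y, inv_mul_cancel_left] at this
  intro Q x hx y hy hxs
  obtain ⟨a, rfl⟩ := MulAction.exists_smul_eq G P0 Q
  have hmem : ∀ z ∈ a • P0, a⁻¹ * z * a ∈ P0 := by
    intro z hz
    have h2 : z ∈ MulAut.conj a • (P0 : Subgroup G) := hz
    rw [Subgroup.mem_pointwise_smul_iff_inv_smul_mem] at h2
    show a⁻¹ * z * a ∈ (P0 : Subgroup G)
    simpa [MulAut.smul_def] using h2
  obtain ⟨k, hk⟩ := key _ (hmem x hx) _ (hmem y hy) (fun hs => hxs (by simpa [mul_assoc] using hs.conj a))
  refine ⟨k, ?_⟩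
  have e : (a⁻¹ * x * a) ^ k = a⁻¹ * x ^ k * a := by
    simpa using conj_pow (a := a⁻¹) (b := x) (i := k)
  rw [e] at hk
  convert hk.conj a using 1
  group

variable {k : ℕ} (hM : Min p ρ k)
include hM

set_option maxHeartbeats 800000 in
/-- In a centralizer of a nonscalar element the `p`-elements commute. -/
theorem Min.cen (hI : ¬ Idx p ρ) {g : G} (hg : ¬ Scal ρ g) :
    PComm p (res ρ (Subgroup.centralizer ({g} : Set G))) := by
  set C := Subgroup.centralizer ({g} : Set G) with hC
  set M := Subgroup.closure {a : G | a ∈ C ∧ PEl p a} with hMdef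
  have hMC : M ≤ C := (Subgroup.closure_le _).mpr fun a ha => ha.1
  have hMtop : M ≠ ⊤ := fun e => hM.centralizer_ne_top hg (top_le_iff.mp (e ▸ hMC))
  suffices hP : PComm p (res ρ M) by
    intro a b ha hb
    exact hP ⟨a, Subgroup.subset_closure ⟨a.2, pEl_coe.mpr ha⟩⟩
      ⟨b, Subgroup.subset_closure ⟨b.2, pEl_coe.mpr hb⟩⟩ (pEl_coe.mp (show PEl p (a : G) from pEl_coe.mpr ha))
      (pEl_coe.mp (show PEl p (b : G) from pEl_coe.mpr hb))
  have hcM : ∀ a ∈ M, ρ a * ρ g = ρ g * ρ a := fun a ha => hM.rho_comm a (hMC ha)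
  have hn := hM.deg
  by_contra hnp
  obtain ⟨c, hc0, hcP⟩ : ∃ c, Module.End.eigenspace (ρ g) c ≠ ⊥ ∧
      ¬ PComm p (eigSub M g hcM c).toRepresentation := by
    by_contra hcon
    push Not at hcon
    exact hnp (pcomm_of_eigen M g hcM hcon)
  set W := Module.End.eigenspace (ρ g) c with hW
  have hWlt : finrank ℂ W < finrank ℂ V := by
    refine Submodule.finrank_lt fun e => hg (scal_of_eigen_top e)
  have hWdim : p ≤ 2 * finrank ℂ W + 1 := by
    by_contra hcon
    have e1 : finrank ℂ (eigSub M g hcM c).toSubmodule = finrank ℂ W := rfl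
    exact hcP (hM.ft_sub M _ (by omega) (by omega))
  -- an irreducible piece of the eigenspace
  obtain ⟨U, hUW, hUi, hUP⟩ : ∃ U : Subrepresentation (res ρ M), U.toSubmodule ≤ W ∧
      U.toRepresentation.IsIrreducible ∧ ¬ PComm p U.toRepresentation := by
    by_contra hcon
    push Not at hcon
    refine hcP fun a b ha hb => LinearMap.ext fun v => Subtype.ext ?_
    exact comm_of_irr (ρ := res ρ M) (a := a) (b := b) (eigSub M g hcM c)
      (fun U hU hUi w hw => apply_of_sub (hcon U hU hUi) ha hb hw) v.1 v.2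
  obtain ⟨hUI, hUS, hUdim⟩ := hM.spec_sub U hMtop hUi hUP
  obtain ⟨h0, hh0, hh0p, hh0s⟩ := hUS.derived
  set h : G := (h0 : G) with hh
  have hhp : PEl p h := pEl_coe.mpr hh0p
  -- `h` fixes the other eigenspaces
  have hfix : ∀ c', c' ≠ c → ∀ v ∈ Module.End.eigenspace (ρ g) c', ρ h v = v := by
    intro c' hne v hv
    have hd := finrank_eigen_add (ρ g) hne
    have hP' : PComm p (eigSub M g hcM c').toRepresentation := hM.ft_sub M _
      (by rw [eigSub_toSubmodule]; rw [← hW] at hd; omega)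
      (by rw [eigSub_toSubmodule]; rw [← hW] at hd; omega)
    have htop : Subgroup.closure {a : M | PEl p a} = ⊤ := by
      rw [← Subgroup.closure_closure_coe_preimage (k := {a : G | a ∈ C ∧ PEl p a})]
      congr 1
      ext ⟨a, ha⟩
      simp only [Set.mem_preimage, Set.mem_setOf_eq]
      exact ⟨fun hp => ⟨hMC ha, pEl_coe.mpr hp⟩, fun hp => pEl_coe.mp hp.2⟩
    have h1 := map_commutator_eq_one (eigSub M g hcM c').toRepresentation (fun a b =>
      comm_closure _ (fun a ha b hb => hP' a b ha hb) (htop ▸ Subgroup.mem_top a) (htop ▸ Subgroup.mem_top b)) hh0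
    exact congrArg Subtype.val (LinearMap.congr_fun h1 ⟨v, hv⟩)
  -- the moved space lies in the eigenspace
  set R := LinearMap.range (ρ h - 1)
  have hRW : R ≤ W := by
    rintro _ ⟨v, rfl⟩
    obtain ⟨e, μ, hμ, -⟩ := Char.exists_eigenbasis ρ g
    rw [← e.sum_repr v, map_sum]
    refine Submodule.sum_mem _ fun i _ => ?_
    rw [map_smul]
    refine Submodule.smul_mem _ _ ?_
    have hmem : e i ∈ Module.End.eigenspace (ρ g) (μ i) := Module.End.mem_eigenspace_iff.mpr (hμ i)
    by_cases hi : μ i = c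
    · rw [hi] at hmem
      rw [LinearMap.sub_apply, Module.End.one_apply]
      exact Submodule.sub_mem _ ((eigSub M g hcM c).apply_mem_toSubmodule h0 hmem) hmem
    · rw [LinearMap.sub_apply, Module.End.one_apply, hfix _ hi _ hmem, sub_self]
      exact zero_mem _
  have hhs : ¬ Scal ρ h := by
    rintro ⟨s, hs⟩
    refine hh0s ⟨s, LinearMap.ext fun v => Subtype.ext ?_⟩
    exact LinearMap.congr_fun hs v.1
  have hRdim : p ≤ 2 * finrank ℂ R + 1 := by
    have h1 := hUS.moved h0 hh0 hh0p hh0s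
    have h2 : finrank ℂ (U.toSubmodule ⊓ Module.End.eigenspace (ρ h) 1 : Submodule ℂ V) ≤
        finrank ℂ (Module.End.eigenspace (U.toRepresentation h0) 1) := finrank_inf_le U h0 1
    have h3 := finrank_inf_ge U.toSubmodule (Module.End.eigenspace (ρ h) 1)
    have h4 : finrank ℂ R + finrank ℂ (LinearMap.ker (ρ h - 1)) = finrank ℂ V :=
      LinearMap.finrank_range_add_finrank_ker (ρ h - 1)
    have h5 : LinearMap.ker (ρ h - 1) ≤ Module.End.eigenspace (ρ h) 1 := fun v hv => by
      rw [Module.End.mem_eigenspace_iff, one_smul]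
      rw [LinearMap.mem_ker, LinearMap.sub_apply, Module.End.one_apply, sub_eq_zero] at hv
      exact hv
    have h6 := Submodule.finrank_mono h5
    have := (Fact.out : p.Prime).two_le
    omega
  -- the Sylow subgroup of `h` lies in the centralizer of `g`
  obtain ⟨P0, hP0⟩ := exists_sylow_mem hhp
  have hgh : g * h = h * g := (Subgroup.mem_centralizer_singleton_iff.mp (hMC h0.2)).symm
  have hP0C : ∀ a ∈ P0, a ∈ C := by
    intro a ha
    have hap : PEl p a := pEl_of_mem P0.isPGroup' ha
    have hah : a * h = h * a := hM.sylow_mul_comm P0 ha hP0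
    have hgah : (g * a * g⁻¹) * h = h * (g * a * g⁻¹) := by
      calc (g * a * g⁻¹) * h = g * a * (g⁻¹ * (h * g)) * g⁻¹ := by group
        _ = g * (a * h) * g⁻¹ := by rw [← hgh]; group
        _ = g * h * a * g⁻¹ := by rw [hah]; group
        _ = h * (g * a * g⁻¹) := by rw [hgh]; group
    set u := g * a * g⁻¹ * a⁻¹ with hu
    have hup : PEl p u := by
      refine (hap.conj g).mul hap.inv ?_
      exact (show Commute (g * a * g⁻¹) a from hM.comm_trans hhp hhs (hap.conj g) hap hgah hah).inv_right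
    have huR : R ≤ Module.End.eigenspace (ρ u) 1 := by
      rintro v hv
      rw [Module.End.mem_eigenspace_iff, one_smul]
      -- `a⁻¹ v` is again in the eigenspace
      have hw : ρ a⁻¹ v ∈ W := by
        obtain ⟨z, rfl⟩ := hv
        refine hRW ⟨ρ a⁻¹ z, ?_⟩
        have hcomm : ρ h * ρ a⁻¹ = ρ a⁻¹ * ρ h := by
          rw [← map_mul, ← map_mul]
          exact congrArg ρ (show Commute h a⁻¹ from (show Commute h a from hah.symm).inv_right).eq
        have := LinearMap.congr_fun hcomm z
        simp only [Module.End.mul_apply] at this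
        simp only [LinearMap.sub_apply, Module.End.one_apply, map_sub, this]
      by_cases hc00 : c = 0
      · have : ρ a⁻¹ v = 0 := by
          have h1 := Module.End.mem_eigenspace_iff.mp hw
          rw [hc00, zero_smul] at h1
          rw [← rho_inv_apply (ρ := ρ) g (ρ a⁻¹ v), h1, map_zero]
        have hv0 : v = 0 := by rw [← rho_apply_inv (ρ := ρ) a v, this, map_zero]
        rw [hv0, map_zero]
      · have h1 : ρ g⁻¹ (ρ a⁻¹ v) = c⁻¹ • ρ a⁻¹ v := by
          have h2 := congrArg (ρ g⁻¹) (Module.End.mem_eigenspace_iff.mp hw)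
          rw [rho_inv_apply, map_smul] at h2
          conv_rhs => rw [h2]
          rw [inv_smul_smul₀ hc00]
        rw [hu, rho_mul_apply, rho_mul_apply, rho_mul_apply, h1, map_smul, map_smul, rho_apply_inv]
        rw [show ρ g v = c • v from Module.End.mem_eigenspace_iff.mp (hRW hv), inv_smul_smul₀ hc00]
    have hus : Scal ρ u := hM.scal_of_eigen hup (c := 1) (by
      have := Submodule.finrank_mono huR
      omega)
    have hu1 : u = 1 := by
      obtain ⟨s, hs⟩ := hus
      obtain ⟨v, hv, hv0⟩ := Submodule.exists_mem_ne_zero_of_ne_bot (p := R) (fun e => by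
        rw [e, finrank_bot] at hRdim; have := hM.hp5; omega)
      have h1 := Module.End.mem_eigenspace_iff.mp (huR hv)
      rw [hs, LinearMap.smul_apply, Module.End.one_apply, one_smul] at h1
      have h2 : (s - 1) • v = 0 := by rw [sub_smul, one_smul, h1, sub_self]
      have hs1 : s = 1 := sub_eq_zero.mp ((smul_eq_zero.mp h2).resolve_right hv0)
      exact hM.inj (by rw [hs, hs1, one_smul, map_one])
    rw [hC, Subgroup.mem_centralizer_singleton_iff]
    rw [hu, mul_inv_eq_one, mul_inv_eq_iff_eq_mul] at hu1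
    exact hu1.symm
  -- so the index is at most `p`
  have hP0M : ∀ a ∈ P0, a ∈ M := fun a ha =>
    Subgroup.subset_closure ⟨hP0C a ha, pEl_of_mem P0.isPGroup' ha⟩
  obtain ⟨Q, hQ⟩ := ((P0.isPGroup').comap_of_injective M.subtype Subtype.coe_injective).exists_le_sylow
  have hlift : ∀ z : M, PEl p z → Scal U.toRepresentation z → Scal ρ (z : G) := by
    rintro z hz ⟨s, hs⟩
    refine hM.scal_of_eigen (pEl_coe.mpr hz) (c := s) ?_
    have hle : U.toSubmodule ≤ Module.End.eigenspace (ρ (z : G)) s := fun v hv => by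
      rw [Module.End.mem_eigenspace_iff]
      exact congrArg Subtype.val (LinearMap.congr_fun hs ⟨v, hv⟩)
    have := Submodule.finrank_mono hle
    omega
  have hh0Q : h0 ∈ Q := hQ (show (h0 : G) ∈ (P0 : Subgroup G) from hP0)
  have hp' : Scal ρ (h ^ p) := by
    have := hlift _ (hh0p.pow p) (hUI.pow_scal Q hh0Q)
    simpa using this
  refine hI (idx_of_gen P0 h hp' (fun a ha => ?_) (fun a ha b hb => hM.sylow_mul_comm P0 ha hb) hP0)
  obtain ⟨j, hj⟩ := hUI Q h0 hh0Q ⟨a, hP0M a ha⟩ (hQ (show ((⟨a, hP0M a ha⟩ : M) : G) ∈ (P0 : Subgroup G) from ha))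
    hh0s
  refine ⟨j, ?_⟩
  have := hlift _ (pEl_coe.mp (by
    simpa using pEl_of_mem P0.isPGroup' (mul_mem ha (inv_mem (pow_mem hP0 j))))) hj
  simpa using this

theorem Min.comm_of_commute (hI : ¬ Idx p ρ) {g a b : G} (hg : ¬ Scal ρ g) (ha : PEl p a) (hb : PEl p b)
    (hag : a * g = g * a) (hbg : b * g = g * b) : a * b = b * a :=
  hM.inj (by
    rw [map_mul, map_mul]
    exact hM.cen hI hg ⟨a, Subgroup.mem_centralizer_singleton_iff.mpr hag⟩
      ⟨b, Subgroup.mem_centralizer_singleton_iff.mpr hbg⟩ (pEl_coe.mp ha) (pEl_coe.mp hb))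

end Cfsg.Agent.FeitBound
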