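/-
A constituent of `χ χ̄` with many vectors fixed by a Sylow subgroup, and the fixed character on the normalizer
(namespace `Cfsg.Agent.FeitBound`).

Main results: `exists_constituent`, `avgP`, `avgP_mul`, `isCharacter_avgP`, `sum_normSq_avgP`.
-/
import Cfsg.Agent.Lib.FeitBound.Tools
import Cfsg.Agent.Lib.Char.Linear

set_option autoImplicit false
set_option linter.unusedSectionVars false
set_option linter.style.haveILetI false

open scoped ComplexConjugate

namespace Cfsg.Agent.FeitBound

open Module Cfsg

universe u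

variable {G : Type u} [Group G] [Fintype G] {V : Type} [AddCommGroup V] [Module ℂ V] [FiniteDimensional ℂ V]

/-- A constituent of `χ χ̄`, not the trivial one, with many fixed vectors under a commutative subgroup. -/
theorem exists_constituent (ρ : Representation ℂ G V) [ρ.IsIrreducible] (hn : 2 ≤ finrank ℂ V)
    (P : Subgroup G) (hP : ∀ a b : P, a * b = b * a) :
    ∃ (φ : IrrCharacter G) (d z : ℕ), (φ : G → ℂ) ≠ 1 ∧ (φ : G → ℂ) 1 = d ∧
      (∀ c ∈ Subgroup.center G, (φ : G → ℂ) c = (φ : G → ℂ) 1) ∧
      (Nat.card P : ℂ)⁻¹ * (∑ᶠ q : P, (φ : G → ℂ) q) = z ∧ d ≤ z * (finrank ℂ V + 1) := by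
  classical
  haveI := Fintype.ofFinite P
  haveI := Fintype.ofFinite (IrrCharacter G)
  haveI := Fintype.ofFinite (IrrCharacter P)
  set n := finrank ℂ V
  set χ := ρ.character
  set ψ : G → ℂ := fun g => χ g * conj (χ g) with hψ
  have hχ : IsCharacter G χ := Char.isCharacter_character ρ
  have hψc : IsCharacter G ψ := Char.IsCharacter.mul hχ (Char.IsCharacter.conj hχ)
  obtain ⟨m, hm, hmi⟩ := Char.IsCharacter.decompose hψc
  choose d hd using fun φ : IrrCharacter G => Char.IsCharacter.exists_degree (Char.IsIrrCharacter.isCharacter φ.2)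
  choose z hz using fun φ : IrrCharacter G => Char.IsCharacter.classInner_nat
    (Char.IsCharacter.restrict (Char.IsIrrCharacter.isCharacter φ.2) P) (Char.isCharacter_one (G := P))
  let o : IrrCharacter G := ⟨1, Char.isIrrCharacter_one⟩
  have hm1 : m o = 1 := by
    have h1 := hmi o
    have h2 : classInner χ χ = 1 := Char.classInner_irr_self (Char.isIrrCharacter_character ρ)
    have h3 : classInner ψ ((o : IrrCharacter G) : G → ℂ) = classInner χ χ := by
      simp [classInner, hψ, o]
    rw [h3, h2] at h1
    exact_mod_cast h1.symm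
  -- the degrees
  have hdeg : ∑ φ, m φ * d φ = n * n := by
    apply Nat.cast_injective (R := ℂ)
    push_cast
    have h1 := congrFun hm 1
    simp only [hψ, χ, Representation.char_one, Finset.sum_apply, Pi.smul_apply, smul_eq_mul, hd,
      Complex.conj_natCast] at h1
    exact h1.symm
  -- the fixed vectors
  have hfix : n ≤ ∑ φ, m φ * z φ := by
    obtain ⟨a, ha, hai⟩ := Char.IsCharacter.decompose (Char.IsCharacter.restrict hχ P)
    have h1 : (n : ℂ) = ∑ η : IrrCharacter P, (a η : ℂ) := by
      have h := congrFun ha 1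
      simp only [Finset.sum_apply, Pi.smul_apply, smul_eq_mul, Char.apply_one_eq_one_of_comm hP, mul_one] at h
      rw [← h]
      exact (Representation.char_one ρ).symm
    have h2 : classInner (fun q : P => χ q) (fun q : P => χ q) = ∑ η : IrrCharacter P, (a η : ℂ) * a η := by
      conv_lhs => arg 2; rw [ha]
      rw [Char.classInner_sum_right]
      refine Finset.sum_congr rfl fun η _ => ?_
      rw [Char.classInner_smul_right, hai η, Complex.conj_natCast]
    have h3 : classInner (fun q : P => χ q) (fun q : P => χ q) = ∑ φ, (m φ : ℂ) * (z φ : ℂ) := by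
      have h4 : classInner (fun q : P => ψ q) (1 : P → ℂ) = classInner (fun q : P => χ q) (fun q : P => χ q) := by
        simp [classInner, hψ]
      have h5 : (fun q : P => ψ q) = ∑ φ : IrrCharacter G, (m φ : ℂ) • fun q : P => (φ : G → ℂ) q := by
        funext q
        rw [congrFun hm q]
        simp [Finset.sum_apply]
      rw [← h4, h5, Char.classInner_sum_left]
      exact Finset.sum_congr rfl fun φ _ => by rw [Char.classInner_smul_left, ← hz φ]
    have h6 : ((∑ η : IrrCharacter P, a η * a η : ℕ) : ℂ) = ((∑ φ, m φ * z φ : ℕ) : ℂ) := by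
      push_cast; rw [← h2, h3]
    rw [show n = ∑ η : IrrCharacter P, a η from Nat.cast_injective (R := ℂ) (by push_cast; exact h1),
      ← Nat.cast_injective h6]
    exact Finset.sum_le_sum fun η _ => Nat.le_mul_self _
  -- trivial on the centre
  have hcen : ∀ φ, m φ ≠ 0 → ∀ c ∈ Subgroup.center G, (φ : G → ℂ) c = (φ : G → ℂ) 1 := by
    intro φ hφ c hc
    obtain ⟨w, hw⟩ := scal_of_center (ρ := ρ) hc
    have hnorm : ‖χ c‖ = (n : ℝ) := (Char.norm_character_eq_iff ρ c).mpr ⟨w, hw⟩
    have hψc' : ψ c = ψ 1 := by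
      simp only [hψ, Complex.mul_conj', hnorm, χ, Representation.char_one]
      norm_num
      rfl
    have hre : ∀ η : IrrCharacter G, ((η : G → ℂ) c).re ≤ d η := fun η => by
      have := Char.IsCharacter.norm_le (Char.IsIrrCharacter.isCharacter η.2) c
      rw [hd, Complex.natCast_re] at this
      exact (Complex.re_le_norm _).trans this
    have hsum : ∑ η : IrrCharacter G, (m η : ℝ) * ((d η : ℝ) - ((η : G → ℂ) c).re) = 0 := by
      have h1 := congrArg Complex.re ((congrFun hm c).symm.trans (hψc'.trans (congrFun hm 1)))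
      simp only [Finset.sum_apply, Pi.smul_apply, smul_eq_mul, Complex.re_sum, hd, ← Complex.ofReal_natCast,
        Complex.re_ofReal_mul, Complex.ofReal_re] at h1
      simp only [mul_sub, Finset.sum_sub_distrib, h1, sub_self]
    have h0 := (Finset.sum_eq_zero_iff_of_nonneg fun η _ =>
      mul_nonneg (Nat.cast_nonneg _) (sub_nonneg.mpr (hre η))).mp hsum φ (Finset.mem_univ _)
    have hre' : ((φ : G → ℂ) c).re = d φ :=
      (sub_eq_zero.mp ((mul_eq_zero.mp h0).resolve_left (Nat.cast_ne_zero.mpr hφ))).symm
    have hle := Char.IsCharacter.norm_le (Char.IsIrrCharacter.isCharacter φ.2) c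
    rw [hd, Complex.natCast_re] at hle
    have him : ((φ : G → ℂ) c).im = 0 := by
      have h1 : Complex.normSq ((φ : G → ℂ) c) ≤ (d φ : ℝ) * d φ := by
        rw [Complex.normSq_eq_norm_sq, sq]
        exact mul_le_mul hle hle (norm_nonneg _) (Nat.cast_nonneg _)
      rw [Complex.normSq_apply, hre'] at h1
      nlinarith
    rw [hd]
    exact Complex.ext (by rw [hre', Complex.natCast_re]) (by rw [him, Complex.natCast_im])
  by_contra hcon
  push Not at hcon
  have hlt : ∀ φ, φ ≠ o → m φ ≠ 0 → z φ * (n + 1) < d φ := fun φ hφ hmφ => by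
    refine hcon φ (d φ) (z φ) (fun e => hφ (Subtype.ext e)) (hd φ) (hcen φ hmφ) ?_
    rw [← hz φ, classInner, finsum_eq_sum_of_fintype]
    simp
  have hz1 : z o = 1 := Nat.cast_injective (R := ℂ) (by
    rw [← hz o, Nat.cast_one]
    exact Char.classInner_irr_self Char.isIrrCharacter_one)
  have hd1 : d o = 1 := Nat.cast_injective (R := ℂ) (by rw [← hd o, Nat.cast_one]; rfl)
  rw [← Finset.add_sum_erase _ _ (Finset.mem_univ o), hm1, hz1, one_mul] at hfix
  rw [← Finset.add_sum_erase _ _ (Finset.mem_univ o), hm1, hd1, one_mul] at hdeg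
  obtain ⟨φ0, hφ0, hne0⟩ : ∃ φ ∈ Finset.univ.erase o, m φ * d φ ≠ 0 := by
    refine Finset.exists_ne_zero_of_sum_ne_zero fun e => ?_
    rw [e] at hdeg
    have : 4 ≤ n * n := Nat.mul_le_mul hn hn
    omega
  have h7 : ∑ φ ∈ Finset.univ.erase o, m φ * z φ * (n + 1) < ∑ φ ∈ Finset.univ.erase o, m φ * d φ := by
    refine Finset.sum_lt_sum (fun φ hφ => ?_) ⟨φ0, hφ0, ?_⟩
    · rcases Nat.eq_zero_or_pos (m φ) with e | e
      · simp [e]
      · rw [mul_assoc]
        exact Nat.mul_le_mul_left _ (hlt φ (Finset.ne_of_mem_erase hφ) e.ne').le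
    · rw [mul_assoc]
      exact Nat.mul_lt_mul_of_pos_left (hlt φ0 (Finset.ne_of_mem_erase hφ0) (left_ne_zero_of_mul hne0))
        (Nat.pos_of_ne_zero (left_ne_zero_of_mul hne0))
  rw [← Finset.sum_mul] at h7
  have h8 := Nat.mul_le_mul_right (n + 1) hfix
  rw [add_mul, one_mul] at h8
  nlinarith

section average

variable {σ : Representation ℂ G V} {P : Subgroup G} [Fintype P]

/-- The average over the cosets of `P`. -/
noncomputable def avgP (σ : Representation ℂ G V) (P : Subgroup G) [Fintype P] (g : G) : ℂ :=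
  (Nat.card P : ℂ)⁻¹ * ∑ q : P, σ.character (g * q)

theorem avgP_mul (g : G) (a : P) : avgP σ P (g * a) = avgP σ P g := by
  rw [avgP, avgP]
  congr 1
  refine Fintype.sum_equiv (Equiv.mulLeft a) _ _ fun q => ?_
  show _ = σ.character (g * ((a * q : P) : G))
  rw [Subgroup.coe_mul, mul_assoc]

/-- The projection on the fixed vectors of `P`. -/
noncomputable def proj (σ : Representation ℂ G V) (P : Subgroup G) [Fintype P] : Module.End ℂ V :=
  (Nat.card P : ℂ)⁻¹ • ∑ q : P, σ (q : G)

theorem avgP_eq (g : G) : avgP σ P g = LinearMap.trace ℂ V (σ g * proj σ P) := by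
  rw [proj, mul_smul_comm, Finset.mul_sum, map_smul, map_sum, avgP, smul_eq_mul]
  congr 1
  exact Finset.sum_congr rfl fun q _ => by rw [← map_mul]; rfl

theorem mul_proj (a : P) : σ (a : G) * proj σ P = proj σ P := by
  rw [proj, mul_smul_comm, Finset.mul_sum]
  congr 1
  exact Fintype.sum_equiv (Equiv.mulLeft a) _ _ fun q => by rw [← map_mul]; rfl

theorem proj_idem : proj σ P * proj σ P = proj σ P := by
  conv_lhs => arg 1; rw [proj]
  rw [smul_mul_assoc, Finset.sum_mul, Finset.sum_congr rfl fun q _ => mul_proj q, Finset.sum_const,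
    Finset.card_univ, ← Nat.cast_smul_eq_nsmul ℂ, smul_smul, ← Nat.card_eq_fintype_card,
    inv_mul_cancel₀ (Nat.cast_ne_zero.mpr Nat.card_pos.ne'), one_smul]

theorem proj_comm {g : G} (hg : g ∈ Subgroup.normalizer (P : Set G)) : σ g * proj σ P = proj σ P * σ g := by
  rw [proj, mul_smul_comm, smul_mul_assoc, Finset.mul_sum, Finset.sum_mul]
  congr 1
  refine Fintype.sum_equiv
    { toFun := fun q : P => (⟨g * (q : G) * g⁻¹, (Subgroup.mem_normalizer_iff.mp hg q).mp q.2⟩ : P)
      invFun := fun q : P => (⟨g⁻¹ * (q : G) * g, (Subgroup.mem_normalizer_iff''.mp hg q).mp q.2⟩ : P)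
      left_inv := fun q => Subtype.ext (by simp [mul_assoc])
      right_inv := fun q => Subtype.ext (by simp [mul_assoc]) } _ _ fun q => ?_
  show σ g * σ (q : G) = σ (g * (q : G) * g⁻¹) * σ g
  rw [← map_mul, ← map_mul, inv_mul_cancel_right]

/-- The average is a character of the normalizer. -/
theorem isCharacter_avgP : IsCharacter (Subgroup.normalizer (P : Set G))
    (fun g : Subgroup.normalizer (P : Set G) => avgP σ P (g : G)) := by
  set N := Subgroup.normalizer (P : Set G)
  let W : Subrepresentation (res σ N) := ⟨LinearMap.range (proj σ P), by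
    rintro g _ ⟨v, rfl⟩
    exact ⟨σ (g : G) v, (LinearMap.congr_fun (proj_comm g.2) v).symm⟩⟩
  have h : W.toRepresentation.character = fun g : N => avgP σ P (g : G) := by
    funext g
    let π : V →ₗ[ℂ] W.toSubmodule := (proj σ P).rangeRestrict
    have hr : W.toRepresentation g = π ∘ₗ (σ (g : G) ∘ₗ W.toSubmodule.subtype) := by
      refine LinearMap.ext fun v => Subtype.ext ?_
      obtain ⟨v, f, rfl⟩ := v
      show σ (g : G) (proj σ P f) = proj σ P (σ (g : G) (proj σ P f))
      have h1 := LinearMap.congr_fun (proj_comm (σ := σ) g.2) (proj σ P f)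
      simp only [Module.End.mul_apply] at h1
      rw [← h1, ← Module.End.mul_apply (proj σ P), proj_idem]
    rw [Representation.character, hr, LinearMap.trace_comp_comm', LinearMap.comp_assoc,
      show W.toSubmodule.subtype ∘ₗ π = proj σ P from rfl, avgP_eq]
    rfl
  exact h ▸ Char.isCharacter_character W.toRepresentation

/-- The orthogonal decomposition on the normalizer: one unit is left over. -/
theorem sum_normSq_avgP (N : Subgroup G) (hN : N = Subgroup.normalizer (P : Set G)) [Fintype N]
    (hne : avgP σ P 1 ≠ σ.character 1) :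
    (∑ g : N, Complex.normSq (avgP σ P (g : G))) + Nat.card N ≤ ∑ g : N, Complex.normSq (σ.character (g : G)) := by
  set f : N → ℂ := fun g => σ.character (g : G)
  set b : N → ℂ := fun g => avgP σ P (g : G)
  have hcross : classInner b f = classInner b b := by
    rw [classInner, classInner]
    congr 1
    have hPN : ∀ q : P, (q : G) ∈ N := fun q => hN ▸ Subgroup.le_normalizer q.2
    have key : ∀ q : P, ∑ g : N, b g * conj (f g) =
        ∑ g : N, b g * conj (σ.character ((g : G) * (q : G))) := by
      intro q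
      refine (Fintype.sum_equiv (Equiv.mulRight (⟨q, hPN q⟩ : N)) _ _ fun g => ?_).symm
      show _ = avgP σ P ((g : G) * (q : G)) * conj (σ.character ((g : G) * (q : G)))
      rw [avgP_mul]
    have h1 : ∑ g : N, b g * conj (b g) = (Nat.card P : ℂ)⁻¹ * ∑ q : P, ∑ g : N, b g * conj (f g) := by
      rw [Finset.sum_congr rfl fun q _ => key q, Finset.sum_comm, Finset.mul_sum]
      refine Finset.sum_congr rfl fun g _ => ?_
      simp only [b, avgP, map_mul, map_inv₀, Complex.conj_natCast, map_sum, Finset.mul_sum]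
      exact Finset.sum_congr rfl fun q _ => by ring
    rw [h1, Finset.sum_const, Finset.card_univ, nsmul_eq_mul, ← Nat.card_eq_fintype_card,
      inv_mul_cancel_left₀ (Nat.cast_ne_zero.mpr Nat.card_pos.ne')]
  have hfc : IsCharacter N f := Char.IsCharacter.restrict (Char.isCharacter_character σ) N
  have hbc : IsCharacter N b := by
    subst hN
    convert isCharacter_avgP (σ := σ) (P := P)
  obtain ⟨i, hi⟩ := Char.IsCharacter.classInner_nat hfc hfc
  obtain ⟨j, hj⟩ := Char.IsCharacter.classInner_nat hbc hbc
  have hdiff : classInner (f - b) (f - b) = (i : ℂ) - j := by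
    rw [Char.classInner_sub_left, Char.classInner_sub_right, Char.classInner_sub_right, hi, hj, hcross, hj,
      ← Char.classInner_conj_symm b f, hcross, hj, Complex.conj_natCast]
    ring
  have hne0 : classInner (f - b) (f - b) ≠ 0 := fun e => hne (by
    have h0 := congrFun (Char.classInner_self_eq_zero.mp e) 1
    simp only [Pi.sub_apply, Pi.zero_apply, sub_eq_zero, f, b, OneMemClass.coe_one] at h0
    exact h0.symm)
  have hpos := Char.classInner_self_re_nonneg (f - b)
  rw [hdiff] at hpos hne0
  simp only [Complex.sub_re, Complex.natCast_re] at hpos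
  have hij : j + 1 ≤ i := by
    have h1 : j ≤ i := by exact_mod_cast sub_nonneg.mp hpos
    rcases Nat.eq_or_lt_of_le h1 with e | e
    · exact absurd (by rw [e, sub_self]) hne0
    · exact e
  have hsum : ∀ u : N → ℂ, ∀ r : ℕ, classInner u u = r → ∑ g : N, Complex.normSq (u g) = Nat.card N * r := by
    intro u r hr
    apply Complex.ofReal_injective
    push_cast
    rw [← hr, Char.card_mul_classInner]
    exact Finset.sum_congr rfl fun g _ => (Complex.mul_conj _).symm
  rw [hsum f i hi, hsum b j hj]
  have h2 : ((j : ℝ) + 1) ≤ i := by exact_mod_cast hij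
  nlinarith [mul_le_mul_of_nonneg_left h2 (Nat.cast_nonneg (α := ℝ) (Nat.card N))]

end average

end Cfsg.Agent.FeitBound
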