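/-
Degree at most `p - 2`: modulo scalars a Sylow subgroup that is not normal has order `p`
(namespace `Cfsg.Agent.FeitBound`).

Main results: `Min.false_of_not_idx` (the count over the elements commuting with a nonscalar element of one
Sylow subgroup), `good_all`, `idx_of_irr`.
-/
import Cfsg.Agent.Lib.FeitBound.Cen
import Cfsg.Agent.Lib.FeitBound.Constituent

set_option autoImplicit false
set_option linter.unusedSectionVars false
set_option linter.style.haveILetI false

open scoped ComplexConjugate

namespace Cfsg.Agent.FeitBound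

open Module Cfsg
open scoped Pointwise

universe u

variable {G : Type u} [Group G] {V : Type} [AddCommGroup V] [Module ℂ V] [FiniteDimensional ℂ V]
  {p : ℕ} [Fact p.Prime] {ρ : Representation ℂ G V} {k : ℕ}

theorem Idx.exists_witness [Finite G] (hI : ¬ Idx p ρ) : ∃ (P : Sylow p G) (x y : G), x ∈ P ∧ y ∈ P ∧
    ¬ Scal ρ x ∧ ∀ j : ℕ, ¬ Scal ρ (y * (x ^ j)⁻¹) := by
  simp only [Idx, not_forall, not_exists] at hI
  obtain ⟨P, x, hx, y, hy, hxs, hj⟩ := hI
  exact ⟨P, x, y, hx, hy, hxs, hj⟩

/-- Two witnesses of the same element lie in one Sylow subgroup. -/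
theorem Min.conj_mem_normalizer [Finite G] (hM : Min p ρ k) (hI : ¬ Idx p ρ) (P : Sylow p G) {g c x x' : G}
    (hg : ¬ Scal ρ g) (hx : x ∈ P) (hxs : ¬ Scal ρ x) (hxg : x * g = g * x)
    (hx' : x' ∈ P) (hx's : ¬ Scal ρ x') (hx'g : x' * (c * g * c⁻¹) = (c * g * c⁻¹) * x') :
    c ∈ Subgroup.normalizer ((P : Subgroup G) : Set G) := by
  have hxp : PEl p (c * x * c⁻¹) := (pEl_of_mem P.isPGroup' hx).conj c
  have hgs : ¬ Scal ρ (c * g * c⁻¹) := fun hs => hg (by simpa [mul_assoc] using hs.conj c⁻¹)
  have hcom : (c * x * c⁻¹) * (c * g * c⁻¹) = (c * g * c⁻¹) * (c * x * c⁻¹) := by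
    simpa [mul_assoc] using congrArg (fun t => c * t * c⁻¹) hxg
  have hmem : c * x * c⁻¹ ∈ P := hM.mem_of_commute hx' hx's hxp
    (hM.comm_of_commute hI hgs hxp (pEl_of_mem P.isPGroup' hx') hcom hx'g)
  have hcxs : ¬ Scal ρ (c * x * c⁻¹) := fun hs => hxs (by simpa [mul_assoc] using hs.conj c⁻¹)
  have hall : ∀ a ∈ P, c * a * c⁻¹ ∈ P := fun a ha => by
    refine hM.mem_of_commute hmem hcxs ((pEl_of_mem P.isPGroup' ha).conj c) ?_
    simpa [mul_assoc] using congrArg (fun t => c * t * c⁻¹) (hM.sylow_mul_comm P ha hx)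
  have heq : (P : Subgroup G).map (MulAut.conj c).toMonoidHom = (P : Subgroup G) := by
    refine Subgroup.eq_of_le_of_card_ge ?_
      (Subgroup.card_map_of_injective (MulAut.conj c).injective).ge
    rintro _ ⟨a, ha, rfl⟩
    exact hall a ha
  refine Subgroup.mem_normalizer_iff.mpr fun a => ⟨hall a, fun ha => ?_⟩
  obtain ⟨b, hb, hbe⟩ := (heq.symm ▸ ha : c * a * c⁻¹ ∈ (P : Subgroup G).map (MulAut.conj c).toMonoidHom)
  have : b = a := by
    have h1 : c * b * c⁻¹ = c * a * c⁻¹ := hbe
    exact mul_left_cancel (mul_right_cancel h1)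
  exact this ▸ hb

variable [Fintype G]

open scoped Classical in
/-- The elements fixed point free on `P` modulo scalars: the character is constant on their cosets. -/
theorem Min.char_mul_eq (hM : Min p ρ k) (P : Sylow p G) {g : G}
    (hg : g ∈ Subgroup.normalizer ((P : Subgroup G) : Set G))
    (hF : ∀ a ∈ P, a * g = g * a → Scal ρ a) {W : Type} [AddCommGroup W] [Module ℂ W] [FiniteDimensional ℂ W]
    (σ : Representation ℂ G W) (hσ : ∀ c ∈ Subgroup.center G, σ c = 1) {q : G} (hq : q ∈ P) :
    σ.character (g * q) = σ.character g := by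
  haveI := hM.irr
  haveI := CharApp.nontrivial_of_irr ρ
  have hmemP : ∀ a ∈ P, g * a * g⁻¹ ∈ P := fun a ha => (Subgroup.mem_normalizer_iff.mp hg a).mp ha
  have hcomm : ∀ a ∈ P, ∀ b ∈ P, a * b = b * a := fun a ha b hb => hM.sylow_mul_comm P ha hb
  -- `a ↦ a g a⁻¹ g⁻¹`
  let f : (P : Subgroup G) →* (P : Subgroup G) :=
    { toFun := fun a => ⟨(a : G) * (g * (a : G) * g⁻¹)⁻¹, mul_mem a.2 (inv_mem (hmemP a a.2))⟩
      map_one' := Subtype.ext (by simp)
      map_mul' := fun a b => Subtype.ext (by
        show (a : G) * b * (g * ((a : G) * b) * g⁻¹)⁻¹ =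
          (a : G) * (g * (a : G) * g⁻¹)⁻¹ * ((b : G) * (g * (b : G) * g⁻¹)⁻¹)
        rw [show (g * ((a : G) * b) * g⁻¹)⁻¹ = (g * (b : G) * g⁻¹)⁻¹ * (g * (a : G) * g⁻¹)⁻¹ by group,
          mul_assoc (a : G), mul_assoc (a : G)]
        congr 1
        have h1 := hcomm _ (mul_mem b.2 (inv_mem (hmemP b b.2))) _ (inv_mem (hmemP a a.2))
        simpa [mul_assoc] using h1) }
  set O : Subgroup (P : Subgroup G) := (Subgroup.center G).subgroupOf (P : Subgroup G)
  have hf1 : ∀ a : (P : Subgroup G), f a ∈ O → a ∈ O := by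
    intro a ha
    obtain ⟨s, hs⟩ := scal_of_center (ρ := ρ) (Subgroup.mem_subgroupOf.mp ha)
    have hpel : PEl p ((f a : (P : Subgroup G)) : G) := pEl_of_mem P.isPGroup' (f a).2
    have hsn : s ^ finrank ℂ V = 1 := by
      have h1 : LinearMap.det (ρ ((f a : (P : Subgroup G)) : G)) = 1 := by
        let D : G →* ℂ := LinearMap.det.comp ρ
        show D ((a : G) * (g * (a : G) * g⁻¹)⁻¹) = 1
        have hne : ∀ z : G, D z * D z⁻¹ = 1 := fun z => by rw [← map_mul, mul_inv_cancel, map_one]
        simp only [mul_inv_rev, inv_inv, map_mul]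
        calc D a * (D g * (D (a : G)⁻¹ * D g⁻¹)) = (D a * D (a : G)⁻¹) * (D g * D g⁻¹) := by ring
          _ = 1 := by rw [hne, hne, one_mul]
      rwa [hs, LinearMap.det_smul, map_one, mul_one] at h1
    obtain ⟨j, hj⟩ := hpel
    have hsj : s ^ p ^ j = 1 := scal_pow_eq_one hs hj
    have hs1 : s = 1 := by
      have hcop : Nat.Coprime (finrank ℂ V) (p ^ j) := Nat.Coprime.pow_right _
        ((Fact.out : p.Prime).coprime_iff_not_dvd.mpr fun hd => by
          have := Nat.le_of_dvd finrank_pos hd; have := hM.deg; omega).symm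
      have := pow_gcd_eq_one.mpr ⟨hsn, hsj⟩
      rwa [hcop.gcd_eq_one, pow_one] at this
    have hfa : ((f a : (P : Subgroup G)) : G) = 1 := hM.inj (by rw [hs, hs1, one_smul, map_one])
    refine Subgroup.mem_subgroupOf.mpr (mem_center_of_scal hM.inj (hF a a.2 ?_))
    have h2 : (a : G) * (g * (a : G) * g⁻¹)⁻¹ = 1 := hfa
    rw [mul_inv_eq_one] at h2
    conv_lhs => rw [h2]
    rw [inv_mul_cancel_right]
  haveI : O.Normal := inferInstanceAs ((Subgroup.center G).subgroupOf (P : Subgroup G)).Normal
  let h : (P : Subgroup G) →* (P : Subgroup G) ⧸ O := (QuotientGroup.mk' O).comp f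
  have hker : h.ker = O := by
    ext a
    rw [MonoidHom.mem_ker, MonoidHom.comp_apply, QuotientGroup.mk'_apply, QuotientGroup.eq_one_iff]
    refine ⟨hf1 a, fun ha => ?_⟩
    have hc := Subgroup.mem_center_iff.mp (Subgroup.mem_subgroupOf.mp ha) g
    have : f a = 1 := Subtype.ext (by
      show (a : G) * (g * (a : G) * g⁻¹)⁻¹ = 1
      rw [hc, mul_inv_cancel_right, mul_inv_cancel])
    rw [this]; exact one_mem _
  have hsurj : Function.Surjective h := by
    rw [← MonoidHom.range_eq_top]
    refine Subgroup.eq_top_of_card_eq _ ?_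
    rw [← Subgroup.index_ker, hker]
    exact Subgroup.index_eq_card O
  obtain ⟨a, ha⟩ := hsurj (QuotientGroup.mk' O ⟨q, hq⟩)
  have ho : (f a)⁻¹ * ⟨q, hq⟩ ∈ O := QuotientGroup.eq.mp ha
  set o : G := (((f a)⁻¹ * ⟨q, hq⟩ : (P : Subgroup G)) : G)
  have hoc : o ∈ Subgroup.center G := Subgroup.mem_subgroupOf.mp ho
  have hq' : q = ((f a : (P : Subgroup G)) : G) * o := by
    show q = _ * (((f a : (P : Subgroup G)) : G)⁻¹ * q)
    rw [mul_inv_cancel_left]
  have hcl := Char.IsCharacter.isClassFunction (Char.isCharacter_character σ)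
  have e1 : σ.character (g * q) = σ.character (q * g) := by
    rw [← hcl (g * q) g⁻¹]
    congr 1
    group
  have e2 : q * g = o * ((a : G) * g * (a : G)⁻¹) := by
    rw [hq', Subgroup.mem_center_iff.mp hoc, mul_assoc]
    congr 1
    show (a : G) * (g * (a : G) * g⁻¹)⁻¹ * g = _
    group
  rw [e1, e2]
  show LinearMap.trace ℂ W (σ (o * _)) = _
  rw [map_mul, hσ o hoc, one_mul]
  exact hcl g a

omit [Fintype G] in
/-- The index of the scalars in `P` is at least `p ^ 2`. -/
theorem Min.sq_le_relIndex [Finite G] (hM : Min p ρ k) (P : Sylow p G) {x y : G} (hx : x ∈ P) (hy : y ∈ P)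
    (hxs : ¬ Scal ρ x) (hj : ∀ j : ℕ, ¬ Scal ρ (y * (x ^ j)⁻¹)) :
    p ^ 2 ≤ (Subgroup.center G).relIndex (P : Subgroup G) := by
  haveI := hM.irr
  set O := (Subgroup.center G).subgroupOf (P : Subgroup G)
  haveI : O.Normal := inferInstanceAs ((Subgroup.center G).subgroupOf (P : Subgroup G)).Normal
  obtain ⟨n, hn⟩ := (P.isPGroup').to_quotient O |>.exists_card_eq
  rw [Subgroup.relIndex, Subgroup.index_eq_card, hn]
  refine Nat.pow_le_pow_right (Fact.out : p.Prime).pos ?_
  by_contra hlt
  push Not at hlt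
  have hxne : (QuotientGroup.mk' O ⟨x, hx⟩) ≠ 1 := fun e =>
    hxs (scal_of_center (Subgroup.mem_subgroupOf.mp ((QuotientGroup.eq_one_iff _).mp e)))
  interval_cases n
  · rw [pow_zero] at hn
    haveI := (Nat.card_eq_one_iff_unique.mp hn).1
    exact hxne (Subsingleton.elim _ _)
  · rw [pow_one] at hn
    have htop := zpowers_eq_top_of_prime_card hn hxne
    obtain ⟨j, hj'⟩ := Submonoid.mem_powers_iff _ _ |>.mp (mem_powers_iff_mem_zpowers.mpr
      (htop ▸ Subgroup.mem_top (QuotientGroup.mk' O ⟨y, hy⟩)))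
    refine hj j (scal_of_center ?_)
    have h1 : QuotientGroup.mk' O (⟨y, hy⟩ * (⟨x, hx⟩ ^ j)⁻¹) = 1 := by
      rw [map_mul, map_inv, map_pow, hj', mul_inv_cancel]
    exact Subgroup.mem_subgroupOf.mp ((QuotientGroup.eq_one_iff _).mp h1)

omit [Fintype G] in
/-- A proper normal subgroup containing the `p`-elements. -/
theorem Min.false_of_normal [Finite G] (hM : Min p ρ k) (hI : ¬ Idx p ρ) (K : Subgroup G) [K.Normal]
    (hK : K ≠ ⊤) (hall : ∀ a, PEl p a → a ∈ K) : False := by
  haveI := hM.irr
  have hlt := hM.card_lt hK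
  have hn := hM.deg
  have hnp : ¬ PComm p (res ρ K) := fun hP => hM.np fun a b ha hb =>
    hP ⟨a, hall a ha⟩ ⟨b, hall b hb⟩ (pEl_coe.mp ha) (pEl_coe.mp hb)
  by_cases hirr : (res ρ K).IsIrreducible
  · refine hI fun Q x hx y hy hxs => ?_
    obtain ⟨R, hR⟩ := ((Q.isPGroup').comap_of_injective K.subtype Subtype.coe_injective).exists_le_sylow
    have hQK : ∀ a ∈ Q, a ∈ K := fun a ha => hall a (pEl_of_mem Q.isPGroup' ha)
    obtain ⟨j, c, hc⟩ := hM.good K V (res ρ K) hlt hn hirr hnp R ⟨x, hQK x hx⟩ (hR (show x ∈ Q from hx))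
      ⟨y, hQK y hy⟩ (hR (show y ∈ Q from hy)) hxs
    refine ⟨j, c, ?_⟩
    simpa using hc
  · refine hnp (pcomm_of_irr fun W hW => ?_)
    have hle := Submodule.finrank_le W.toSubmodule
    have hWtop : W.toSubmodule ≠ ⊤ := fun e => hirr <| by
      haveI := CharApp.nontrivial_of_irr ρ
      refine CharApp.isIrreducible_of_forall_invariant _ fun S hS => ?_
      rcases CharApp.eq_bot_or_top_of_invariant W.toRepresentation (S.comap W.toSubmodule.subtype)
        (fun g v hv => hS g v hv) with h | h
      · left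
        refine (Submodule.eq_bot_iff _).mpr fun v hv => ?_
        have : (⟨v, e ▸ Submodule.mem_top⟩ : W.toSubmodule) ∈ S.comap W.toSubmodule.subtype := hv
        rw [h, Submodule.mem_bot] at this
        exact congrArg Subtype.val this
      · right
        refine eq_top_iff.mpr fun v _ => ?_
        have : (⟨v, e ▸ Submodule.mem_top⟩ : W.toSubmodule) ∈ S.comap W.toSubmodule.subtype :=
          h ▸ Submodule.mem_top
        exact this
    by_cases h2 : 2 * finrank ℂ W.toSubmodule ≤ finrank ℂ V
    · have hW0 : 0 < finrank ℂ W.toSubmodule := by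
        haveI := CharApp.nontrivial_of_irr W.toRepresentation
        exact finrank_pos
      exact hM.ft_sub K W (by omega) (by omega)
    · exfalso
      -- a large irreducible piece is invariant under the whole group
      refine hWtop ?_
      have hinv : ∀ g : G, ∀ v ∈ W.toSubmodule, ρ g v ∈ W.toSubmodule := by
        intro g
        set S := W.toSubmodule.comap (ρ g) with hS
        have hSinv : ∀ a : K, ∀ v ∈ S, res ρ K a v ∈ S := by
          intro a v hv
          show ρ g (ρ (a : G) v) ∈ W.toSubmodule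
          have h3 := W.apply_mem_toSubmodule ⟨g * a * g⁻¹, ‹K.Normal›.conj_mem _ a.2 g⟩ (v := ρ g v) hv
          have h4 : ρ (g * (a : G) * g⁻¹) (ρ g v) ∈ W.toSubmodule := h3
          rw [← rho_mul_apply] at h4 ⊢
          rwa [inv_mul_cancel_right] at h4
        rcases CharApp.eq_bot_or_top_of_invariant W.toRepresentation (S.comap W.toSubmodule.subtype)
          (fun a v hv => hSinv a v hv) with h | h
        · exfalso
          -- the two pieces would be disjoint
          have hdim : finrank ℂ S = finrank ℂ W.toSubmodule := by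
            have hinj : Function.Injective (ρ g⁻¹) := fun a b hab => by
              rw [← rho_apply_inv (ρ := ρ) g a, hab, rho_apply_inv]
            have hmap : W.toSubmodule.map (ρ g⁻¹) = S := by
              ext v
              refine ⟨?_, fun hv => ⟨ρ g v, hv, rho_inv_apply g v⟩⟩
              rintro ⟨w, hw, rfl⟩
              show ρ g (ρ g⁻¹ w) ∈ W.toSubmodule
              rwa [rho_apply_inv]
            rw [← hmap]
            exact ((Submodule.equivMapOfInjective _ hinj _).finrank_eq).symm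
          have hdis : W.toSubmodule ⊓ S = ⊥ := (Submodule.eq_bot_iff _).mpr fun v hv => by
            have : (⟨v, hv.1⟩ : W.toSubmodule) ∈ S.comap W.toSubmodule.subtype := hv.2
            rw [h, Submodule.mem_bot] at this
            exact congrArg Subtype.val this
          have := finrank_inf_ge W.toSubmodule S
          rw [hdis, finrank_bot, hdim] at this
          omega
        · intro v hv
          have : (⟨v, hv⟩ : W.toSubmodule) ∈ S.comap W.toSubmodule.subtype := h ▸ Submodule.mem_top
          exact this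
      rcases CharApp.eq_bot_or_top_of_invariant ρ W.toSubmodule hinv with e | e
      · haveI := CharApp.nontrivial_of_irr W.toRepresentation
        exact absurd e (Submodule.nontrivial_iff_ne_bot.1 inferInstance)
      · exact e

set_option maxHeartbeats 1000000 in
open scoped Classical in
/-- The count. -/
theorem Min.false_of_not_idx (hM : Min p ρ k) (hI : ¬ Idx p ρ) : False := by
  haveI := hM.irr
  haveI := CharApp.nontrivial_of_irr ρ
  obtain ⟨P, x, y, hx, hy, hxs, hj⟩ := Idx.exists_witness hI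
  have hq := hM.sq_le_relIndex P hx hy hxs hj
  have hcomm : ∀ a ∈ P, ∀ b ∈ P, a * b = b * a := fun a ha b hb => hM.sylow_mul_comm P ha hb
  have hn2 : 2 ≤ finrank ℂ V := by
    by_contra hlt
    have h1 : finrank ℂ V = 1 := by have := CharApp.finrank_pos_of_irr ρ; omega
    obtain ⟨v, -, hv⟩ := finrank_eq_one_iff'.mp h1
    obtain ⟨c, hc⟩ := hv (ρ x v)
    exact hxs ⟨c, LinearMap.ext fun w => by
      obtain ⟨t, rfl⟩ := hv w
      simp only [map_smul, ← hc, LinearMap.smul_apply, Module.End.one_apply, smul_comm t c]⟩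
  obtain ⟨φ, d, z, hφ1, hφd, hφc, hφz, hdz⟩ := exists_constituent ρ hn2 (P : Subgroup G)
    (fun a b => Subtype.ext (hcomm a a.2 b b.2))
  set n := finrank ℂ V
  have hn := hM.deg
  obtain ⟨m, σ, hσi, hσ⟩ := φ.2
  haveI := hσi
  have hσc : ∀ c ∈ Subgroup.center G, σ c = 1 := fun c hc => by
    have h1 := hφc c hc
    rw [← hσ, Representation.char_one] at h1
    exact (Char.character_eq_finrank_iff σ c).mp h1
  haveI := Fintype.ofFinite (P : Subgroup G)
  set N := Subgroup.normalizer ((P : Subgroup G) : Set G) with hN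
  haveI := Fintype.ofFinite N
  have hav1 : avgP σ (P : Subgroup G) 1 = z := by
    rw [← hφz, avgP, finsum_eq_sum_of_fintype]
    simp [← hσ]
  -- `P` is not in the kernel
  have hne : avgP σ (P : Subgroup G) 1 ≠ σ.character 1 := by
    intro he
    have hker : ∀ a ∈ P, σ a = 1 := by
      intro a ha
      have hz' : (z : ℂ) = (finrank ℂ (Fin m → ℂ) : ℂ) := by rw [← hav1, he, Representation.char_one]
      have hrange : LinearMap.range (proj σ (P : Subgroup G)) = ⊤ := by
        refine Submodule.eq_top_of_finrank_eq ?_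
        have h1 : (finrank ℂ (LinearMap.range (proj σ (P : Subgroup G))) : ℂ) =
            LinearMap.trace ℂ _ (proj σ (P : Subgroup G)) := by
          refine ((LinearMap.isProj_range_iff_isIdempotentElem _).mpr
            (proj_idem : proj σ (P : Subgroup G) * proj σ (P : Subgroup G) = _)).trace.symm
        apply Nat.cast_injective (R := ℂ)
        rw [h1, ← hz', ← hav1, avgP_eq, map_one, one_mul]
      refine LinearMap.ext fun v => ?_
      obtain ⟨w, rfl⟩ : v ∈ LinearMap.range (proj σ (P : Subgroup G)) := hrange ▸ Submodule.mem_top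
      exact LinearMap.congr_fun (mul_proj (σ := σ) (P := (P : Subgroup G)) ⟨a, ha⟩) w
    set K : Subgroup G := σ.ker
    have hall : ∀ a, PEl p a → a ∈ K := by
      intro a ha
      obtain ⟨Q, hQ⟩ := exists_sylow_mem ha
      obtain ⟨c, rfl⟩ := MulAction.exists_smul_eq G P Q
      have h2 : a ∈ MulAut.conj c • (P : Subgroup G) := hQ
      rw [Subgroup.mem_pointwise_smul_iff_inv_smul_mem] at h2
      have h3 : c⁻¹ * a * c ∈ K := MonoidHom.mem_ker.mpr (hker _ (show c⁻¹ * a * c ∈ (P : Subgroup G) by
        simpa [MulAut.smul_def] using h2))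
      simpa [mul_assoc] using (inferInstance : K.Normal).conj_mem _ h3 c
    refine hM.false_of_normal hI K (fun e => hφ1 ?_) hall
    have hconst : ∀ g, σ g = 1 := fun g => MonoidHom.mem_ker.mp (show g ∈ K by rw [e]; exact Subgroup.mem_top g)
    have hval : ∀ g, (φ : G → ℂ) g = d := fun g => by
      rw [← hφd, ← hσ]
      show LinearMap.trace ℂ _ (σ g) = LinearMap.trace ℂ _ (σ 1)
      rw [hconst, hconst]
    have h1 := Char.classInner_irr_self φ.2
    simp only [classInner, hval, Complex.conj_natCast, Finset.sum_const, Finset.card_univ, nsmul_eq_mul,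
      ← Nat.card_eq_fintype_card] at h1
    rw [inv_mul_cancel_left₀ (Nat.cast_ne_zero.mpr Nat.card_pos.ne')] at h1
    have hd1 : d = 1 := by
      have : d * d = 1 := by exact_mod_cast h1
      exact Nat.eq_one_of_mul_eq_one_right this
    funext g
    rw [hval g, hd1, Nat.cast_one]
    rfl
  have hpart := sum_normSq_avgP (σ := σ) (P := (P : Subgroup G)) N rfl hne
  -- the three parts of the normalizer
  set Zs := Finset.univ.filter fun g : N => Scal ρ (g : G) with hZs
  set D := Finset.univ.filter fun g : N => ¬ Scal ρ (g : G) ∧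
    ∃ a ∈ P, ¬ Scal ρ a ∧ a * (g : G) = (g : G) * a with hD
  set F := Finset.univ.filter fun g : N => ¬ Scal ρ (g : G) ∧
    ∀ a ∈ P, a * (g : G) = (g : G) * a → Scal ρ a with hF
  set S := ((P : Subgroup G) ⊔ Subgroup.center G) with hS
  have hSN : S ≤ N := sup_le Subgroup.le_normalizer fun c hc => Subgroup.mem_normalizer_iff.mpr fun a => by
    rw [← Subgroup.mem_center_iff.mp hc a, mul_inv_cancel_right]
  set Sf := Finset.univ.filter fun g : N => (g : G) ∈ S with hSf
  have hPZ : ∀ g ∈ S, ∃ a ∈ P, ∃ c ∈ Subgroup.center G, a * c = g := fun g hg =>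
    Subgroup.mem_sup_of_normal_right.mp hg
  have havS : ∀ g ∈ S, avgP σ (P : Subgroup G) g = z := by
    intro g hg
    obtain ⟨a, ha, c, hc, rfl⟩ := hPZ g hg
    rw [← hav1, Subgroup.mem_center_iff.mp hc a, avgP_mul c (⟨a, ha⟩ : (P : Subgroup G)), avgP, avgP]
    congr 1
    refine Finset.sum_congr rfl fun q _ => ?_
    show LinearMap.trace ℂ _ (σ (c * (q : G))) = LinearMap.trace ℂ _ (σ (1 * (q : G)))
    rw [map_mul, hσc c hc, one_mul, one_mul]
  have hFS : Disjoint F Sf := by
    rw [Finset.disjoint_left]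
    intro g hgF hgS
    obtain ⟨hgns, hgF⟩ := (Finset.mem_filter.mp hgF).2
    obtain ⟨a, ha, c, hc, hac⟩ := hPZ g (Finset.mem_filter.mp hgS).2
    by_cases has : Scal ρ a
    · exact hgns (hac ▸ has.mul (scal_of_center hc))
    · refine has (hgF a ha ?_)
      rw [← hac, ← mul_assoc, mul_assoc a c a, ← Subgroup.mem_center_iff.mp hc a, ← mul_assoc]
  have hFval : ∀ g ∈ F, avgP σ (P : Subgroup G) (g : G) = σ.character (g : G) := by
    intro g hg
    obtain ⟨-, hgF⟩ := (Finset.mem_filter.mp hg).2
    rw [avgP, Finset.sum_congr rfl (fun q _ => hM.char_mul_eq P g.2 hgF σ hσc q.2), Finset.sum_const,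
      Finset.card_univ, nsmul_eq_mul, ← Nat.card_eq_fintype_card,
      inv_mul_cancel_left₀ (Nat.cast_ne_zero.mpr Nat.card_pos.ne')]
  set f : N → ℝ := fun g => Complex.normSq (σ.character (g : G))
  have hsplit : ∑ g : N, f g = ∑ g ∈ Zs, f g + ∑ g ∈ F, f g + ∑ g ∈ D, f g := by
    rw [← Finset.sum_union, ← Finset.sum_union]
    · refine Finset.sum_congr (Finset.ext fun g => ?_) fun _ _ => rfl
      simp only [hZs, hF, hD, Finset.mem_union, Finset.mem_filter, Finset.mem_univ, true_and, true_iff]
      by_cases h1 : Scal ρ (g : G)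
      · exact Or.inl (Or.inl h1)
      · by_cases h2 : ∀ a ∈ P, a * (g : G) = (g : G) * a → Scal ρ a
        · exact Or.inl (Or.inr ⟨h1, h2⟩)
        · push Not at h2
          obtain ⟨a, ha, h3, h4⟩ := h2
          exact Or.inr ⟨h1, a, ha, h4, h3⟩
    · rw [Finset.disjoint_left]
      intro g hg hgD
      obtain ⟨hns, a, ha, has, hag⟩ := (Finset.mem_filter.mp hgD).2
      rcases Finset.mem_union.mp hg with h1 | h1
      · exact hns (Finset.mem_filter.mp h1).2
      · exact has ((Finset.mem_filter.mp h1).2.2 a ha hag)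
    · rw [Finset.disjoint_left]
      intro g hg hgF
      exact (Finset.mem_filter.mp hgF).2.1 (Finset.mem_filter.mp hg).2
  have hcard : ∀ H : Subgroup G, H ≤ N →
      ((Finset.univ.filter fun g : N => (g : G) ∈ H).card : ℝ) = Nat.card H := by
    intro H hH
    rw [← Nat.card_eq_finsetCard]
    congr 1
    exact Nat.card_congr
      { toFun := fun g => ⟨((g : N) : G), (Finset.mem_filter.mp g.2).2⟩
        invFun := fun g => ⟨⟨(g : G), hH g.2⟩, Finset.mem_filter.mpr ⟨Finset.mem_univ _, g.2⟩⟩
        left_inv := fun g => rfl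
        right_inv := fun g => rfl }
  have hZval : ∑ g ∈ Zs, f g = Nat.card (Subgroup.center G) * ((d : ℝ) * d) := by
    have e : Zs = Finset.univ.filter fun g : N => (g : G) ∈ Subgroup.center G :=
      Finset.filter_congr fun g _ => ⟨mem_center_of_scal hM.inj, scal_of_center⟩
    rw [e, Finset.sum_congr rfl (g := fun _ => (d : ℝ) * d), Finset.sum_const, nsmul_eq_mul]
    · congr 1
      refine Eq.trans ?_ (hcard _ (le_trans le_sup_right hSN))
      congr! 3
    intro g hg
    show Complex.normSq (σ.character (g : G)) = _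
    rw [hσ, hφc _ (Finset.mem_filter.mp hg).2, hφd, Complex.normSq_natCast]
  have hScard : Nat.card S = Nat.card (Subgroup.center G) * (Subgroup.center G).relIndex (P : Subgroup G) := by
    have h1 := Subgroup.relIndex_mul_relIndex (⊥ : Subgroup G) (Subgroup.center G) S bot_le le_sup_right
    rw [Subgroup.relIndex_bot_left, Subgroup.relIndex_bot_left, hS, Subgroup.relIndex_sup_right] at h1
    exact h1.symm
  have hSval : ∑ g ∈ Sf, Complex.normSq (avgP σ (P : Subgroup G) (g : G)) = Nat.card S * ((z : ℝ) * z) := by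
    rw [Finset.sum_congr rfl (g := fun _ => (z : ℝ) * z), Finset.sum_const, nsmul_eq_mul, hSf, hcard S hSN]
    intro g hg
    rw [havS _ (Finset.mem_filter.mp hg).2, Complex.normSq_natCast]
  have hb : ∑ g ∈ F, f g + ∑ g ∈ Sf, Complex.normSq (avgP σ (P : Subgroup G) (g : G)) ≤
      ∑ g : N, Complex.normSq (avgP σ (P : Subgroup G) (g : G)) := by
    rw [Finset.sum_congr rfl (fun g hg => show f g = Complex.normSq (avgP σ (P : Subgroup G) (g : G)) by
      rw [hFval g hg]), ← Finset.sum_union hFS]
    exact Finset.sum_le_sum_of_subset_of_nonneg (Finset.subset_univ _) fun _ _ _ => Complex.normSq_nonneg _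
  -- the conjugates of the third part
  haveI : Fintype (G ⧸ N) := Fintype.ofFinite _
  have hupper : (N.index : ℝ) * ∑ g ∈ D, f g + (d : ℝ) * d ≤ Nat.card G := by
    let T : (G ⧸ N) × N → G := fun a => a.1.out * (a.2 : G) * a.1.out⁻¹
    have hT : Set.InjOn T ((Finset.univ ×ˢ D : Finset ((G ⧸ N) × N)) : Set _) := by
      rintro ⟨u, g⟩ hg ⟨u', g'⟩ hg' he
      simp only [Finset.coe_product, Finset.coe_univ, Set.mem_prod, Set.mem_univ, true_and, Finset.mem_coe, hD,
        Finset.mem_filter, Finset.mem_univ] at hg hg'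
      obtain ⟨hgs, a, ha, has, hag⟩ := hg
      obtain ⟨-, a', ha', ha's, ha'g⟩ := hg'
      have e : (u'.out⁻¹ * u.out) * (g : G) * (u'.out⁻¹ * u.out)⁻¹ = (g' : G) := by
        have h' : u.out * (g : G) * u.out⁻¹ = u'.out * (g' : G) * u'.out⁻¹ := he
        calc _ = u'.out⁻¹ * (u.out * (g : G) * u.out⁻¹) * u'.out := by group
          _ = u'.out⁻¹ * (u'.out * (g' : G) * u'.out⁻¹) * u'.out := by rw [h']
          _ = _ := by group
      have hmem := hM.conj_mem_normalizer hI P (c := u'.out⁻¹ * u.out) hgs ha has hag ha' ha's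
        (by rw [e]; exact ha'g)
      have hu : u' = u := by
        rw [← QuotientGroup.out_eq' u', ← QuotientGroup.out_eq' u, QuotientGroup.eq]
        exact hmem
      subst hu
      simp only [inv_mul_cancel, one_mul, inv_one, mul_one] at e
      rw [Subtype.ext e]
    have hcl := Char.IsCharacter.isClassFunction (Char.isCharacter_character σ)
    have h1 : ∑ a ∈ (Finset.univ ×ˢ D : Finset ((G ⧸ N) × N)), Complex.normSq (σ.character (T a)) =
        N.index * ∑ g ∈ D, f g := by
      simp only [Finset.sum_product, T, hcl _ _, Finset.sum_const, nsmul_eq_mul, Finset.card_univ, Subgroup.index,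
        Nat.card_eq_fintype_card, f]
    have hnot : (1 : G) ∉ (Finset.univ ×ˢ D : Finset ((G ⧸ N) × N)).image T := by
      intro h1
      obtain ⟨⟨u, g⟩, hg, he⟩ := Finset.mem_image.mp h1
      simp only [Finset.mem_product, Finset.mem_univ, true_and, hD, Finset.mem_filter] at hg
      exact hg.1 (by rw [show (g : G) = 1 from conj_eq_one_iff.mp he]; exact Scal.one)
    have hd : (d : ℝ) * d = Complex.normSq (σ.character 1) := by rw [hσ, hφd, Complex.normSq_natCast]
    have hnorm : ∑ g : G, Complex.normSq (σ.character g) = Nat.card G := by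
      apply Complex.ofReal_injective
      push_cast
      rw [← mul_one (Nat.card G : ℂ), ← Char.classInner_irr_self φ.2, Char.card_mul_classInner, ← hσ]
      exact Finset.sum_congr rfl fun g _ => (Complex.mul_conj _).symm
    rw [hd, ← h1, ← Finset.sum_image hT (f := fun g => Complex.normSq (σ.character g)), add_comm,
      ← Finset.sum_insert (f := fun g => Complex.normSq (σ.character g)) hnot, ← hnorm]
    exact Finset.sum_le_sum_of_subset_of_nonneg (Finset.subset_univ _) fun g _ _ => Complex.normSq_nonneg _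
  -- arithmetic
  have hkey : (d : ℝ) * d ≤ (Subgroup.center G).relIndex (P : Subgroup G) * ((z : ℝ) * z) := by
    have h1 : d * d ≤ (Subgroup.center G).relIndex (P : Subgroup G) * (z * z) :=
      calc d * d ≤ (z * (n + 1)) * (z * (n + 1)) := Nat.mul_le_mul hdz hdz
        _ ≤ (z * p) * (z * p) := by
          have : n + 1 ≤ p := by omega
          gcongr
        _ = p ^ 2 * (z * z) := by ring
        _ ≤ _ := Nat.mul_le_mul_right _ hq
    exact_mod_cast h1
  have hDlow : (Nat.card N : ℝ) ≤ ∑ g ∈ D, f g := by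
    have hc0 : (0 : ℝ) ≤ Nat.card (Subgroup.center G) := Nat.cast_nonneg _
    have h2 := mul_le_mul_of_nonneg_left hkey hc0
    rw [hSval] at hb
    rw [hScard, Nat.cast_mul] at hb
    rw [hZval] at hsplit
    have hpart' : ∑ g : N, Complex.normSq (avgP σ (P : Subgroup G) (g : G)) + (Nat.card N : ℝ) ≤ ∑ g : N, f g := hpart
    nlinarith
  have hGN : (Nat.card G : ℝ) = (N.index : ℝ) * Nat.card N := by
    rw [← Nat.cast_mul, mul_comm, Subgroup.card_mul_index]
  have hd1 : (1 : ℝ) ≤ d := by
    have h1 : d ≠ 0 := fun e => Char.IsIrrCharacter.apply_one_ne_zero φ.2 (by rw [hφd, e, Nat.cast_zero])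
    exact_mod_cast Nat.pos_of_ne_zero h1
  have h3 := mul_le_mul_of_nonneg_left hDlow (Nat.cast_nonneg (α := ℝ) N.index)
  nlinarith

omit [Fintype G] in
/-- The induction. -/
theorem good_all (hp5 : 5 ≤ p) : ∀ k, Good.{u} p k := by
  intro k
  induction k with
  | zero =>
    intro H _ _ W _ _ _ σ hk
    have : 0 < Nat.card H := Nat.card_pos
    omega
  | succ k ih =>
    intro H _ _ W _ _ _ σ hk hd hirr hnp
    rcases Nat.lt_or_ge (Nat.card H + finrank ℂ W) (k + 1) with hlt | hge
    · exact ih H W σ (by omega) hd hirr hnp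
    by_cases hinj : Function.Injective σ
    · by_contra hI
      haveI := Fintype.ofFinite H
      exact Min.false_of_not_idx (⟨hp5, by omega, ih, hinj, hd, hirr, hnp⟩ : Min p σ k) hI
    -- pass to the image
    set N : Subgroup H := σ.ker
    let τ : Representation ℂ (H ⧸ N) W := QuotientGroup.lift N σ le_rfl
    have hτ : ∀ g : H, τ (QuotientGroup.mk' N g) = σ g := fun g => rfl
    haveI := hirr
    have hτi : τ.IsIrreducible := by
      haveI := CharApp.nontrivial_of_irr σ
      exact CharApp.isIrreducible_of_forall_invariant τ fun S hS =>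
        CharApp.eq_bot_or_top_of_invariant σ S fun g v hv => by rw [← hτ]; exact hS _ v hv
    have hcard : Nat.card (H ⧸ N) < Nat.card H := by
      have hN1 : 1 < Nat.card N := by
        rw [Finite.one_lt_card_iff_nontrivial, Subgroup.nontrivial_iff_ne_bot]
        intro e
        refine hinj fun a b hab => ?_
        have : a * b⁻¹ ∈ N := MonoidHom.mem_ker.mpr (by rw [map_mul, hab, ← map_mul, mul_inv_cancel, map_one])
        rwa [e, Subgroup.mem_bot, mul_inv_eq_one] at this
      have h1 := Subgroup.card_eq_card_quotient_mul_card_subgroup N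
      have : 0 < Nat.card (H ⧸ N) := Nat.card_pos
      rw [h1]
      exact (Nat.lt_mul_iff_one_lt_right this).mpr hN1
    have hτnp : ¬ PComm p τ := fun hP => hnp fun a b ha hb => by
      rw [← hτ a, ← hτ b]
      exact hP _ _ (ha.map _) (hb.map _)
    intro Q x hx y hy hxs
    obtain ⟨R, hR⟩ := (Q.isPGroup'.map (QuotientGroup.mk' N)).exists_le_sylow
    obtain ⟨j, c, hc⟩ := ih (H ⧸ N) W τ (by omega) hd hτi hτnp R _ (hR ⟨x, hx, rfl⟩) _ (hR ⟨y, hy, rfl⟩)
      (by rintro ⟨c, hc⟩; exact hxs ⟨c, (hτ x).symm.trans hc⟩)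
    refine ⟨j, c, ?_⟩
    rw [← map_pow, ← map_inv, ← map_mul, hτ] at hc
    exact hc

omit [Fintype G] in
/-- Modulo scalars a Sylow subgroup has order at most `p`, unless the `p`-elements commute. -/
theorem idx_of_irr [Finite G] (hp5 : 5 ≤ p) (ρ : Representation ℂ G V) [hirr : ρ.IsIrreducible]
    (hd : finrank ℂ V + 2 ≤ p) (hP : ¬ PComm p ρ) : Idx p ρ :=
  good_all hp5 (Nat.card G + finrank ℂ V) G V ρ le_rfl hd hirr hP

end Cfsg.Agent.FeitBound
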