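/-
No faithful character of degree `16` with `19` elements on a Sylow subgroup and six classes of generators
(namespace `Cfsg.Agent.FeitBound`).

The product of an exceptional character with the conjugate of another one gives the relation in the principal
block and bounds the degrees there; elements of order `11` and `13` and the inequality from the products of two
classes of order `19` exclude what remains.

Main result: `no_nineteen`.
-/
import Cfsg.Agent.Lib.FeitSmall.Inequality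
import Cfsg.Agent.Lib.Char.PRegular

set_option autoImplicit false
set_option linter.unusedSectionVars false
set_option linter.style.haveILetI false

open scoped ComplexConjugate

namespace Cfsg.Agent.FeitBound

open Cfsg Cfsg.Agent.Blocks Cfsg.Agent.CyclicDefect Cfsg.Agent.FeitSmall

variable {G : Type*} [Group G] [Fintype G]

/-- The sum over the powers of an element. -/
theorem exists_powSum {f : G → ℂ} (hf : IsCharacter G f) {q : ℕ} [NeZero q] {y : G} (hy : y ^ q = 1) :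
    ∃ m : ℕ, ∑ i ∈ Finset.range q, f (y ^ i) = ((q * m : ℕ) : ℂ) := by
  let φ : Multiplicative (ZMod q) →* G :=
    { toFun := fun a => y ^ a.toAdd.val
      map_one' := by simp
      map_mul' := fun a b => by
        rw [← pow_add]
        show y ^ (a.toAdd + b.toAdd).val = _
        rw [ZMod.val_add, ← pow_eq_pow_mod _ hy] }
  obtain ⟨m, hm⟩ := Char.IsCharacter.classInner_nat (Char.IsCharacter.comp_hom hf φ)
    (Char.isCharacter_of_hom (1 : Multiplicative (ZMod q) →* ℂ))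
  refine ⟨m, ?_⟩
  rw [classInner, Nat.card_eq_fintype_card, Fintype.card_multiplicative, ZMod.card,
    inv_mul_eq_iff_eq_mul₀ (Nat.cast_ne_zero.mpr (NeZero.ne q))] at hm
  rw [Nat.cast_mul, ← hm]
  simp only [MonoidHom.one_apply, map_one, mul_one]
  refine Finset.sum_bij' (fun i _ => Multiplicative.ofAdd (i : ZMod q)) (fun a _ => a.toAdd.val)
    (fun i _ => Finset.mem_univ _) (fun a _ => Finset.mem_range.mpr (ZMod.val_lt _)) (fun i hi => ?_)
    (fun a _ => ?_) (fun i hi => ?_)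
  · simp [ZMod.val_natCast, Nat.mod_eq_of_lt (Finset.mem_range.mp hi)]
  · simp
  · show f (y ^ i) = f (y ^ (i : ZMod q).val)
    rw [ZMod.val_natCast, Nat.mod_eq_of_lt (Finset.mem_range.mp hi)]

/-- The powers other than the identity. -/
theorem sum_range_const {f : ℕ → ℂ} {q : ℕ} (hq : 1 ≤ q) {w : ℂ} (hf : ∀ i, 0 < i → i < q → f i = w) :
    ∑ i ∈ Finset.range q, f i = f 0 + ((q : ℂ) - 1) * w := by
  obtain ⟨r, rfl⟩ := Nat.exists_eq_succ_of_ne_zero (show q ≠ 0 by omega)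
  rw [Finset.sum_range_succ', Finset.sum_congr rfl fun i hi =>
    hf (i + 1) (by omega) (by have := Finset.mem_range.mp hi; omega), Finset.sum_const, Finset.card_range]
  push_cast
  simp only [nsmul_eq_mul]
  ring

variable {p : ℕ} [Fact p.Prime] {x : G} {L : Subgroup G}

section general

variable {e t : ℕ} (h : CCore p x L e t)
include h

theorem flat_deg {χ : IrrCharacter G} {δ : ℤ}
    (hr : ∀ u : (ZMod p)ˣ, (N h χ (u : ZMod p) : ℤ) = N h χ 0 + δ) :
    (charDegree (χ : G → ℂ) : ℤ) = (p : ℤ) * N h χ 0 + δ * ((p : ℤ) - 1) := by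
  classical
  rw [deg_eq_sum h, ← Finset.add_sum_erase _ _ (Finset.mem_univ (0 : ZMod p)), Nat.cast_add, Nat.cast_sum,
    Finset.sum_congr rfl (g := fun _ => (N h χ 0 : ℤ) + δ) fun j hj => by
      rw [← hr (Units.mk0 j (Finset.ne_of_mem_erase hj)), Units.val_mk0],
    Finset.sum_const, Finset.card_erase_of_mem (Finset.mem_univ _), Finset.card_univ, ZMod.card, nsmul_eq_mul,
    Nat.cast_sub (Fact.out : p.Prime).one_le]
  push_cast
  ring

theorem flat_val {χ : IrrCharacter G} {δ : ℤ}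
    (hr : ∀ u : (ZMod p)ˣ, (N h χ (u : ZMod p) : ℤ) = N h χ 0 + δ) {i : ZMod p} (hi : i ≠ 0) :
    (χ : G → ℂ) (pw x i) = -(δ : ℂ) := by
  classical
  rw [apply_pw_eq_sum (χ : G → ℂ) i]
  have hmu : ∀ j : ZMod p, mu x (χ : G → ℂ) j * ζp (i * j) =
      ((N h χ 0 : ℂ) + δ) * ζp (j * i) - if j = 0 then (δ : ℂ) else 0 := by
    intro j
    by_cases hj : j = 0
    · rw [hj, if_pos rfl, mul_zero, zero_mul, ζ_zero, N_spec h]; ring
    · rw [if_neg hj, N_spec h, mul_comm j]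
      have h1 := congrArg (Int.cast (R := ℂ)) (hr (Units.mk0 j hj))
      push_cast at h1
      rw [Units.val_mk0] at h1
      rw [h1]; ring
  rw [Finset.sum_congr rfl fun j _ => hmu j, Finset.sum_sub_distrib, ← Finset.mul_sum, sum_ζ_mul, if_neg hi,
    Finset.sum_ite_eq', if_pos (Finset.mem_univ _), mul_zero, zero_sub]

theorem flat_notMem {ν : K x L →* ℂ} (C : Fam h ν) {χ : IrrCharacter G} {δ : ℤ}
    (hr : ∀ u : (ZMod p)ˣ, (N h χ (u : ZMod p) : ℤ) = N h χ 0 + δ) : χ ∉ Set.range C.exc := by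
  classical
  rintro ⟨c, rfl⟩
  haveI : Nontrivial (T h.hS) := Finite.one_lt_card_iff_nontrivial.mp (by rw [card_classes h]; exact h.ht2)
  obtain ⟨d, hd⟩ := exists_ne c
  have h1 := (C.row c ((c.out : (ZMod p)ˣ) : ZMod p)).symm.trans (hr c.out)
  have h2 := (C.row c ((d.out : (ZMod p)ˣ) : ZMod p)).symm.trans (hr d.out)
  rw [ind_unit h, if_pos (Quotient.out_eq c)] at h1
  rw [ind_unit h, if_neg (by rw [show ((d.out : (ZMod p)ˣ) : T h.hS) = d from Quotient.out_eq d]; exact hd)] at h2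
  rcases C.hε with e' | e' <;> rw [e'] at h1 h2 <;> linarith

open scoped Classical in
/-- The multiplicities of a character of constant row in the products. -/
theorem row_mul {μ : K x L →* ℂ} (A : Fam h μ) (hA : A.Minus h) {χ : IrrCharacter G}
    (hc : Cent (1 : K x L →* ℂ) (χ : G → ℂ)) {δ : ℤ}
    (hr : ∀ u : (ZMod p)ˣ, (N h χ (u : ZMod p) : ℤ) = N h χ 0 + δ) (c : T h.hS) :
    ∃ C0 : ℤ, ∀ a : T h.hS,
      (cm (fun g => (A.exc a : G → ℂ) g * conj ((A.exc c : G → ℂ) g)) χ : ℤ) = C0 - if a = c then δ else 0 := by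
  set f : G → ℂ := fun g => (χ : G → ℂ) g * (A.exc c : G → ℂ) g
  have hf : IsCharacter G f :=
    Char.IsCharacter.mul (Char.IsIrrCharacter.isCharacter χ.2) (Char.IsIrrCharacter.isCharacter (A.exc c).2)
  have hfc : Cent μ f := by
    have := hc.mul (A.cent c)
    rwa [one_mul] at this
  obtain ⟨C0, hC0⟩ := row_formula h A hf hfc
  have hχmu : ∀ v : ZMod p, mu x (χ : G → ℂ) v = ((N h χ 0 : ℂ) + δ) - if v = 0 then (δ : ℂ) else 0 := by
    intro v
    by_cases hv : v = 0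
    · rw [hv, if_pos rfl, N_spec h]; ring
    · rw [if_neg hv, N_spec h, sub_zero]
      have h1 := congrArg (Int.cast (R := ℂ)) (hr (Units.mk0 v hv))
      push_cast at h1
      exact h1
  have hmu : ∀ j : ZMod p, mu x f j =
      ((N h χ 0 : ℂ) + δ) * (∑ v : ZMod p, mu x (A.exc c : G → ℂ) (j - v)) - δ * mu x (A.exc c : G → ℂ) j := by
    intro j
    show mu x (fun g => (χ : G → ℂ) g * (A.exc c : G → ℂ) g) j = _
    rw [mu_mul, Finset.mul_sum]
    simp only [hχmu, sub_mul, ite_mul, zero_mul, Finset.sum_sub_distrib, Finset.sum_ite_eq', Finset.mem_univ,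
      if_true, sub_zero]
  have hs : ∀ j : ZMod p, ∑ v : ZMod p, mu x (A.exc c : G → ℂ) (j - v) = ∑ v : ZMod p, mu x (A.exc c : G → ℂ) v :=
    fun j => Fintype.sum_equiv (Equiv.subLeft j) _ _ fun v => rfl
  refine ⟨C0, fun a => ?_⟩
  have hkey : cm (fun g => (A.exc a : G → ℂ) g * conj ((A.exc c : G → ℂ) g)) χ = cm f (A.exc a) := by
    refine cm_eq_of_conj_eq hf (Char.IsCharacter.mul (Char.IsIrrCharacter.isCharacter (A.exc a).2)
      (Char.IsIrrCharacter.isCharacter (conjIrr (A.exc c)).2)) ?_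
    rw [classInner, classInner, map_mul, map_inv₀, Complex.conj_natCast, map_sum]
    congr 1
    refine Finset.sum_congr rfl fun g _ => ?_
    simp only [f, Pi.mul_apply, conjIrr_apply, map_mul, Complex.conj_conj]
    ring
  rw [hkey]
  have h1 := hC0 a.out
  rw [show ((a.out : (ZMod p)ˣ) : T h.hS) = a from Quotient.out_eq a, hmu, hmu, hs, hs (0 : ZMod p), mu_exc h,
    mu_exc h, ind_zero h, ind_unit h, show ((a.out : (ZMod p)ˣ) : T h.hS) = a from Quotient.out_eq a, hA.eps,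
    hA.m] at h1
  have h2 : (((-(cm f (A.exc a) : ℤ)) + C0 : ℤ) : ℂ) = (((if a = c then δ else 0) : ℤ) : ℂ) := by
    push_cast at h1 ⊢
    by_cases hac : a = c <;> simp only [hac, if_true, if_false] at h1 ⊢ <;> push_cast at h1 ⊢ <;>
      linear_combination -h1
  have h3 : (-(cm f (A.exc a) : ℤ)) + C0 = if a = c then δ else 0 := Int.cast_injective h2
  linarith

/-- An exponent prime to the order of the group inducing a given automorphism on `⟨y⟩` and fixing `K`. -/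
theorem exists_exp {q r : ℕ} (hq : q.Prime) (hqK : ¬ q ∣ Nat.card (K x L)) (hr : ¬ q ∣ r) {y : G}
    (hy : orderOf y = q) : ∃ k : ℕ, k.Coprime (Nat.card G) ∧ y ^ k = y ^ r ∧ ∀ z : K x L, z ^ k = z := by
  have hcop : q.Coprime (Nat.card (K x L)) := hq.coprime_iff_not_dvd.mpr hqK
  obtain ⟨s, hs1, hs2⟩ := Nat.chineseRemainder hcop r 1
  obtain ⟨k, hk, hmod⟩ := exists_coprime_modEq h
    (hcop.mul_dvd_of_dvd_of_dvd (hy ▸ orderOf_dvd_natCard y) (card_K_dvd h)) (r := s) (by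
      refine Nat.Coprime.mul_right ?_ ?_
      · exact (hq.coprime_iff_not_dvd.mpr fun hd => hr ((Nat.ModEq.dvd_iff hs1 dvd_rfl).mp hd)).symm
      · show Nat.gcd s _ = 1
        rw [hs2.gcd_eq, Nat.gcd_one_left])
  refine ⟨k, hk, ?_, fun z => ?_⟩
  · exact pow_eq_pow_iff_modEq.mpr (hy ▸ ((Nat.ModEq.of_mul_right _ hmod).trans hs1))
  · conv_rhs => rw [← pow_one z]
    exact pow_eq_pow_iff_modEq.mpr (((Nat.ModEq.of_mul_left _ hmod).trans hs2).of_dvd (orderOf_dvd_natCard z))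

/-- The exceptional characters take equal values at the generators of a subgroup of prime order. -/
theorem exc_pow {μ : K x L →* ℂ} (A : Fam h μ) {q : ℕ} (hq : q.Prime) (hqp : q ≠ p)
    (hqK : ¬ q ∣ Nat.card (K x L)) {y : G} (hy : orderOf y = q) {i : ℕ} (hi0 : 0 < i) (hi : i < q) :
    (A.exc 1 : G → ℂ) (y ^ i) = (A.exc 1 : G → ℂ) y := by
  obtain ⟨k, hk, hky, hkz⟩ := exists_exp h hq hqK (r := i)
    (fun hd => absurd (Nat.le_of_dvd hi0 hd) (by omega)) hy
  obtain ⟨-, -, hval⟩ := exists_pow_fam h A A hk (fun z => by rw [← map_pow, hkz z])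
  rw [← hky]
  refine (hval 1 y ?_).symm
  rw [hy]
  exact fun hd => hqp ((Nat.prime_dvd_prime_iff_eq Fact.out hq).mp hd).symm

/-- The value of an exceptional character at a power of `x`. -/
theorem exc_val {μ : K x L →* ℂ} (A : Fam h μ) (c : T h.hS) {i : ZMod p} (hi : i ≠ 0) :
    (A.exc c : G → ℂ) (pw x i) = (A.ε : ℂ) * ∑ j ∈ cs (U0 h.hS) c, ζp (i * j) := by
  classical
  rw [apply_pw_eq_sum (A.exc c : G → ℂ) i]
  have hmu : ∀ j : ZMod p, mu x (A.exc c : G → ℂ) j * ζp (i * j) =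
      (A.M : ℂ) * ζp (j * i) + if j ∈ cs (U0 h.hS) c then (A.ε : ℂ) * ζp (i * j) else 0 := by
    intro j
    rw [mu_exc h, ind, mul_comm j]
    split_ifs <;> push_cast <;> ring
  rw [Finset.sum_congr rfl fun j _ => hmu j, Finset.sum_add_distrib, ← Finset.mul_sum, sum_ζ_mul, if_neg hi,
    mul_zero, zero_add, Finset.sum_ite_mem, Finset.univ_inter, Finset.mul_sum]

open scoped Classical in
/-- The sums of the products of two periods. -/
theorem period_prod {u v : ZMod p} (hv : v ≠ 0) :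
    ∑ c : T h.hS, (∑ j ∈ cs (U0 h.hS) c, ζp (u * j)) * (∑ j ∈ cs (U0 h.hS) c, ζp (v * j)) =
      (if -u / v ∈ cs (U0 h.hS) 1 then (p : ℂ) else 0) - e := by
  have hstep : ∀ c : T h.hS, (∑ j ∈ cs (U0 h.hS) c, ζp (u * j)) * (∑ j ∈ cs (U0 h.hS) c, ζp (v * j)) =
      ∑ j ∈ cs (U0 h.hS) c, ∑ w ∈ cs (U0 h.hS) 1, ζp (j * (u + v * w)) := by
    intro c
    rw [Finset.sum_mul_sum]
    refine Finset.sum_congr rfl fun j hj => ?_
    refine Finset.sum_bij' (fun i _ => i / j) (fun w _ => w * j) (fun i hi => div_mem_cs_one _ hi hj)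
      (fun w hw => (mul_mem_cs_one _ hw).mpr hj) (fun i _ => ?_) (fun w _ => ?_) (fun i _ => ?_)
    · exact div_mul_cancel₀ i (ne_zero_of_mem_cs _ hj)
    · exact mul_div_cancel_right₀ w (ne_zero_of_mem_cs _ hj)
    · rw [← ζ_add]
      congr 1
      have := ne_zero_of_mem_cs _ hj
      field_simp
  rw [Finset.sum_congr rfl fun c _ => hstep c]
  have hsplit := sum_split_cs (U0 h.hS) (fun j : ZMod p => ∑ w ∈ cs (U0 h.hS) 1, ζp (j * (u + v * w)))
  simp only [zero_mul, ζ_zero, Finset.sum_const, card_cs, card_U0 h, nsmul_eq_mul, mul_one] at hsplit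
  rw [Finset.sum_comm] at hsplit
  simp only [sum_ζ_mul] at hsplit
  have hiff : ∀ w : ZMod p, u + v * w = 0 ↔ w = -u / v := fun w => by
    rw [eq_div_iff hv, mul_comm w, eq_neg_iff_add_eq_zero, add_comm]
  simp only [hiff, Finset.sum_ite_eq'] at hsplit
  rw [hsplit]
  ring

/-- The other nonexceptional members of the principal block. -/
structure Blk (C : Fam h (1 : K x L →* ℂ)) (θ₁ θ₂ : IrrCharacter G) (δ₁ δ₂ : ℤ) : Prop where
  ne : θ₁ ≠ θ₂
  one₁ : θ₁ ≠ oneIrr G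
  one₂ : θ₂ ≠ oneIrr G
  cent₁ : Cent (1 : K x L →* ℂ) (θ₁ : G → ℂ)
  cent₂ : Cent (1 : K x L →* ℂ) (θ₂ : G → ℂ)
  row₁ : ∀ u : (ZMod p)ˣ, (N h θ₁ (u : ZMod p) : ℤ) = N h θ₁ 0 + δ₁
  row₂ : ∀ u : (ZMod p)ˣ, (N h θ₂ (u : ZMod p) : ℤ) = N h θ₂ 0 + δ₂
  sgn₁ : δ₁ = 1 ∨ δ₁ = -1
  sgn₂ : δ₂ = 1 ∨ δ₂ = -1
  rest : ∀ χ : IrrCharacter G, Cent (1 : K x L →* ℂ) (χ : G → ℂ) → χ ∉ Set.range C.exc → χ ≠ oneIrr G →
    χ ≠ θ₁ → χ ≠ θ₂ → ∀ u : (ZMod p)ˣ, (N h χ (u : ZMod p) : ℤ) = N h χ 0 + 0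

theorem Blk.symm {C : Fam h (1 : K x L →* ℂ)} {θ₁ θ₂ : IrrCharacter G} {δ₁ δ₂ : ℤ}
    (B : Blk h C θ₁ θ₂ δ₁ δ₂) : Blk h C θ₂ θ₁ δ₂ δ₁ :=
  ⟨B.ne.symm, B.one₂, B.one₁, B.cent₂, B.cent₁, B.row₂, B.row₁, B.sgn₂, B.sgn₁,
    fun χ a b c d e' => B.rest χ a b c e' d⟩

theorem row_one : ∀ u : (ZMod p)ˣ, (N h (oneIrr G) (u : ZMod p) : ℤ) = N h (oneIrr G) 0 + (-1) := fun u => by
  rw [N_one h, N_one h, if_neg u.ne_zero, if_pos rfl]; norm_num

omit h in
theorem cent_one : Cent (1 : K x L →* ℂ) ((oneIrr G : IrrCharacter G) : G → ℂ) := fun g k => by simp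

end general

section nineteen

variable (h : CCore p x L 3 6)
include h

theorem p19 : p = 19 := p_eq h

/-- The product of an exceptional character with the conjugate of the first. -/
noncomputable abbrev pr {μ : K x L →* ℂ} (A : Fam h μ) (a : T h.hS) : G → ℂ :=
  fun g => (A.exc a : G → ℂ) g * conj ((A.exc 1 : G → ℂ) g)

theorem pr_char {μ : K x L →* ℂ} (A : Fam h μ) (a : T h.hS) : IsCharacter G (pr h A a) :=
  Char.IsCharacter.mul (Char.IsIrrCharacter.isCharacter (A.exc a).2)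
    (Char.IsIrrCharacter.isCharacter (conjIrr (A.exc 1)).2)

theorem pr_cent {μ : K x L →* ℂ} (A : Fam h μ) (a : T h.hS) : Cent (1 : K x L →* ℂ) (pr h A a) := fun g k => by
  have h1 := norm_hom h μ k
  simp only [pr, A.cent a g k, A.cent 1 g k, map_mul, MonoidHom.one_apply]
  linear_combination (A.exc a : G → ℂ) g * conj ((A.exc 1 : G → ℂ) g) * h1

theorem pr_eq_prod {μ : K x L →* ℂ} (A : Fam h μ) (a : T h.hS) :
    pr h A a = fun g => (A.exc a : G → ℂ) g * ((conjFam h A).exc (negOne (U0 h.hS) * 1) : G → ℂ) g := by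
  funext g
  show _ = (A.exc a : G → ℂ) g *
    (conjIrr (A.exc (negOne (U0 h.hS) * (negOne (U0 h.hS) * 1))) : G → ℂ) g
  rw [negOne_mul_negOne_mul]
  rfl

open scoped Classical in
/-- The exceptional constituents of the products. -/
theorem exc_total (hgen : Subgroup.closure {g : G | orderOf g = p} = ⊤) {μ : K x L →* ℂ} (A : Fam h μ)
    (hA : A.Minus h) (C : Fam h (1 : K x L →* ℂ)) :
    C.ε = 1 ∧ 1 ≤ C.M ∧
      ∀ a : T h.hS, ∑ γ, cm (pr h A a) (C.exc γ) = if a = 1 then 2 else 3 := by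
  have hM := C.M_pos_of_gen h hgen (by norm_num)
  obtain ⟨k, hk, hbd⟩ := principal_shift h A C hA rfl hM
  have hB : (conjFam h A).Minus h := ⟨hA.eps, hA.m⟩
  have h1ne : (1 : T h.hS) ≠ negOne (U0 h.hS) * 1 := by
    rw [mul_one]; exact (negOne_ne_one h (by decide) (p_ne_two h)).symm
  have hoff := shift_total h A (conjFam h A) C hA hB hk 1 1
  rw [if_neg h1ne] at hoff
  have hb := hbd 1 1
  have hε : C.ε = 1 := by
    refine C.hε.resolve_right fun hε => ?_
    rw [hε] at hoff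
    refine crit_neg h A (conjFam h A) C hA hB hε hk ?_
    generalize hS : (∑ γ, cm (fun g => (A.exc 1 : G → ℂ) g * ((conjFam h A).exc 1 : G → ℂ) g) (C.exc γ)) = S
      at hoff hb
    push_cast at hoff ⊢
    omega
  refine ⟨hε, hM, fun a => ?_⟩
  rw [hε] at hoff
  have ha := shift_total h A (conjFam h A) C hA hB hk a (negOne (U0 h.hS) * 1)
  rw [hε, ← pr_eq_prod h A a] at ha
  generalize hS : (∑ γ, cm (fun g => (A.exc 1 : G → ℂ) g * ((conjFam h A).exc 1 : G → ℂ) g) (C.exc γ)) = S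
    at hoff hb
  generalize hS' : (∑ γ, cm (pr h A a) (C.exc γ)) = S' at ha ⊢
  by_cases h1 : a = 1
  · rw [if_pos (by rw [h1])] at ha
    rw [if_pos h1]
    push_cast at hoff ha
    omega
  · rw [if_neg fun h2 => h1 (mul_left_cancel h2).symm] at ha
    rw [if_neg h1]
    push_cast at hoff ha
    omega

variable [Fintype (IrrCharacter G)]

open scoped Classical in
/-- The principal block. -/
theorem exists_blk (C : Fam h (1 : K x L →* ℂ)) :
    ∃ θ₁ θ₂ δ₁ δ₂, Blk h C θ₁ θ₂ δ₁ δ₂ := by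
  set B0 : Finset (IrrCharacter G) := Finset.univ.filter fun χ =>
    Cent (1 : K x L →* ℂ) (χ : G → ℂ) ∧ ∃ u : (ZMod p)ˣ, N h χ (u : ZMod p) ≠ N h χ 0
  have hB0 : B0.card = 9 := by
    have h1 := C.count
    rw [Nat.card_eq_fintype_card, Fintype.card_subtype] at h1
    exact h1
  set T1 : Finset (IrrCharacter G) := insert (oneIrr G) (Finset.univ.image C.exc)
  have hT1 : T1 ⊆ B0 := by
    intro χ hχ
    rcases Finset.mem_insert.mp hχ with rfl | hχ
    · exact Finset.mem_filter.mpr ⟨Finset.mem_univ _, cent_one, 1, by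
        rw [N_one h, N_one h, if_neg (Units.ne_zero _), if_pos rfl]; norm_num⟩
    · obtain ⟨c, -, rfl⟩ := Finset.mem_image.mp hχ
      refine Finset.mem_filter.mpr ⟨Finset.mem_univ _, C.cent c, c.out, fun e' => ?_⟩
      have h1 := C.row c ((c.out : (ZMod p)ˣ) : ZMod p)
      have h2 := C.row c 0
      rw [ind_unit h, if_pos (Quotient.out_eq c)] at h1
      rw [ind_zero h] at h2
      rw [e'] at h1
      rcases C.hε with h3 | h3 <;> rw [h3] at h1 h2 <;> omega
  have hT1c : T1.card = 7 := by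
    rw [Finset.card_insert_of_notMem (by simpa using oneG_notMem h C),
      Finset.card_image_of_injective _ C.inj, Finset.card_univ, ← Nat.card_eq_fintype_card, card_classes h]
  have hcard : (B0 \ T1).card = 2 := by rw [Finset.card_sdiff_of_subset hT1, hB0, hT1c]
  obtain ⟨θ₁, θ₂, hne, hS⟩ := Finset.card_eq_two.mp hcard
  have hmem : ∀ χ : IrrCharacter G, χ ∈ B0 → χ ∉ T1 → χ = θ₁ ∨ χ = θ₂ := fun χ h1 h2 => by
    have : χ ∈ B0 \ T1 := Finset.mem_sdiff.mpr ⟨h1, h2⟩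
    rw [hS] at this
    simpa using this
  have hdat : ∀ θ ∈ B0 \ T1, θ ≠ oneIrr G ∧ Cent (1 : K x L →* ℂ) (θ : G → ℂ) ∧
      ∃ δ : ℤ, (δ = 1 ∨ δ = -1) ∧ ∀ u : (ZMod p)ˣ, (N h θ (u : ZMod p) : ℤ) = N h θ 0 + δ := by
    intro θ hθ
    obtain ⟨hθ0, hθ1⟩ := Finset.mem_sdiff.mp hθ
    obtain ⟨-, hc, u, hu⟩ := Finset.mem_filter.mp hθ0
    obtain ⟨δ, hδ, hr⟩ := C.cst θ hc (fun ⟨c, hc'⟩ => hθ1
      (Finset.mem_insert_of_mem (Finset.mem_image.mpr ⟨c, Finset.mem_univ _, hc'⟩)))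
    refine ⟨fun e' => hθ1 (e' ▸ Finset.mem_insert_self _ _), hc, δ, hδ.resolve_left ?_, hr⟩
    rintro rfl
    have h1 := hr u
    rw [add_zero] at h1
    exact hu (by exact_mod_cast h1)
  obtain ⟨o1, c1, δ₁, s1, r1⟩ := hdat θ₁ (by rw [hS]; simp)
  obtain ⟨o2, c2, δ₂, s2, r2⟩ := hdat θ₂ (by rw [hS]; simp)
  refine ⟨θ₁, θ₂, δ₁, δ₂, hne, o1, o2, c1, c2, r1, r2, s1, s2, fun χ hc hn h1 h2 h3 u => ?_⟩
  rw [add_zero, Int.natCast_inj]
  by_contra hu
  have hm : χ ∉ T1 := by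
    intro hm
    rcases Finset.mem_insert.mp hm with e' | e'
    · exact h1 e'
    · obtain ⟨c, -, rfl⟩ := Finset.mem_image.mp e'
      exact hn ⟨c, rfl⟩
  rcases hmem χ (Finset.mem_filter.mpr ⟨Finset.mem_univ _, hc, u, hu⟩) hm with e' | e'
  · exact h2 e'
  · exact h3 e'

variable {μ : K x L →* ℂ} (A : Fam h μ) (C : Fam h (1 : K x L →* ℂ)) {θ₁ θ₂ : IrrCharacter G} {δ₁ δ₂ : ℤ}

open scoped Classical in
/-- The members of the principal block. -/
noncomputable def mem0 (θ₁ θ₂ : IrrCharacter G) : Finset (IrrCharacter G) :=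
  insert (oneIrr G) (insert θ₁ (insert θ₂ (Finset.univ.image C.exc)))

open scoped Classical in
theorem sum_mem0 (B : Blk h C θ₁ θ₂ δ₁ δ₂) {M : Type*} [AddCommMonoid M] (F : IrrCharacter G → M) :
    ∑ χ ∈ mem0 h C θ₁ θ₂, F χ = F (oneIrr G) + (F θ₁ + (F θ₂ + ∑ γ, F (C.exc γ))) := by
  have hn1 := flat_notMem h C B.row₁
  have hn2 := flat_notMem h C B.row₂
  have h0 := oneG_notMem h C
  rw [mem0, Finset.sum_insert, Finset.sum_insert, Finset.sum_insert,
    Finset.sum_image fun a _ b _ e' => C.inj e']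
  · simpa using hn2
  · simp only [Finset.mem_insert, Finset.mem_image, Finset.mem_univ, true_and, not_or]
    exact ⟨B.ne, hn1⟩
  · simp only [Finset.mem_insert, Finset.mem_image, Finset.mem_univ, true_and, not_or]
    exact ⟨B.one₁.symm, B.one₂.symm, h0⟩

/-- Outside `mem0` a constituent has a flat row. -/
theorem flat_of_notMem (B : Blk h C θ₁ θ₂ δ₁ δ₂) {a : T h.hS} {χ : IrrCharacter G}
    (hχ : χ ∉ mem0 h C θ₁ θ₂) (hcm : cm (pr h A a) χ ≠ 0) :
    Cent (1 : K x L →* ℂ) (χ : G → ℂ) ∧ ∀ u : (ZMod p)ˣ, (N h χ (u : ZMod p) : ℤ) = N h χ 0 + 0 := by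
  classical
  simp only [mem0, Finset.mem_insert, Finset.mem_image, Finset.mem_univ, true_and, not_or] at hχ
  obtain ⟨h0, h1, h2, h3⟩ := hχ
  have hc := cent_of_cm h (pr_char h A a) (pr_cent h A a) hcm
  exact ⟨hc, B.rest χ hc h3 h0 h1 h2⟩

variable (hA : A.Minus h)
include hA

theorem cm_flat {χ : IrrCharacter G} (hc : Cent (1 : K x L →* ℂ) (χ : G → ℂ)) {δ : ℤ}
    (hr : ∀ u : (ZMod p)ˣ, (N h χ (u : ZMod p) : ℤ) = N h χ 0 + δ) {a : T h.hS} (ha : a ≠ 1) :
    (cm (pr h A 1) χ : ℤ) = cm (pr h A a) χ - δ := by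
  classical
  obtain ⟨C0, hC0⟩ := row_mul h A hA hc hr 1
  rw [hC0 1, hC0 a, if_pos rfl, if_neg ha, sub_zero]

theorem cm_trivial {a : T h.hS} (ha : a ≠ 1) :
    cm (pr h A a) (oneIrr G) = 0 ∧ cm (pr h A 1) (oneIrr G) = 1 := by
  have h0 : cm (pr h A a) (oneIrr G) = 0 := by
    apply Nat.cast_injective (R := ℂ)
    rw [cm_one (pr_char h A a), Nat.cast_zero, show (Nat.card G : ℂ)⁻¹ * ∑ g, pr h A a g =
      classInner (A.exc a : G → ℂ) (A.exc 1 : G → ℂ) from rfl,
      Char.classInner_irr_of_ne (A.exc a).2 (A.exc 1).2 fun e' => ha (A.inj (Subtype.ext e'))]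
  have := cm_flat h A hA cent_one (row_one h) ha
  rw [h0] at this
  exact ⟨h0, by omega⟩

omit hA in
theorem pr_regular (a : T h.hS) {g : G} (hg : ¬ p ∣ orderOf g) :
    pr h A a g = (A.exc 1 : G → ℂ) g * conj ((A.exc 1 : G → ℂ) g) := by
  show (A.exc a : G → ℂ) g * _ = _
  rw [A.reg a 1 g hg]

theorem deg_A : (A.exc 1 : G → ℂ) 1 = 16 := by
  rw [deg_minus h A hA, p19 h]; norm_num

omit hA in
theorem regular_one : ¬ p ∣ orderOf (1 : G) := by
  simpa using (Fact.out : p.Prime).ne_one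

variable (hgen : Subgroup.closure {g : G | orderOf g = p} = ⊤) (B : Blk h C θ₁ θ₂ δ₁ δ₂)
include hgen B

/-- The relation in the principal block. -/
theorem relation {g : G} (hg : ¬ p ∣ orderOf g) :
    1 - (δ₁ : ℂ) * (θ₁ : G → ℂ) g - (δ₂ : ℂ) * (θ₂ : G → ℂ) g - (C.exc 1 : G → ℂ) g = 0 := by
  classical
  obtain ⟨-, -, htot⟩ := exc_total h hgen A hA C
  haveI : Nontrivial (T h.hS) := Finite.one_lt_card_iff_nontrivial.mp (by rw [card_classes h]; norm_num)
  obtain ⟨a, ha⟩ := exists_ne (1 : T h.hS)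
  set F : IrrCharacter G → ℂ := fun χ =>
    ((cm (pr h A 1) χ : ℂ) - cm (pr h A a) χ) * (χ : G → ℂ) g with hF
  have h0 : ∑ χ, F χ = 0 := by
    simp only [hF, sub_mul, Finset.sum_sub_distrib, ← apply_eq_sum_cm (pr_char h A _), pr_regular h A _ hg,
      sub_self]
  have hdiff : ∀ {χ : IrrCharacter G}, Cent (1 : K x L →* ℂ) (χ : G → ℂ) → ∀ {δ : ℤ},
      (∀ u : (ZMod p)ˣ, (N h χ (u : ZMod p) : ℤ) = N h χ 0 + δ) → F χ = -(δ : ℂ) * (χ : G → ℂ) g := by
    intro χ hc δ hr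
    have h1 := congrArg (Int.cast (R := ℂ)) (cm_flat h A hA hc hr ha)
    push_cast at h1
    simp only [hF, h1]; ring
  rw [← Finset.sum_subset (Finset.subset_univ (mem0 h C θ₁ θ₂)) (fun χ _ hχ => ?_), sum_mem0 h C B,
    hdiff cent_one (row_one h), hdiff B.cent₁ B.row₁, hdiff B.cent₂ B.row₂] at h0
  · have h1 : ∑ γ, F (C.exc γ) = -(C.exc 1 : G → ℂ) g := by
      simp only [hF, C.reg _ 1 g hg, ← Finset.sum_mul, Finset.sum_sub_distrib, ← Nat.cast_sum, htot, if_pos,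
        if_neg ha]
      norm_num
    rw [h1, show ((oneIrr G : IrrCharacter G) : G → ℂ) g = 1 from rfl] at h0
    push_cast at h0
    linear_combination h0
  · by_cases hz : cm (pr h A 1) χ = 0 ∧ cm (pr h A a) χ = 0
    · simp [hF, hz.1, hz.2]
    · obtain ⟨hc, hr⟩ : Cent (1 : K x L →* ℂ) (χ : G → ℂ) ∧
          ∀ u : (ZMod p)ˣ, (N h χ (u : ZMod p) : ℤ) = N h χ 0 + 0 := by
        rcases not_and_or.mp hz with h1 | h1 <;> exact flat_of_notMem h A C B hχ h1
      rw [hdiff hc hr]; simp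

/-- The congruence of the degree and the fixed space. -/
theorem excess {a : T h.hS} (ha : a ≠ 1) :
    δ₁ * (cm (pr h A a) θ₁ : ℤ) + δ₂ * (cm (pr h A a) θ₂ : ℤ) = 0 := by
  classical
  obtain ⟨hε, -, htot⟩ := exc_total h hgen A hA C
  have hp := p19 h
  set F : IrrCharacter G → ℂ := fun χ =>
    (cm (pr h A a) χ : ℂ) * ((χ : G → ℂ) 1 - (p : ℂ) * mu x (χ : G → ℂ) (0 : ZMod p)) with hF
  have hflat : ∀ {χ : IrrCharacter G} {δ : ℤ}, (∀ u : (ZMod p)ˣ, (N h χ (u : ZMod p) : ℤ) = N h χ 0 + δ) →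
      F χ = (cm (pr h A a) χ : ℂ) * (18 * δ) := by
    intro χ δ hr
    have h1 := congrArg (Int.cast (R := ℂ)) (flat_deg h hr)
    rw [Int.cast_natCast, charDegree_cast] at h1
    simp only [hF]
    rw [h1, N_spec h, show (p : ℂ) = 19 by rw [hp]; norm_num]
    push_cast
    rw [show (p : ℂ) = 19 by rw [hp]; norm_num]
    push_cast; ring
  have hne : a ≠ 1 := ha
  have h0 : ∑ χ, F χ = 9 := by
    simp only [hF, mul_sub, Finset.sum_sub_distrib, ← apply_eq_sum_cm (pr_char h A a), mul_left_comm _ (p : ℂ),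
      ← Finset.mul_sum, ← mu_eq_sum (pr_char h A a)]
    rw [pr_regular h A a (regular_one h), deg_A h A hA, map_ofNat, pr_eq_prod h A a,
      mu_prod_zero h A (conjFam h A) hA ⟨hA.eps, hA.m⟩, if_neg fun h2 => hne (mul_left_cancel h2).symm, hp]
    norm_num
  rw [← Finset.sum_subset (Finset.subset_univ (mem0 h C θ₁ θ₂)) (fun χ _ hχ => ?_), sum_mem0 h C B,
    hflat B.row₁, hflat B.row₂] at h0
  · have h1 : ∑ γ, F (C.exc γ) = 9 := by
      have hd : ∀ γ, (C.exc γ : G → ℂ) 1 - (p : ℂ) * mu x (C.exc γ : G → ℂ) (0 : ZMod p) = 3 := by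
        intro γ
        have h2 := congrArg (Int.cast (R := ℂ)) (C.deg h γ)
        rw [Int.cast_natCast, charDegree_cast] at h2
        rw [h2, mu_exc h, ind_zero h, hε]
        push_cast; ring
      simp only [hF, hd, ← Finset.sum_mul, ← Nat.cast_sum, htot, if_neg hne]
      norm_num
    have h2 : F (oneIrr G) = 0 := by simp [hF, (cm_trivial h A hA ha).1]
    rw [h1, h2] at h0
    have h3 : (((δ₁ * (cm (pr h A a) θ₁ : ℤ) + δ₂ * (cm (pr h A a) θ₂ : ℤ)) : ℤ) : ℂ) = ((0 : ℤ) : ℂ) := by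
      push_cast
      linear_combination h0 / 18
    exact Int.cast_injective h3
  · by_cases hz : cm (pr h A a) χ = 0
    · simp [hF, hz]
    · rw [hflat (flat_of_notMem h A C B hχ hz).2]; simp

/-- The members of the principal block in the products, for any weight. -/
theorem sum_diag_le (w : IrrCharacter G → ℕ) (hw : ∀ γ, w (C.exc γ) = w (C.exc 1)) :
    w (oneIrr G) + cm (pr h A 1) θ₁ * w θ₁ + cm (pr h A 1) θ₂ * w θ₂ + 2 * w (C.exc 1) ≤
      ∑ χ, cm (pr h A 1) χ * w χ := by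
  classical
  obtain ⟨-, -, htot⟩ := exc_total h hgen A hA C
  haveI : Nontrivial (T h.hS) := Finite.one_lt_card_iff_nontrivial.mp (by rw [card_classes h]; norm_num)
  obtain ⟨a, ha⟩ := exists_ne (1 : T h.hS)
  refine le_trans (le_of_eq ?_) (Finset.sum_le_sum_of_subset (Finset.subset_univ (mem0 h C θ₁ θ₂)))
  rw [sum_mem0 h C B, (cm_trivial h A hA ha).2, one_mul]
  simp only [hw, ← Finset.sum_mul, htot, if_pos]
  ring

theorem sum_off_le {a : T h.hS} (ha : a ≠ 1) (w : IrrCharacter G → ℕ) (hw : ∀ γ, w (C.exc γ) = w (C.exc 1)) :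
    cm (pr h A a) θ₁ * w θ₁ + cm (pr h A a) θ₂ * w θ₂ + 3 * w (C.exc 1) ≤ ∑ χ, cm (pr h A a) χ * w χ := by
  classical
  obtain ⟨-, -, htot⟩ := exc_total h hgen A hA C
  refine le_trans (le_of_eq ?_) (Finset.sum_le_sum_of_subset (Finset.subset_univ (mem0 h C θ₁ θ₂)))
  rw [sum_mem0 h C B, (cm_trivial h A hA ha).1, zero_mul]
  simp only [hw, ← Finset.sum_mul, htot, if_neg ha]
  ring

/-- The degrees. -/
theorem degrees : ∃ M : ℕ, 1 ≤ M ∧ charDegree (C.exc 1 : G → ℂ) = 19 * M + 3 ∧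
    (charDegree (θ₁ : G → ℂ) : ℤ) = 19 * N h θ₁ 0 + 18 * δ₁ ∧
    (charDegree (θ₂ : G → ℂ) : ℤ) = 19 * N h θ₂ 0 + 18 * δ₂ ∧
    1 - δ₁ * (charDegree (θ₁ : G → ℂ) : ℤ) - δ₂ * (charDegree (θ₂ : G → ℂ) : ℤ) -
      (charDegree (C.exc 1 : G → ℂ) : ℤ) = 0 := by
  obtain ⟨hε, hM, -⟩ := exc_total h hgen A hA C
  have hp := p19 h
  refine ⟨C.M, hM, ?_, ?_, ?_, ?_⟩
  · have h1 := C.deg h 1
    rw [hε] at h1
    subst hp
    omega
  · have h1 := flat_deg h B.row₁
    rw [show (p : ℤ) = 19 by exact_mod_cast hp] at h1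
    linarith
  · have h1 := flat_deg h B.row₂
    rw [show (p : ℤ) = 19 by exact_mod_cast hp] at h1
    linarith
  · have h1 := relation h A C hA hgen B (regular_one h)
    rw [← charDegree_cast, ← charDegree_cast, ← charDegree_cast] at h1
    exact_mod_cast h1

theorem deg_bound (a : T h.hS) : ∑ χ : IrrCharacter G, cm (pr h A a) χ * charDegree (χ : G → ℂ) = 256 := by
  refine sum_deg_eq (pr_char h A a) ?_
  rw [pr_regular h A a (regular_one h), deg_A h A hA, map_ofNat]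
  norm_num

theorem deg_exc (γ : T h.hS) : charDegree (C.exc γ : G → ℂ) = charDegree (C.exc 1 : G → ℂ) :=
  Nat.cast_injective (R := ℂ) (by rw [charDegree_cast, charDegree_cast, C.reg γ 1 1 (regular_one h)])

variable (c : T h.hS) (hfaith : ∀ g : G, (A.exc c : G → ℂ) g = (A.exc c : G → ℂ) 1 → g = 1)
include hfaith

/-- The data at an element of prime order. -/
theorem elem_data {q : ℕ} (hq : q.Prime) (hq2 : q ≠ 2) (hq19 : q ≠ 19) {y : G} (hy : orderOf y = q) :
    ¬ q ∣ Nat.card (K x L) ∧ ∃ (w : ℤ) (m : ℕ), (16 : ℤ) + ((q : ℤ) - 1) * w = q * m ∧ w < 16 ∧ m < 16 ∧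
      q ≤ 17 ∧ ∀ i, 0 < i → i < q → (A.exc 1 : G → ℂ) (y ^ i) = w := by
  have hp := p19 h
  have hqp : q ≠ p := by rw [hp]; exact hq19
  haveI : NeZero q := ⟨hq.ne_zero⟩
  have hyr : ¬ p ∣ orderOf y := by
    rw [hy]; exact fun hd => hqp ((Nat.prime_dvd_prime_iff_eq Fact.out hq).mp hd).symm
  have hd16 : charDegree (A.exc c : G → ℂ) = 16 := by
    apply Nat.cast_injective (R := ℂ)
    rw [charDegree_cast, A.reg c 1 1 (regular_one h), deg_A h A hA]
    norm_num
  have hqK : ¬ q ∣ Nat.card (K x L) := by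
    intro hd
    haveI : Fact q.Prime := ⟨hq⟩
    obtain ⟨z, hz⟩ := exists_prime_orderOf_dvd_card' q hd
    have h1 := orderOf_dvd_of_pow_eq_one (DegPMinusTwo.center_pow_eq_one (χ := A.exc c) hfaith h.hperf (h.hK z))
    rw [hd16, Subgroup.orderOf_coe, Subgroup.orderOf_coe, hz] at h1
    exact hq2 ((Nat.prime_dvd_prime_iff_eq hq Nat.prime_two).mp (hq.dvd_of_dvd_pow (n := 4) (by norm_num; exact h1)))
  have hpow := fun i hi hi' => exc_pow h A hq hqp hqK hy (i := i) hi hi'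
  obtain ⟨m, hm⟩ := exists_powSum (Char.IsIrrCharacter.isCharacter (A.exc 1).2)
    (show y ^ q = 1 by rw [← hy, pow_orderOf_eq_one])
  rw [sum_range_const hq.one_le hpow, pow_zero, deg_A h A hA, Nat.cast_mul] at hm
  obtain ⟨w, hw⟩ := Char.exists_int_of_isIntegral_mul (z := (A.exc 1 : G → ℂ) y) (n := q - 1)
    (k := (q : ℤ) * m - 16) (by have := hq.two_le; omega)
    (by rw [Nat.cast_sub hq.one_le]; push_cast; linear_combination hm)
    (Char.IsCharacter.isIntegral (Char.IsIrrCharacter.isCharacter (A.exc 1).2) y)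
  rw [hw] at hm
  have heq : (16 : ℤ) + ((q : ℤ) - 1) * w = q * m := by exact_mod_cast hm
  have hy1 : y ≠ 1 := fun h1 => hq.ne_one (by rw [← hy, h1, orderOf_one])
  have hw16 : w < 16 := by
    have h1 := Char.IsCharacter.norm_le (Char.IsIrrCharacter.isCharacter (A.exc 1).2) y
    rw [deg_A h A hA, hw, Complex.norm_intCast, Complex.re_ofNat] at h1
    have h2 : (w : ℝ) ≤ 16 := le_trans (le_abs_self _) h1
    have h3 : w ≤ 16 := by exact_mod_cast h2
    refine lt_of_le_of_ne h3 fun e' => hy1 (hfaith y ?_)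
    rw [A.reg c 1 y hyr, A.reg c 1 1 (regular_one h), hw, deg_A h A hA, e']
    norm_num
  have hq' : (2 : ℤ) ≤ q := by exact_mod_cast hq.two_le
  have hm16 : (m : ℤ) < 16 := by nlinarith
  have hmw : w < m := by nlinarith
  have hq17 : q ≤ 17 := by
    have h4 : ((q : ℤ) - 1) * 1 ≤ ((q : ℤ) - 1) * (m - w) :=
      mul_le_mul_of_nonneg_left (by omega) (by omega)
    have h5 : ((q : ℤ) - 1) * (m - w) = 16 - m := by linear_combination -heq
    omega
  exact ⟨hqK, w, m, heq, hw16, by omega, hq17, fun i hi hi' => (hpow i hi hi').trans hw⟩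

/-- The primes dividing the order. -/
theorem prime_le {q : ℕ} (hq : q.Prime) (hq19 : q ≠ 19) (hd : q ∣ Nat.card G) : q ≤ 17 := by
  haveI : Fact q.Prime := ⟨hq⟩
  obtain ⟨y, hy⟩ := exists_prime_orderOf_dvd_card' q hd
  rcases eq_or_ne q 2 with rfl | hq2
  · norm_num
  · obtain ⟨-, -, -, -, -, -, h17, -⟩ := elem_data h A C hA hgen B c hfaith hq hq2 hq19 hy
    exact h17

omit hfaith in
theorem prime_dvd_card {q : ℕ} (χ : IrrCharacter G) (hd : q ∣ charDegree (χ : G → ℂ)) : q ∣ Nat.card G := by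
  obtain ⟨n, -, hn, hn'⟩ := Char.IsIrrCharacter.degree_dvd_card χ.2
  rw [← charDegree_cast, Nat.cast_inj] at hn
  exact dvd_trans (hn ▸ hd) hn'

/-- The fixed spaces of an element of prime order. -/
theorem fixed_data {q : ℕ} (hq : q.Prime) (hq19 : q ≠ 19) {y : G} (hy : orderOf y = q) :
    ∃ mm : IrrCharacter G → ℕ,
      (∀ χ : IrrCharacter G, ∑ i ∈ Finset.range q, (χ : G → ℂ) (y ^ i) = ((q * mm χ : ℕ) : ℂ)) ∧
      mm (oneIrr G) = 1 ∧ (∀ γ, mm (C.exc γ) = mm (C.exc 1)) ∧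
      1 - δ₁ * (mm θ₁ : ℤ) - δ₂ * (mm θ₂ : ℤ) - (mm (C.exc 1) : ℤ) = 0 ∧
      ∀ a : T h.hS, ((∑ χ, cm (pr h A a) χ * mm χ * q : ℕ) : ℂ) =
        ∑ i ∈ Finset.range q, (A.exc 1 : G → ℂ) (y ^ i) * conj ((A.exc 1 : G → ℂ) (y ^ i)) := by
  have hp := p19 h
  haveI : NeZero q := ⟨hq.ne_zero⟩
  have hyq : y ^ q = 1 := by rw [← hy, pow_orderOf_eq_one]
  have hreg : ∀ i : ℕ, ¬ p ∣ orderOf (y ^ i) := fun i hd => by
    have h1 := hd.trans (orderOf_pow_dvd i)
    rw [hy, hp] at h1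
    exact hq19 ((Nat.prime_dvd_prime_iff_eq (by norm_num) hq).mp h1).symm
  choose mm hmm using fun χ : IrrCharacter G => exists_powSum (Char.IsIrrCharacter.isCharacter χ.2) hyq
  have hq0 : (q : ℂ) ≠ 0 := Nat.cast_ne_zero.mpr hq.ne_zero
  refine ⟨mm, hmm, ?_, fun γ => ?_, ?_, fun a => ?_⟩
  · have h1 := hmm (oneIrr G)
    simp only [Pi.one_apply, Finset.sum_const, Finset.card_range, nsmul_eq_mul, mul_one, Nat.cast_inj] at h1
    exact (mul_eq_left₀ hq.ne_zero).mp h1.symm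
  · have h1 := hmm (C.exc γ)
    rw [Finset.sum_congr rfl fun i _ => C.reg γ 1 _ (hreg i), hmm (C.exc 1), Nat.cast_inj] at h1
    exact (Nat.eq_of_mul_eq_mul_left hq.pos h1).symm
  · have h1 : ∑ i ∈ Finset.range q, ((1 : ℂ) - (δ₁ : ℂ) * (θ₁ : G → ℂ) (y ^ i) -
        (δ₂ : ℂ) * (θ₂ : G → ℂ) (y ^ i) - (C.exc 1 : G → ℂ) (y ^ i)) = 0 :=
      Finset.sum_eq_zero fun i _ => relation h A C hA hgen B (hreg i)
    rw [Finset.sum_sub_distrib, Finset.sum_sub_distrib, Finset.sum_sub_distrib, ← Finset.mul_sum, ← Finset.mul_sum,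
      hmm, hmm, hmm, Finset.sum_const, Finset.card_range, nsmul_eq_mul, mul_one] at h1
    apply Int.cast_injective (α := ℂ)
    refine mul_left_cancel₀ hq0 ?_
    push_cast at h1 ⊢
    linear_combination h1
  · rw [Finset.sum_congr rfl fun i _ => (pr_regular h A a (hreg i)).symm,
      Finset.sum_congr rfl fun i _ => apply_eq_sum_cm (pr_char h A a) (y ^ i), Finset.sum_comm, Nat.cast_sum]
    refine Finset.sum_congr rfl fun χ _ => ?_
    rw [← Finset.mul_sum, hmm]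
    push_cast; ring

omit hfaith in
/-- The inequality, at an element where the exceptional characters of the principal block vanish. -/
theorem ineq {g : G} (hg : ¬ p ∣ orderOf g) (h0 : (C.exc 1 : G → ℂ) g = 0) :
    38 * ‖(A.exc 1 : G → ℂ) g‖ / 16 ≤ 4 * (1 + ((θ₁ : G → ℂ) g).re / (charDegree (θ₁ : G → ℂ) : ℝ) +
      ((θ₂ : G → ℂ) g).re / (charDegree (θ₂ : G → ℂ) : ℝ)) := by
  classical
  have hp := p19 h
  set y := pw x (-1 : ZMod p) with hy
  have hn1 : (-1 : ZMod p) ≠ 0 := neg_ne_zero.mpr one_ne_zero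
  have hneg : (-1 : ZMod p) ∉ cs (U0 h.hS) 1 := fun hm => by
    have h1 := (unit_mem_cs (U0 h.hS) (u := (1 : (ZMod p)ˣ)) (c := 1)).mpr rfl
    have h2 : -((1 : (ZMod p)ˣ) : ZMod p) ∈ cs (U0 h.hS) 1 := by simpa using hm
    rw [← neg_mem_cs (U0 h.hS), mul_one, neg_neg] at h2
    exact negOne_ne_one h (by decide) (p_ne_two h) (eq_of_mem_cs _ h2 h1)
  have hone : (1 : ZMod p) ∈ cs (U0 h.hS) 1 := by
    simpa using (unit_mem_cs (U0 h.hS) (u := (1 : (ZMod p)ˣ)) (c := 1)).mpr rfl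
  have hflat : ∀ {χ : IrrCharacter G} {δ : ℤ}, (∀ u : (ZMod p)ˣ, (N h χ (u : ZMod p) : ℤ) = N h χ 0 + δ) →
      (χ : G → ℂ) x = -(δ : ℂ) ∧ (χ : G → ℂ) y = -(δ : ℂ) := fun {χ δ} hr => by
    refine ⟨?_, flat_val h hr hn1⟩
    have := flat_val h hr (one_ne_zero : (1 : ZMod p) ≠ 0)
    rwa [h.hS.pw_one] at this
  have hraw := raw_ineq h μ y g
  -- the twisted side
  have hL : ∑ χ ∈ Finset.univ.filter (fun χ : IrrCharacter G => cch h χ = μ),
      ((χ : G → ℂ) x - (χ : G → ℂ) y) ^ 2 * conj ((χ : G → ℂ) g) / (χ : G → ℂ) 1 =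
      -38 * conj ((A.exc 1 : G → ℂ) g) / 16 := by
    rw [← Finset.sum_subset (s₁ := Finset.univ.image A.exc) (fun χ hχ => ?_) (fun χ hχ hn => ?_),
      Finset.sum_image fun a _ b _ e' => A.inj e']
    · have hv : ∀ γ : T h.hS, ((A.exc γ : G → ℂ) x - (A.exc γ : G → ℂ) y) ^ 2 * conj ((A.exc γ : G → ℂ) g) /
          (A.exc γ : G → ℂ) 1 =
          (((∑ j ∈ cs (U0 h.hS) γ, ζp (1 * j)) * (∑ j ∈ cs (U0 h.hS) γ, ζp (1 * j))) +
            ((∑ j ∈ cs (U0 h.hS) γ, ζp (-1 * j)) * (∑ j ∈ cs (U0 h.hS) γ, ζp (-1 * j))) -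
            2 * ((∑ j ∈ cs (U0 h.hS) γ, ζp (1 * j)) * (∑ j ∈ cs (U0 h.hS) γ, ζp (-1 * j)))) *
            (conj ((A.exc 1 : G → ℂ) g) / 16) := by
        intro γ
        rw [show (A.exc γ : G → ℂ) x = (A.exc γ : G → ℂ) (pw x (1 : ZMod p)) by rw [h.hS.pw_one],
          exc_val h A γ one_ne_zero, hy, exc_val h A γ hn1, hA.eps, A.reg γ 1 g hg,
          A.reg γ 1 1 (regular_one h), deg_A h A hA]
        push_cast; ring
      rw [Finset.sum_congr rfl fun γ _ => hv γ, ← Finset.sum_mul, Finset.sum_sub_distrib, Finset.sum_add_distrib,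
        ← Finset.mul_sum, period_prod h one_ne_zero, period_prod h hn1, period_prod h hn1,
        show (-(1 : ZMod p)) / 1 = -1 from div_one _, show -(-1 : ZMod p) / -1 = -1 by rw [neg_neg, one_div, inv_neg_one],
        show -(1 : ZMod p) / -1 = 1 from div_self hn1, if_neg hneg, if_pos hone, show (p : ℂ) = 19 by rw [hp]; norm_num]
      push_cast; ring
    · obtain ⟨γ, -, rfl⟩ := Finset.mem_image.mp hχ
      exact Finset.mem_filter.mpr ⟨Finset.mem_univ _, cch_unique h (A.cent γ)⟩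
    · obtain ⟨δ, -, hr⟩ := A.cst χ ((Finset.mem_filter.mp hχ).2 ▸ cch_spec h χ)
        (fun ⟨γ, hγ⟩ => hn (Finset.mem_image.mpr ⟨γ, Finset.mem_univ _, hγ⟩))
      rw [(hflat hr).1, (hflat hr).2, sub_self]
      simp
  -- the principal side
  have hR : ∑ χ ∈ Finset.univ.filter (fun χ : IrrCharacter G => cch h χ = 1),
      ((χ : G → ℂ) x + (χ : G → ℂ) y) ^ 2 * conj ((χ : G → ℂ) g) / (χ : G → ℂ) 1 =
      4 * (1 + conj ((θ₁ : G → ℂ) g) / (θ₁ : G → ℂ) 1 + conj ((θ₂ : G → ℂ) g) / (θ₂ : G → ℂ) 1) := by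
    rw [← Finset.sum_subset (s₁ := mem0 h C θ₁ θ₂) (fun χ hχ => ?_) (fun χ hχ hn => ?_), sum_mem0 h C B]
    · rw [(hflat (row_one h)).1, (hflat (row_one h)).2, (hflat B.row₁).1, (hflat B.row₁).2, (hflat B.row₂).1,
        (hflat B.row₂).2]
      simp only [C.reg _ 1 g hg, h0, map_zero, mul_zero, zero_div, Finset.sum_const_zero, add_zero, Pi.one_apply,
        map_one]
      rcases B.sgn₁ with e1 | e1 <;> rcases B.sgn₂ with e2 | e2 <;> rw [e1, e2] <;> push_cast <;> ring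
    · refine Finset.mem_filter.mpr ⟨Finset.mem_univ _, cch_unique h ?_⟩
      simp only [mem0, Finset.mem_insert, Finset.mem_image, Finset.mem_univ, true_and] at hχ
      rcases hχ with rfl | rfl | rfl | ⟨γ, rfl⟩
      exacts [cent_one, B.cent₁, B.cent₂, C.cent γ]
    · have hc : Cent (1 : K x L →* ℂ) (χ : G → ℂ) := (Finset.mem_filter.mp hχ).2 ▸ cch_spec h χ
      simp only [mem0, Finset.mem_insert, Finset.mem_image, Finset.mem_univ, true_and, not_or] at hn
      have hr := B.rest χ hc hn.2.2.2 hn.1 hn.2.1 hn.2.2.1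
      rw [(hflat hr).1, (hflat hr).2]
      simp
  rw [hL, hR] at hraw
  rw [norm_div, norm_mul, norm_neg, Complex.norm_conj, Complex.norm_ofNat, Complex.norm_ofNat] at hraw
  refine hraw.trans (le_of_eq ?_)
  rw [← charDegree_cast θ₁, ← charDegree_cast θ₂, Complex.mul_re, Complex.re_ofNat, Complex.im_ofNat, zero_mul,
    sub_zero, Complex.add_re, Complex.add_re, Complex.one_re, Complex.div_natCast_re, Complex.div_natCast_re,
    Complex.conj_re, Complex.conj_re]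

/-- Opposite signs. -/
theorem case_mixed (h1 : δ₁ = -1) (h2 : δ₂ = 1) : False := by
  subst h1 h2
  haveI : Nontrivial (T h.hS) := Finite.one_lt_card_iff_nontrivial.mp (by rw [card_classes h]; norm_num)
  obtain ⟨a, ha⟩ := exists_ne (1 : T h.hS)
  obtain ⟨M, hM, hd, hda, hdb, hrel⟩ := degrees h A C hA hgen B
  have hex := excess h A C hA hgen B ha
  have hb1 := cm_flat h A hA B.cent₂ B.row₂ ha
  have ha1 := cm_flat h A hA B.cent₁ B.row₁ ha
  have hoff := (sum_off_le h A C hA hgen B ha (fun χ => charDegree (χ : G → ℂ)) (deg_exc h A C hA hgen B)).trans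
    (deg_bound h A C hA hgen B a).le
  have e1 := Nat.le_mul_of_pos_left (charDegree (θ₁ : G → ℂ)) (show 0 < cm (pr h A a) θ₁ by omega)
  have e2 := Nat.le_mul_of_pos_left (charDegree (θ₂ : G → ℂ)) (show 0 < cm (pr h A a) θ₂ by omega)
  have hpa := charDegree_pos θ₁
  have hne1 : charDegree (θ₁ : G → ℂ) ≠ 1 := fun e' => B.one₁ (HalfDegree.linear_trivial h.hperf θ₁ e')
  have hM2 : M ≤ 2 := by omega
  interval_cases M
  swap
  · -- degree `41`
    have := prime_le h A C hA hgen B c hfaith (q := 41) (by norm_num) (by norm_num)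
      (prime_dvd_card h A C hA hgen B (C.exc 1) (by rw [hd]))
    omega
  -- degree `22`
  have hdvd := prime_dvd_card h A C hA hgen B (C.exc 1) (show 11 ∣ _ by rw [hd]; norm_num)
  haveI : Fact (Nat.Prime 11) := ⟨by norm_num⟩
  obtain ⟨y, hy⟩ := exists_prime_orderOf_dvd_card' 11 hdvd
  obtain ⟨hqK, w, m, hwm, hw16, hm16, -, hval⟩ := elem_data h A C hA hgen B c hfaith
    (q := 11) (by norm_num) (by norm_num) (by norm_num) hy
  have hw : w = 5 := by push_cast at hwm; omega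
  obtain ⟨mm, hmm, hm1, hmC, hmrel, hmtot⟩ := fixed_data h A C hA hgen B c hfaith
    (q := 11) (by norm_num) (by norm_num) hy
  have hp := p19 h
  have hreg : ∀ i : ℕ, ¬ p ∣ orderOf (y ^ i) := fun i hd => by
    have h1 := hd.trans (orderOf_pow_dvd i)
    rw [hy, hp] at h1
    norm_num at h1
  have h46 : ∑ χ, cm (pr h A 1) χ * mm χ = 46 := by
    have h1 := hmtot 1
    rw [sum_range_const (w := (25 : ℂ)) (by norm_num) (fun i hi hi' => by rw [hval i hi hi', hw, map_intCast]; norm_num),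
      pow_zero, deg_A h A hA, map_ofNat, ← Finset.sum_mul] at h1
    have h2 : ((∑ χ, cm (pr h A 1) χ * mm χ) * 11 : ℕ) = 506 := by
      apply Nat.cast_injective (R := ℂ)
      rw [h1]; norm_num
    omega
  have hle := (sum_diag_le h A C hA hgen B mm hmC).trans h46.le
  rw [hm1] at hle
  have e3 := Nat.mul_le_mul_right (mm θ₁) (show 2 ≤ cm (pr h A 1) θ₁ by omega)
  -- the value of the exceptional characters
  obtain ⟨D, hD⟩ := Char.exists_int_of_isIntegral_mul (z := (C.exc 1 : G → ℂ) y) (n := 10)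
    (k := 11 * (mm (C.exc 1) : ℤ) - 22) (by norm_num) (by
      have h1 := hmm (C.exc 1)
      rw [sum_range_const (by norm_num) (fun i hi hi' => exc_pow h C (by norm_num : Nat.Prime 11)
        (by rw [hp]; norm_num) hqK hy hi hi'), pow_zero, ← charDegree_cast, hd] at h1
      push_cast at h1 ⊢
      linear_combination h1)
    (Char.IsCharacter.isIntegral (Char.IsIrrCharacter.isCharacter (C.exc 1).2) y)
  have hDm : (10 : ℤ) * D = 11 * (mm (C.exc 1) : ℤ) - 22 := by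
    have h1 := hmm (C.exc 1)
    rw [sum_range_const (by norm_num) (fun i hi hi' => exc_pow h C (by norm_num : Nat.Prime 11)
      (by rw [hp]; norm_num) hqK hy hi hi'), pow_zero, ← charDegree_cast, hd, hD] at h1
    push_cast at h1
    apply Int.cast_injective (α := ℂ)
    push_cast
    linear_combination h1
  have hmd : mm (C.exc 1) = 2 := by omega
  have hD0 : D = 0 := by omega
  have hineq : ∀ i ∈ Finset.Ico 1 11, (38 * 5 / 16 : ℝ) ≤ 4 * (1 +
      ((θ₁ : G → ℂ) (y ^ i)).re / (charDegree (θ₁ : G → ℂ) : ℝ) +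
      ((θ₂ : G → ℂ) (y ^ i)).re / (charDegree (θ₂ : G → ℂ) : ℝ)) := by
    intro i hi
    obtain ⟨hi1, hi2⟩ := Finset.mem_Ico.mp hi
    have h0 : (C.exc 1 : G → ℂ) (y ^ i) = 0 := by
      rw [exc_pow h C (by norm_num : Nat.Prime 11) (by rw [hp]; norm_num) hqK hy (by omega) hi2, hD, hD0,
        Int.cast_zero]
    have := ineq h A C hA hgen B (hreg i) h0
    rw [hval i (by omega) hi2, hw] at this
    simpa using this
  have hsum := Finset.sum_le_sum hineq
  have hre : ∀ θ : IrrCharacter G,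
      ∑ i ∈ Finset.Ico 1 11, ((θ : G → ℂ) (y ^ i)).re = 11 * (mm θ : ℝ) - (charDegree (θ : G → ℂ) : ℝ) := by
    intro θ
    have h1 := congrArg Complex.re (hmm θ)
    rw [Complex.re_sum, Finset.range_eq_Ico, Finset.sum_eq_sum_Ico_succ_bot (by norm_num : 0 < 11), pow_zero,
      ← charDegree_cast, Complex.natCast_re, Complex.natCast_re] at h1
    push_cast at h1
    linarith
  rw [Finset.sum_const, ← Finset.mul_sum, Finset.sum_add_distrib, Finset.sum_add_distrib, Finset.sum_const,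
    ← Finset.sum_div, ← Finset.sum_div, hre, hre] at hsum
  simp only [Nat.card_Ico, nsmul_eq_mul] at hsum
  have hpa' : (39 : ℝ) ≤ (charDegree (θ₁ : G → ℂ) : ℝ) := by
    exact_mod_cast (show 39 ≤ charDegree (θ₁ : G → ℂ) by omega)
  have hpb' : (18 : ℝ) ≤ (charDegree (θ₂ : G → ℂ) : ℝ) := by
    exact_mod_cast (show 18 ≤ charDegree (θ₂ : G → ℂ) by omega)
  have hma : ((mm θ₁ : ℕ) : ℝ) ≤ 20 := by exact_mod_cast (show mm θ₁ ≤ 20 by omega)
  have hmb : ((mm θ₂ : ℕ) : ℝ) ≤ 19 := by exact_mod_cast (show mm θ₂ ≤ 19 by omega)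
  rw [sub_div, sub_div, div_self (by linarith : (charDegree (θ₁ : G → ℂ) : ℝ) ≠ 0),
    div_self (by linarith : (charDegree (θ₂ : G → ℂ) : ℝ) ≠ 0)] at hsum
  have q1 : 11 * (mm θ₁ : ℝ) / (charDegree (θ₁ : G → ℂ) : ℝ) ≤ 11 * 20 / 39 :=
    div_le_div₀ (by norm_num) (by linarith) (by norm_num) hpa'
  have q2 : 11 * (mm θ₂ : ℝ) / (charDegree (θ₂ : G → ℂ) : ℝ) ≤ 11 * 19 / 18 :=
    div_le_div₀ (by norm_num) (by linarith) (by norm_num) hpb'
  norm_num at hsum q1 q2
  linarith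

/-- A nonexceptional character determined by its degree is rational on elements of prime order. -/
theorem flat_pow (hdiff : charDegree (θ₁ : G → ℂ) ≠ charDegree (θ₂ : G → ℂ)) {q : ℕ} (hq : q.Prime)
    (hqK : ¬ q ∣ Nat.card (K x L)) {y : G} (hy : orderOf y = q) {i : ℕ} (hi0 : 0 < i) (hi : i < q) :
    (θ₁ : G → ℂ) (y ^ i) = (θ₁ : G → ℂ) y := by
  obtain ⟨k, hk, hky, hkz⟩ := exists_exp h hq hqK (r := i)
    (fun hd => absurd (Nat.le_of_dvd hi0 hd) (by omega)) hy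
  set θ := GaloisPow.powIrr hk θ₁ with hθ
  have hk0 : (k : ZMod p) ≠ 0 := by
    rw [Ne, ZMod.natCast_eq_zero_iff]
    exact fun hd => (Fact.out : p.Prime).ne_one
      (Nat.eq_one_of_dvd_coprimes hk hd (h.hS.hx ▸ orderOf_dvd_natCard x))
  have hc : Cent (1 : K x L →* ℂ) (θ : G → ℂ) := fun g z => by
    have hcomm : Commute g (((z : L) : G)) := Subgroup.mem_center_iff.mp (h.hK z) g
    have hz : ((z : L) : G) ^ k = ((z : L) : G) := by
      simpa using congrArg (fun w : K x L => ((w : L) : G)) (hkz z)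
    show (θ₁ : G → ℂ) ((g * _) ^ k) = (θ₁ : G → ℂ) (g ^ k) * _
    rw [hcomm.mul_pow, hz, B.cent₁ (g ^ k) z]
  have hrow : ∀ u : (ZMod p)ˣ, (N h θ (u : ZMod p) : ℤ) = N h θ 0 + δ₁ := by
    intro u
    have h1 := B.row₁ ((Units.mk0 (k : ZMod p) hk0)⁻¹ * u)
    rw [← N_powIrr h hk θ₁, ← N_powIrr h hk θ₁ (0 : ZMod p), mul_zero, Units.val_mul,
      Units.val_inv_eq_inv_val, Units.val_mk0, mul_inv_cancel_left₀ hk0] at h1
    exact h1
  have hone : θ ≠ oneIrr G := fun e' => B.one₁ (GaloisPow.powIrr_injective hk (e'.trans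
    (Subtype.ext (funext fun g => rfl))))
  have hθ1 : θ = θ₁ := by
    by_contra hne
    by_cases h2 : θ = θ₂
    · refine hdiff (Nat.cast_injective (R := ℂ) ?_)
      rw [charDegree_cast, charDegree_cast, ← h2]
      show _ = (θ₁ : G → ℂ) (1 ^ k)
      rw [one_pow]
    · have h3 := B.rest θ hc (flat_notMem h C hrow) hone hne h2 1
      rw [hrow 1] at h3
      rcases B.sgn₁ with e' | e' <;> rw [e'] at h3 <;> omega
  conv_rhs => rw [← hθ1]
  show _ = (θ₁ : G → ℂ) (y ^ k)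
  rw [hky]

/-- Degrees `39` and `20`. -/
theorem case_equal_aux (h1 : δ₁ = -1) (h2 : δ₂ = -1) (ha' : charDegree (θ₁ : G → ℂ) = 39)
    (hb' : charDegree (θ₂ : G → ℂ) = 20) (hd : charDegree (C.exc 1 : G → ℂ) = 60) : False := by
  haveI : Nontrivial (T h.hS) := Finite.one_lt_card_iff_nontrivial.mp (by rw [card_classes h]; norm_num)
  obtain ⟨a, ha⟩ := exists_ne (1 : T h.hS)
  haveI : Fact (Nat.Prime 13) := ⟨by norm_num⟩
  obtain ⟨y, hy⟩ := exists_prime_orderOf_dvd_card' 13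
    (prime_dvd_card h A C hA hgen B θ₁ (show 13 ∣ _ by rw [ha']; norm_num))
  obtain ⟨hqK, w, m, hwm, hw16, hm16, -, hval⟩ := elem_data h A C hA hgen B c hfaith
    (q := 13) (by norm_num) (by norm_num) (by norm_num) hy
  have hw : w = 3 := by push_cast at hwm; omega
  obtain ⟨mm, hmm, hm1, hmC, hmrel, hmtot⟩ := fixed_data h A C hA hgen B c hfaith
    (q := 13) (by norm_num) (by norm_num) hy
  have h28 : ∑ χ, cm (pr h A 1) χ * mm χ = 28 := by
    have e1 := hmtot 1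
    rw [sum_range_const (w := (9 : ℂ)) (by norm_num) (fun i hi hi' => by rw [hval i hi hi', hw, map_intCast]; norm_num),
      pow_zero, deg_A h A hA, map_ofNat, ← Finset.sum_mul] at e1
    have e2 : ((∑ χ, cm (pr h A 1) χ * mm χ) * 13 : ℕ) = 364 := by
      apply Nat.cast_injective (R := ℂ)
      rw [e1]; norm_num
    omega
  have hle := (sum_diag_le h A C hA hgen B mm hmC).trans h28.le
  rw [hm1] at hle
  have hc1 := cm_flat h A hA B.cent₁ B.row₁ ha
  have hc2 := cm_flat h A hA B.cent₂ B.row₂ ha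
  have e3 := Nat.le_mul_of_pos_left (mm θ₁) (show 0 < cm (pr h A 1) θ₁ by omega)
  have e4 := Nat.le_mul_of_pos_left (mm θ₂) (show 0 < cm (pr h A 1) θ₂ by omega)
  have hrat : ∀ θ : IrrCharacter G, (∀ i, 0 < i → i < 13 → (θ : G → ℂ) (y ^ i) = (θ : G → ℂ) y) →
      ∃ v : ℤ, (12 : ℤ) * v = 13 * (mm θ : ℤ) - charDegree (θ : G → ℂ) := by
    intro θ hθ
    have e1 := hmm θ
    rw [sum_range_const (by norm_num) hθ, pow_zero, ← charDegree_cast] at e1
    push_cast at e1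
    obtain ⟨v, hv⟩ := Char.exists_int_of_isIntegral_mul (z := (θ : G → ℂ) y) (n := 12)
      (k := 13 * (mm θ : ℤ) - charDegree (θ : G → ℂ)) (by norm_num)
      (by push_cast; linear_combination e1) (Char.IsCharacter.isIntegral (Char.IsIrrCharacter.isCharacter θ.2) y)
    refine ⟨v, Int.cast_injective (α := ℂ) ?_⟩
    push_cast
    rw [← hv]
    linear_combination e1
  obtain ⟨v1, hv1⟩ := hrat θ₁ fun i hi hi' => flat_pow h A C hA hgen B c hfaith (by omega) (by norm_num) hqK hy hi hi'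
  obtain ⟨v2, hv2⟩ := hrat θ₂ fun i hi hi' =>
    flat_pow h A C hA hgen (Blk.symm h B) c hfaith (by omega) (by norm_num) hqK hy hi hi'
  rw [ha'] at hv1
  rw [hb'] at hv2
  rw [h1, h2] at hmrel
  omega

/-- Equal signs. -/
theorem case_equal (h1 : δ₁ = -1) (h2 : δ₂ = -1) : False := by
  haveI : Nontrivial (T h.hS) := Finite.one_lt_card_iff_nontrivial.mp (by rw [card_classes h]; norm_num)
  obtain ⟨a, ha⟩ := exists_ne (1 : T h.hS)
  obtain ⟨M, hM, hd, hda, hdb, hrel⟩ := degrees h A C hA hgen B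
  rw [h1, h2] at hrel
  rw [h1] at hda
  rw [h2] at hdb
  have hc1 := cm_flat h A hA B.cent₁ B.row₁ ha
  have hc2 := cm_flat h A hA B.cent₂ B.row₂ ha
  have e3 := Nat.le_mul_of_pos_left (charDegree (θ₁ : G → ℂ)) (show 0 < cm (pr h A 1) θ₁ by omega)
  have e4 := Nat.le_mul_of_pos_left (charDegree (θ₂ : G → ℂ)) (show 0 < cm (pr h A 1) θ₂ by omega)
  have hle := (sum_diag_le h A C hA hgen B (fun χ => charDegree (χ : G → ℂ)) (deg_exc h A C hA hgen B)).trans
    (deg_bound h A C hA hgen B 1).le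
  have hone : charDegree ((oneIrr G : IrrCharacter G) : G → ℂ) = 1 := by
    apply Nat.cast_injective (R := ℂ)
    rw [charDegree_cast]; simp
  rw [hone] at hle
  have hn1 : charDegree (θ₁ : G → ℂ) ≠ 1 := fun e' => B.one₁ (HalfDegree.linear_trivial h.hperf θ₁ e')
  have hn2 : charDegree (θ₂ : G → ℂ) ≠ 1 := fun e' => B.one₂ (HalfDegree.linear_trivial h.hperf θ₂ e')
  rcases show charDegree (C.exc 1 : G → ℂ) = 41 ∨ charDegree (C.exc 1 : G → ℂ) = 79 ∨
    (charDegree (θ₁ : G → ℂ) = 39 ∧ charDegree (θ₂ : G → ℂ) = 20 ∧ charDegree (C.exc 1 : G → ℂ) = 60) ∨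
    (charDegree (θ₂ : G → ℂ) = 39 ∧ charDegree (θ₁ : G → ℂ) = 20 ∧ charDegree (C.exc 1 : G → ℂ) = 60)
    by omega with e' | e' | ⟨u1, u2, u3⟩ | ⟨u1, u2, u3⟩
  · have := prime_le h A C hA hgen B c hfaith (q := 41) (by norm_num) (by norm_num)
      (prime_dvd_card h A C hA hgen B (C.exc 1) (by rw [e']))
    omega
  · have := prime_le h A C hA hgen B c hfaith (q := 79) (by norm_num) (by norm_num)
      (prime_dvd_card h A C hA hgen B (C.exc 1) (by rw [e']))
    omega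
  · exact case_equal_aux h A C hA hgen B c hfaith h1 h2 u1 u2 u3
  · exact case_equal_aux h A C hA hgen (Blk.symm h B) c hfaith h2 h1 u1 u2 u3

omit hA hgen B hfaith in
/-- Degree `16` is impossible for six classes of generators and an index three. -/
theorem no_nineteen (hA : A.Minus h) (hgen : Subgroup.closure {g : G | orderOf g = p} = ⊤) (c : T h.hS)
    (hfaith : ∀ g : G, (A.exc c : G → ℂ) g = (A.exc c : G → ℂ) 1 → g = 1) : False := by
  obtain ⟨C⟩ := exists_fam h (1 : K x L →* ℂ)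
  obtain ⟨θ₁, θ₂, δ₁, δ₂, B⟩ := exists_blk h C
  rcases B.sgn₁ with e1 | e1 <;> rcases B.sgn₂ with e2 | e2
  · -- both positive
    haveI : Nontrivial (T h.hS) := Finite.one_lt_card_iff_nontrivial.mp (by rw [card_classes h]; norm_num)
    obtain ⟨a, ha⟩ := exists_ne (1 : T h.hS)
    obtain ⟨M, hM, hd, -, -, hrel⟩ := degrees h A C hA hgen B
    rw [e1, e2] at hrel
    have := charDegree_pos θ₁
    omega
  · exact case_mixed h A C hA hgen (Blk.symm h B) c hfaith e2 e1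
  · exact case_mixed h A C hA hgen B c hfaith e1 e2
  · exact case_equal h A C hA hgen B c hfaith e1 e2

end nineteen

end Cfsg.Agent.FeitBound
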