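/-
Degree `16`: a nonnormal Sylow subgroup for a prime at least `19` forces `PSL(2, 31)`
(namespace `Cfsg.Agent.FeitBound`).

Main result: `sixteen`.
-/
import Cfsg.Agent.Lib.FeitBound.Count
import Cfsg.Agent.Lib.FeitBound.Spec
import Cfsg.Agent.Lib.FeitBound.Nineteen

set_option autoImplicit false
set_option linter.unusedSectionVars false
set_option linter.style.haveILetI false

namespace Cfsg.Agent.FeitBound

open Module Cfsg Cfsg.Agent.Blocks Cfsg.Agent.CyclicDefect
open scoped Pointwise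

variable {G : Type*} [Group G] [Finite G]

theorem false_of_reduced {p : ℕ} [Fact p.Prime] {H : Subgroup G} {y : H} {L0 : Subgroup H} {e t : ℕ}
    (R : FeitSmall.Reduced H y L0 p e t) (he : e = 3) (ht : t = 6) : False := by
  subst he ht
  obtain ⟨μ, A, c, hε, hM, hfaith⟩ := R.fam
  haveI := Fintype.ofFinite H
  haveI := Fintype.ofFinite (IrrCharacter H)
  exact no_nineteen R.core A ⟨hε, hM⟩ R.gen c hfaith

variable {V : Type} [AddCommGroup V] [Module ℂ V] [FiniteDimensional ℂ V]

set_option maxHeartbeats 1000000 in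
/-- The theorem. -/
theorem sixteen {p : ℕ} [hp : Fact p.Prime] (hp19 : 19 ≤ p) (ρ : Representation ℂ G V) [ρ.IsIrreducible]
    (hinj : Function.Injective ρ) (hd : finrank ℂ V = 16) (P : Sylow p G) :
    (P : Subgroup G).Normal ∨
      (p = 31 ∧ Nonempty (G ⧸ Subgroup.center G ≃* Matrix.ProjectiveSpecialLinearGroup (Fin 2) (ZMod 31))) := by
  haveI := CharApp.nontrivial_of_irr ρ
  by_cases hP : PComm p ρ
  · left
    set S : Set G := {g | PEl p g}
    have hS := pgroup_closure (S := S) (fun a ha b hb => hinj (by rw [map_mul, map_mul, hP a b ha hb]))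
      (fun a ha => ha)
    have hle : (P : Subgroup G) ≤ Subgroup.closure S := fun a ha =>
      Subgroup.subset_closure (pEl_of_mem P.isPGroup' ha)
    rw [← P.3 hS.1 hle]
    exact ⟨fun g hg c => by
      induction hg using Subgroup.closure_induction with
      | mem a ha => exact Subgroup.subset_closure (PEl.conj (show PEl p a from ha) c)
      | one => simp
      | mul a b _ _ iha ihb =>
        rw [show c * (a * b) * c⁻¹ = (c * a * c⁻¹) * (c * b * c⁻¹) by group]; exact mul_mem iha ihb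
      | inv a _ iha => rw [← conj_inv]; exact inv_mem iha⟩
  right
  have hI := idx_of_irr (p := p) (by omega) ρ (by omega) hP
  obtain ⟨ℓ, ρ', hρ', hl0, -, hker⟩ := exists_twist (p := p) ρ (by omega)
  set N : Subgroup G := ρ'.ker
  have hNscal : ∀ g ∈ N, Scal ρ g := fun g hg => ⟨(ℓ g)⁻¹, by
    have h : ℓ g • ρ g = 1 := (hρ' g).symm.trans (MonoidHom.mem_ker.mp hg)
    rw [← h, inv_smul_smul₀ (hl0 g)]⟩
  let σ : Representation ℂ (G ⧸ N) V := QuotientGroup.lift N ρ' le_rfl
  have hσ : ∀ g : G, σ (QuotientGroup.mk' N g) = ρ' g := fun g => rfl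
  haveI : σ.IsIrreducible := CharApp.isIrreducible_of_forall_invariant σ fun W hW =>
    CharApp.eq_bot_or_top_of_invariant ρ W fun g v hv => by
      have h : ℓ g • ρ g v ∈ W := by
        have h1 := hW (QuotientGroup.mk' N g) v hv
        rw [hσ, hρ'] at h1
        exact h1
      simpa [inv_smul_smul₀ (hl0 g)] using W.smul_mem (ℓ g)⁻¹ h
  have hσinj : ∀ a, σ a = 1 → a = 1 := by
    intro a
    obtain ⟨g, rfl⟩ := QuotientGroup.mk'_surjective N a
    intro h
    exact (QuotientGroup.eq_one_iff g).mpr (MonoidHom.mem_ker.mpr ((hσ g).symm.trans h))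
  -- the centres
  have hcen : ∀ g : G, QuotientGroup.mk' N g ∈ Subgroup.center (G ⧸ N) ↔ g ∈ Subgroup.center G := by
    intro g
    refine ⟨fun h => mem_center_of_scal hinj ?_, fun h => Subgroup.mem_center_iff.mpr fun a => ?_⟩
    · obtain ⟨c, hc⟩ := scal_of_center (ρ := σ) h
      rw [hσ, hρ'] at hc
      exact ⟨(ℓ g)⁻¹ * c, by rw [mul_smul, ← hc, inv_smul_smul₀ (hl0 g)]⟩
    · obtain ⟨b, rfl⟩ := QuotientGroup.mk'_surjective N a
      rw [← map_mul, ← map_mul, Subgroup.mem_center_iff.mp h b]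
  let π : G →* (G ⧸ N) ⧸ Subgroup.center (G ⧸ N) := (QuotientGroup.mk' _).comp (QuotientGroup.mk' N)
  have hπ : π.ker = Subgroup.center G := by
    ext g
    rw [MonoidHom.mem_ker]
    exact (QuotientGroup.eq_one_iff _).trans (hcen g)
  have hπs : Function.Surjective π := (QuotientGroup.mk'_surjective _).comp (QuotientGroup.mk'_surjective N)
  let φ : G ⧸ Subgroup.center G ≃* (G ⧸ N) ⧸ Subgroup.center (G ⧸ N) :=
    (QuotientGroup.quotientMulEquivOfEq hπ).symm.trans (QuotientGroup.quotientKerEquivOfSurjective π hπs)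
  -- a nonscalar `p`-element
  obtain ⟨a0, b0, ha0, hb0, hab0⟩ : ∃ a b, PEl p a ∧ PEl p b ∧ ρ a * ρ b ≠ ρ b * ρ a := by
    simpa [PComm] using hP
  have ha0s : ¬ Scal ρ a0 := fun h => hab0 (h.commute b0)
  obtain ⟨Q, hQ⟩ := exists_sylow_mem ha0
  -- the `p`-th power of a nonscalar element of `Q` is scalar
  have hpow : ∀ z ∈ Q, Scal ρ (z ^ p) := by
    intro z hz
    by_contra hzp
    obtain ⟨k, hk⟩ := hI Q (z ^ p) (pow_mem hz p) z hz hzp
    have hstep : ∀ i : ℕ, Scal ρ (z * (z ^ (p * k) ^ i)⁻¹) := by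
      intro i
      induction i with
      | zero => rw [pow_zero, pow_one, mul_inv_cancel]; exact Scal.one
      | succ i ih =>
        have h1 := ih.mul (hk.pow ((p * k) ^ i))
        have hc : Commute z ((z ^ p) ^ k)⁻¹ := ((Commute.refl z).pow_right p).pow_right k |>.inv_right
        rwa [hc.mul_pow, inv_pow, ← pow_mul, ← pow_mul, mul_assoc, inv_mul_cancel_left, ← mul_assoc p,
          ← pow_succ'] at h1
    obtain ⟨j, hj⟩ := Q.isPGroup' ⟨z, hz⟩
    have hj' : z ^ p ^ j = 1 := congrArg Subtype.val hj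
    have h2 := hstep j
    rw [mul_pow, pow_mul, hj', one_pow, inv_one, mul_one] at h2
    exact hzp (h2.pow p)
  set X := QuotientGroup.mk' N a0
  have hX : orderOf X = p := by
    refine orderOf_eq_prime ?_ fun h => ha0s (hNscal a0 ((QuotientGroup.eq_one_iff a0).mp h))
    rw [← map_pow]
    exact (QuotientGroup.eq_one_iff _).mpr (MonoidHom.mem_ker.mpr (hker _ (ha0.pow p) (hpow a0 hQ)))
  let PH : Sylow p (G ⧸ N) := Q.mapSurjective (QuotientGroup.mk'_surjective N)
  have hPH : (PH : Subgroup (G ⧸ N)) = Subgroup.zpowers X := by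
    rw [Sylow.coe_mapSurjective]
    refine le_antisymm ?_ (Subgroup.zpowers_le.mpr ⟨a0, hQ, rfl⟩)
    rintro _ ⟨y, hy, rfl⟩
    obtain ⟨k, hk⟩ := hI Q a0 hQ y hy ha0s
    have h1 : PEl p (y * (a0 ^ k)⁻¹) := pEl_of_mem Q.isPGroup' (mul_mem hy (inv_mem (pow_mem hQ k)))
    have h2 : QuotientGroup.mk' N (y * (a0 ^ k)⁻¹) = 1 :=
      (QuotientGroup.eq_one_iff _).mpr (MonoidHom.mem_ker.mpr (hker _ h1 hk))
    rw [map_mul, map_inv, mul_inv_eq_one, map_pow] at h2
    rw [h2]
    exact pow_mem (Subgroup.mem_zpowers X) k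
  have hPHc : Nat.card (PH : Subgroup (G ⧸ N)) = p := by rw [hPH, Nat.card_zpowers, hX]
  have hPHn : ¬ (PH : Subgroup (G ⧸ N)).Normal := by
    intro hn
    haveI := Sylow.unique_of_normal PH hn
    refine hP fun a b ha hb => ?_
    obtain ⟨Qa, hQa⟩ := exists_sylow_mem (ha.map (QuotientGroup.mk' N))
    obtain ⟨Qb, hQb⟩ := exists_sylow_mem (hb.map (QuotientGroup.mk' N))
    rw [Subsingleton.elim Qa PH] at hQa
    rw [Subsingleton.elim Qb PH] at hQb
    obtain ⟨i, hi⟩ := Subgroup.mem_zpowers_iff.mp (hPH ▸ hQa : QuotientGroup.mk' N a ∈ Subgroup.zpowers X)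
    obtain ⟨j, hj⟩ := Subgroup.mem_zpowers_iff.mp (hPH ▸ hQb : QuotientGroup.mk' N b ∈ Subgroup.zpowers X)
    have h : σ (QuotientGroup.mk' N a) * σ (QuotientGroup.mk' N b) =
        σ (QuotientGroup.mk' N b) * σ (QuotientGroup.mk' N a) := by
      rw [← hi, ← hj, ← map_mul σ, ← map_mul σ, (Commute.zpow_zpow_self X i j).eq]
    rw [hσ, hσ, hρ', hρ', smul_mul_smul_comm, smul_mul_smul_comm, mul_comm (ℓ b)] at h
    exact smul_right_injective (Module.End ℂ V) (mul_ne_zero (hl0 a) (hl0 b)) h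
  obtain ⟨x, L, -, hS⟩ := CyclicDefect.exists_setting_of_sylow hp.out PH hPHc
  have hnn : ∀ M : Subgroup (G ⧸ N), M.Normal → Nat.card M ≠ p := fun M hM hcard => by
    refine hPHn ?_
    haveI := hM
    obtain ⟨R, hR⟩ := (IsPGroup.of_card (n := 1) (by rw [hcard, pow_one]) : IsPGroup p M).exists_le_sylow
    have hRc : Nat.card (R : Subgroup (G ⧸ N)) = p :=
      (Sylow.card_eq_multiplicity R).trans ((Sylow.card_eq_multiplicity PH).symm.trans hPHc)
    have hRM : (R : Subgroup (G ⧸ N)) = M := (Subgroup.eq_of_le_of_card_ge hR (by rw [hRc, hcard])).symm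
    haveI : (R : Subgroup (G ⧸ N)).Normal := hRM ▸ hM
    haveI := Sylow.unique_of_normal R inferInstance
    rw [Subsingleton.elim PH R]; infer_instance
  haveI := Fintype.ofFinite (G ⧸ N)
  let χ : IrrCharacter (G ⧸ N) := ⟨σ.character, Char.isIrrCharacter_character σ⟩
  have hdeg : charDegree (χ : G ⧸ N → ℂ) = 16 := Nat.cast_injective (R := ℂ) (by
    rw [charDegree_cast, ← hd]; exact Representation.char_one σ)
  have hfaith : ∀ g, (χ : G ⧸ N → ℂ) g = (χ : G ⧸ N → ℂ) 1 → g = 1 := fun g hg => hσinj g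
    ((Char.character_eq_finrank_iff σ g).mp (hg.trans (Representation.char_one σ)))
  rcases FeitSmall.reduce hS (by omega) hnn χ hfaith (by omega) with ⟨-, h2, -⟩ | ⟨hdE, H, y, L0, t, R⟩
  · exfalso
    rw [hdeg] at h2
    have h33 := hp.out
    rw [← h2] at h33
    norm_num at h33
  rw [hdeg] at hdE
  have hte := R.core.hte
  rcases R.cases (by omega) with ⟨ht, ⟨ψ⟩⟩ | ⟨ht, -⟩
  · subst ht
    have h31 : p = 31 := by omega
    subst h31
    exact ⟨rfl, ⟨φ.trans ψ⟩⟩
  · exfalso
    have hE : (K x L).index = 3 := by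
      have he2 := R.core.he2
      have h3 : (K x L).index ≤ 3 := by nlinarith [show t * (K x L).index + 1 = 16 + (K x L).index by omega]
      interval_cases (K x L).index <;> omega
    rw [hE] at hte ht
    exact false_of_reduced R hE (by omega)

end Cfsg.Agent.FeitBound
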