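/-
Degree below `27` and a prime above the degree plus one: the general part (namespace `Cfsg.Agent.FeitBound`).

Main results: `normal_of_pcomm`, `seventeen` (degree `15`, prime `17`), `general_cases` (what is left over are
the pairs `(5, 3)` and `(7, 4)`).
-/
import Cfsg.Agent.Lib.FeitBound.Sixteen
import Cfsg.Agent.Lib.FeitBound.Quot
import Cfsg.Agent.Lib.OrthMult.Lifts
import Cfsg.Agent.S4705
import Mathlib.FieldTheory.Finite.GaloisField

set_option autoImplicit false
set_option linter.unusedSectionVars false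
set_option linter.style.haveILetI false

namespace Cfsg.Agent.FeitBound

open Module Cfsg Cfsg.Agent.Blocks Cfsg.Agent.CyclicDefect
open scoped Pointwise commutatorElement

universe u

variable {G : Type u} [Group G] [Finite G] {V : Type} [AddCommGroup V] [Module ℂ V] [FiniteDimensional ℂ V]

/-- Commuting `p`-elements form a normal Sylow subgroup. -/
theorem normal_of_pcomm {p : ℕ} [Fact p.Prime] {ρ : Representation ℂ G V} (hinj : Function.Injective ρ)
    (hP : PComm p ρ) (P : Sylow p G) : (P : Subgroup G).Normal := by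
  set S : Set G := {g | PEl p g}
  have hS := pgroup_closure (S := S) (fun a ha b hb => hinj (by rw [map_mul, map_mul, hP a b ha hb]))
    (fun a ha => ha)
  have hle : (P : Subgroup G) ≤ Subgroup.closure S := fun a ha =>
    Subgroup.subset_closure (pEl_of_mem P.isPGroup' ha)
  rw [← P.3 hS.1 hle]
  exact ⟨fun g hg c => by
    induction hg using Subgroup.closure_induction with
    | mem a ha => exact Subgroup.subset_closure (PEl.conj (show PEl p a from ha) c)
    | one => simp
    | mul a b _ _ iha ihb =>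
      rw [show c * (a * b) * c⁻¹ = (c * a * c⁻¹) * (c * b * c⁻¹) by group]; exact mul_mem iha ihb
    | inv a _ iha => rw [← conj_inv]; exact inv_mem iha⟩

/-- Degree one. -/
theorem pcomm_of_finrank_one (p : ℕ) (ρ : Representation ℂ G V) (hd : finrank ℂ V = 1) : PComm p ρ := by
  intro a b _ _
  obtain ⟨v, -, hv⟩ := finrank_eq_one_iff'.mp hd
  refine LinearMap.ext fun w => ?_
  obtain ⟨s, rfl⟩ := hv w
  obtain ⟨α, hα⟩ := hv (ρ a v)
  obtain ⟨β, hβ⟩ := hv (ρ b v)
  simp only [Module.End.mul_apply, map_smul, ← hα, ← hβ, smul_smul]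
  congr 1
  ring

theorem commutator_sl2_of_card {F : Type} [Field F] [Fintype F] (hF : 4 ≤ Fintype.card F) :
    commutator (Matrix.SpecialLinearGroup (Fin 2) F) = ⊤ :=
  OrthMult.commutator_sl2_eq_top hF

/-- A direct product with a perfect factor. -/
theorem exists_commutator_mul_center {Q S Z : Type*} [Group Q] [Group S] [Group Z] (hS : commutator S = ⊤)
    (hZ : ∀ a b : Z, a * b = b * a) (e : Q ≃* S × Z) (q : Q) :
    ∃ c ∈ commutator Q, ∃ w ∈ Subgroup.center Q, q = c * w := by
  refine ⟨e.symm ((e q).1, 1), ?_, e.symm (1, (e q).2), ?_, ?_⟩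
  · let f : S →* Q := e.symm.toMonoidHom.comp (MonoidHom.inl S Z)
    have h1 : (commutator S).map f ≤ commutator Q := by
      rw [commutator_def, Subgroup.map_commutator]
      exact Subgroup.commutator_mono le_top le_top
    exact h1 ⟨(e q).1, hS ▸ Subgroup.mem_top _, rfl⟩
  · refine Subgroup.mem_center_iff.mpr fun b => e.injective ?_
    rw [map_mul, map_mul, MulEquiv.apply_symm_apply]
    exact Prod.ext (by simp) (hZ _ _)
  · apply e.injective
    rw [map_mul, MulEquiv.apply_symm_apply, MulEquiv.apply_symm_apply]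
    exact Prod.ext (by simp) (by simp)

set_option maxHeartbeats 1000000 in
/-- Degree `15` and the prime `17`. -/
theorem seventeen {p : ℕ} [hp : Fact p.Prime] (hp17 : p = 17) (ρ : Representation ℂ G V) [ρ.IsIrreducible]
    (hinj : Function.Injective ρ) (hd : finrank ℂ V = 15) (hP : ¬ PComm p ρ) :
    ∃ (A : Type) (_ : CommGroup A) (_ : Finite A),
      Nonempty (G ≃* Matrix.SpecialLinearGroup (Fin 2) (GaloisField 2 4) × A) := by
  haveI := CharApp.nontrivial_of_irr ρ
  have hI := idx_of_irr (p := p) (by omega) ρ (by omega) hP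
  have hS := spec (p := p) (by omega) ρ (by omega) hI hP
  obtain ⟨Q, hQG, hQF, π, σ, T⟩ := exists_quot (p := p) ρ (by omega) hI hP
  haveI := T.irr
  obtain ⟨PQ, hPQ, hPQn⟩ := T.sylow
  obtain ⟨a, F, hF, hFf, ha, hcard, ⟨e⟩⟩ := Cfsg.Agent.S4705.result p (by omega) PQ hPQ hPQn σ.character
    (Char.isIrrCharacter_character σ) (fun g hg => T.inj (((Char.character_eq_finrank_iff σ g).mp
      (hg.trans (Representation.char_one σ))).trans (map_one σ).symm))
    (by
      have : ((charDegree σ.character : ℕ) : ℂ) = σ.character 1 :=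
        Agent.Blocks.charDegree_cast (⟨σ.character, Char.isIrrCharacter_character σ⟩ : IrrCharacter Q)
      rw [Representation.char_one, hd] at this
      have := Nat.cast_injective this
      omega)
  have ha4 : a = 4 := by
    have : 2 ^ a = 2 ^ 4 := by omega
    exact Nat.pow_right_injective le_rfl this
  have hperf : commutator (Matrix.SpecialLinearGroup (Fin 2) F) = ⊤ :=
    commutator_sl2_of_card (by rw [hcard, ha4]; norm_num)
  set D := commutator G
  have hπD : D.map π = commutator Q := by
    simp only [D, commutator_def]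
    rw [Subgroup.map_commutator, Subgroup.map_top_of_surjective π T.surj]
  -- `G` is the product of the derived subgroup and the centre
  have hDZ : ∀ g : G, ∃ d ∈ D, ∃ w ∈ Subgroup.center G, g = d * w := by
    intro g
    obtain ⟨c, hc, w, hw, hq⟩ := exists_commutator_mul_center hperf
      (fun u v => Subtype.ext (Subgroup.mem_center_iff.mp v.2 u)) e (π g)
    rw [← hπD] at hc
    obtain ⟨d, hdD, rfl⟩ := hc
    refine ⟨d, hdD, d⁻¹ * g, mem_center_of_scal hinj (T.center_iff.mp ?_), by group⟩
    rwa [map_mul, map_inv, hq, inv_mul_cancel_left]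
  set τ : Representation ℂ D V := res ρ D
  haveI hτ : τ.IsIrreducible := CharApp.isIrreducible_of_forall_invariant τ fun W hW =>
    CharApp.eq_bot_or_top_of_invariant ρ W fun g v hv => by
      obtain ⟨d, hdD, w, hw, rfl⟩ := hDZ g
      obtain ⟨c, hc⟩ := scal_of_center (ρ := ρ) hw
      rw [rho_mul_apply, hc, LinearMap.smul_apply, Module.End.one_apply, map_smul]
      exact W.smul_mem c (hW ⟨d, hdD⟩ v hv)
  have hτinj : Function.Injective τ := fun u v huv => Subtype.ext (hinj huv)
  have hDD : commutator D = ⊤ := by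
    refine Subgroup.map_injective (f := D.subtype) Subtype.val_injective ?_
    rw [Subgroup.map_subtype_commutator D, ← MonoidHom.range_eq_map, Subgroup.range_subtype]
    refine le_antisymm (Subgroup.commutator_le_self D) ?_
    show commutator G ≤ _
    rw [commutator_def]
    refine Subgroup.commutator_le.mpr fun g _ g' _ => ?_
    obtain ⟨d, hdD, w, hw, rfl⟩ := hDZ g
    obtain ⟨d', hdD', w', hw', rfl⟩ := hDZ g'
    have e1 : ∀ b, b * w = w * b := Subgroup.mem_center_iff.mp hw
    have e2 : ∀ b, b * w' = w' * b := Subgroup.mem_center_iff.mp hw'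
    have h1 : ⁅d * w, d' * w'⁆ = ⁅d, d'⁆ := by
      simp only [commutatorElement_def, mul_inv_rev]
      calc d * w * (d' * w') * (w⁻¹ * d⁻¹) * (w'⁻¹ * d'⁻¹)
          = d * (w * (d' * w')) * w⁻¹ * d⁻¹ * w'⁻¹ * d'⁻¹ := by group
        _ = d * d' * (w' * d⁻¹) * w'⁻¹ * d'⁻¹ := by rw [← e1]; group
        _ = d * d' * d⁻¹ * d'⁻¹ := by rw [← e2]; group
    rw [h1]
    exact Subgroup.commutator_mem_commutator hdD hdD'
  -- the Sylow subgroup of the derived subgroup
  obtain ⟨h0, hh0, hh0p, hh0s⟩ := hS.derived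
  obtain ⟨PD, hPD⟩ := exists_sylow_mem (pEl_coe.mp hh0p : PEl p (⟨h0, hh0⟩ : D))
  have hscal1 : ∀ u : D, PEl p u → Scal ρ (u : G) → u = 1 := by
    rintro u ⟨j, hj⟩ ⟨c, hc⟩
    have h1 : LinearMap.det (ρ (u : G)) = 1 := map_commutator_eq_one (LinearMap.det.comp ρ)
      (fun a b => Commute.all _ _) u.2
    rw [hc, LinearMap.det_smul, map_one, mul_one, hd] at h1
    have h2 : c ^ p ^ j = 1 := scal_pow_eq_one hc (by rw [← Subgroup.coe_pow, hj]; rfl)
    have hcop : Nat.Coprime 15 (p ^ j) := Nat.Coprime.pow_right _ (by rw [hp17]; norm_num)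
    have h3 := pow_gcd_eq_one.mpr ⟨h1, h2⟩
    rw [hcop.gcd_eq_one, pow_one] at h3
    exact hτinj (by rw [map_one]; show ρ (u : G) = 1; rw [hc, h3, one_smul])
  have hne : h0 ≠ 1 := fun e0 => hh0s (e0 ▸ Scal.one)
  let f : (PD : Subgroup D) →* Q := π.comp ((D.subtype).comp (PD : Subgroup D).subtype)
  have hf : Function.Injective f := (injective_iff_map_eq_one f).mpr fun u hu => by
    refine Subtype.ext (hscal1 _ (pEl_of_mem PD.isPGroup' u.2) (T.center_iff.mp ?_))
    have : π ((u : D) : G) = 1 := hu
    rw [this]; exact one_mem _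
  have hPDc : Nat.card (PD : Subgroup D) = p := by
    have h1 : IsPGroup p f.range := PD.isPGroup'.of_surjective f.rangeRestrict f.rangeRestrict_surjective
    obtain ⟨R, hR⟩ := h1.exists_le_sylow
    have h2 := Subgroup.card_le_of_le hR
    rw [(Sylow.card_eq_multiplicity R).trans ((Sylow.card_eq_multiplicity PQ).symm.trans hPQ),
      ← Nat.card_congr (MonoidHom.ofInjective hf).toEquiv] at h2
    obtain ⟨n, hn⟩ := PD.isPGroup'.exists_card_eq
    have h3 : 1 < Nat.card (PD : Subgroup D) := (Subgroup.one_lt_card_iff_ne_bot _).mpr fun e0 => hne (by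
      have := e0 ▸ (show (⟨h0, hh0⟩ : D) ∈ (PD : Subgroup D) from hPD)
      exact congrArg Subtype.val ((Subgroup.mem_bot).mp this))
    rcases n with _ | _ | n
    · rw [hn] at h3; simp at h3
    · rw [hn, pow_one]
    · rw [hn] at h2
      have h4 : p ^ 2 ≤ p ^ (n + 1 + 1) := Nat.pow_le_pow_right hp.out.pos (by omega)
      have := hp.out.two_le
      nlinarith
  have hPDn : ¬ (PD : Subgroup D).Normal := by
    intro hn
    haveI := Sylow.characteristic_of_normal PD hn
    have hM : ((PD : Subgroup D).map D.subtype).Normal := inferInstance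
    refine T.nn _ (hM.map π T.surj) ?_
    have heq : Subgroup.map (π.comp D.subtype) (PD : Subgroup D) = f.range := ?_
    · rw [Subgroup.map_map, heq]
      exact (Nat.card_congr (MonoidHom.ofInjective hf).toEquiv).symm.trans hPDc
    · rw [MonoidHom.range_eq_map]
      ext z
      constructor
      · rintro ⟨u, hu, rfl⟩; exact ⟨⟨u, hu⟩, Subgroup.mem_top _, rfl⟩
      · rintro ⟨u, -, rfl⟩; exact ⟨u, u.2, rfl⟩
  obtain ⟨a', F', hF', hFf', ha', hcard', ⟨e'⟩⟩ := Cfsg.Agent.S4705.result p (by omega) PD hPDc hPDn τ.character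
    (Char.isIrrCharacter_character τ) (fun g hg => hτinj (((Char.character_eq_finrank_iff τ g).mp
      (hg.trans (Representation.char_one τ))).trans (map_one τ).symm))
    (by
      have : ((charDegree τ.character : ℕ) : ℂ) = τ.character 1 :=
        Agent.Blocks.charDegree_cast (⟨τ.character, Char.isIrrCharacter_character τ⟩ : IrrCharacter D)
      rw [Representation.char_one, hd] at this
      have := Nat.cast_injective this
      omega)
  -- the centre of the derived subgroup is trivial
  have hsnd : ∀ u : D, (e' u).2 = 1 := fun u => by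
    let g : D →* Subgroup.center D := (MonoidHom.snd _ _).comp e'.toMonoidHom
    exact map_commutator_eq_one g
      (fun a b => Subtype.ext (Subgroup.mem_center_iff.mp (g b).2 (g a : D)))
      (hDD.symm ▸ Subgroup.mem_top u)
  let φ : D ≃* Matrix.SpecialLinearGroup (Fin 2) F' :=
    MulEquiv.ofBijective ((MonoidHom.fst _ _).comp e'.toMonoidHom)
      ⟨fun u v huv => e'.injective (Prod.ext huv ((hsnd u).trans (hsnd v).symm)),
        fun s => ⟨e'.symm (s, 1), by simp⟩⟩
  have hZD : ∀ u : D, u ∈ Subgroup.center D → u = 1 := by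
    intro u hu
    have : Subsingleton (Subgroup.center D) :=
      ⟨fun w w' => ((congrArg Prod.snd (e'.apply_symm_apply (1, w))).symm.trans (hsnd _)).trans
        (((congrArg Prod.snd (e'.apply_symm_apply (1, w'))).symm.trans (hsnd _)).symm)⟩
    exact congrArg Subtype.val (Subsingleton.elim (⟨u, hu⟩ : Subgroup.center D) 1)
  -- the field
  have hF16 : Fintype.card F' = Nat.card (GaloisField 2 4) := by
    rw [GaloisField.card 2 4 (by norm_num), hcard']
    have : 2 ^ a' = 2 ^ 4 := by omega
    rw [this]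
  haveI : Fintype (GaloisField 2 4) := Fintype.ofFinite _
  let r : F' ≃+* GaloisField 2 4 := FiniteField.ringEquivOfCardEq (hF16.trans Nat.card_eq_fintype_card)
  let ψ : Matrix.SpecialLinearGroup (Fin 2) F' ≃* Matrix.SpecialLinearGroup (Fin 2) (GaloisField 2 4) :=
    MulEquiv.ofBijective (Matrix.SpecialLinearGroup.map (r : F' →+* GaloisField 2 4))
      ⟨fun u v huv => Subtype.ext (Matrix.ext fun i j => r.injective (congrFun₂ (congrArg Subtype.val huv) i j)),
        fun v => ⟨Matrix.SpecialLinearGroup.map (r.symm : GaloisField 2 4 →+* F') v,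
          Subtype.ext (Matrix.ext fun i j => r.apply_symm_apply _)⟩⟩
  -- the product
  let μ : D × Subgroup.center G →* G :=
    { toFun := fun u => (u.1 : G) * (u.2 : G)
      map_one' := by simp
      map_mul' := fun u v => by
        show ((u.1 : G) * v.1) * ((u.2 : G) * v.2) = (u.1 : G) * u.2 * ((v.1 : G) * v.2)
        rw [mul_assoc (u.1 : G), mul_assoc (u.1 : G), ← mul_assoc (v.1 : G), ← mul_assoc (u.2 : G) (v.1 : G),
          Subgroup.mem_center_iff.mp u.2.2 (v.1 : G)] }
  have hμ : Function.Bijective μ := by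
    refine ⟨(injective_iff_map_eq_one μ).mpr fun u hu => ?_, fun g => ?_⟩
    · have h1 : (u.1 : G) = ((u.2 : G))⁻¹ := eq_inv_of_mul_eq_one_left hu
      have h2 : u.1 = 1 := hZD _ (Subgroup.mem_center_iff.mpr fun b => Subtype.ext (by
        rw [Subgroup.coe_mul, Subgroup.coe_mul, h1]
        exact Subgroup.mem_center_iff.mp (inv_mem u.2.2) (b : G)))
      have h3 : (u.2 : G) = 1 := by
        have : ((u.1 : G)) * u.2 = 1 := hu
        rwa [h2, OneMemClass.coe_one, one_mul] at this
      exact Prod.ext h2 (Subtype.ext h3)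
    · obtain ⟨d, hdD, w, hw, rfl⟩ := hDZ g
      exact ⟨(⟨d, hdD⟩, ⟨w, hw⟩), rfl⟩
  -- a copy of the centre
  obtain ⟨A, hA, hAF, ⟨α⟩⟩ : ∃ (A : Type) (_ : CommGroup A) (_ : Finite A),
      Nonempty (Subgroup.center G ≃* A) := by
    obtain ⟨n, ⟨ν⟩⟩ := Finite.exists_equiv_fin (Subgroup.center G)
    letI : CommGroup (Subgroup.center G) :=
      { (inferInstance : Group (Subgroup.center G)) with
        mul_comm := fun u v => Subtype.ext (Subgroup.mem_center_iff.mp v.2 u) }
    let ν' : Subgroup.center G ≃ {i : Fin n // i = i} := ν.trans (Equiv.subtypeUnivEquiv fun _ => rfl).symm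
    letI : CommGroup {i : Fin n // i = i} := ν'.symm.commGroup
    exact ⟨{i : Fin n // i = i}, inferInstance, inferInstance, ⟨(Equiv.mulEquiv ν'.symm).symm⟩⟩
  exact ⟨A, hA, hAF, ⟨(MulEquiv.ofBijective μ hμ).symm.trans ((φ.trans ψ).prodCongr α)⟩⟩

/-- An even index with at least three classes is two when the degree is odd. -/
theorem eq_two_of_even {p : ℕ} [Fact p.Prime] {Q : Type u} [Group Q] [Finite Q] {H : Subgroup Q} {y : H}
    {L0 : Subgroup H} {e t : ℕ} (R : FeitSmall.Reduced H y L0 p e t) (hp : 7 < p) (ht : 3 ≤ t) (he : Even e) :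
    e = 2 := by
  haveI := Fintype.ofFinite H
  have h := R.core
  obtain ⟨μ, A, c, hε, hM, hfaith⟩ := R.fam
  have hA : A.Minus h := ⟨hε, hM⟩
  have hp' : p.Prime := Fact.out
  have hodd : Odd (charDegree (A.exc c : H → ℂ)) := by
    have h1 : charDegree (A.exc c : H → ℂ) + e = p := by
      apply Nat.cast_injective (R := ℂ)
      push_cast
      rw [Agent.Blocks.charDegree_cast, FeitSmall.deg_minus h A hA c]
      ring
    rcases Nat.even_or_odd (charDegree (A.exc c : H → ℂ)) with h2 | h2
    · exfalso
      have h3 : Odd p := hp'.odd_of_ne_two (by omega)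
      rw [← h1] at h3
      exact (Nat.not_odd_iff_even.mpr (h2.add he)) h3
    · exact h2
  have hK : Odd (Nat.card (K y L0)) := by
    rw [← Nat.not_even_iff_odd, even_iff_two_dvd]
    intro h2
    haveI : Fact (Nat.Prime 2) := ⟨Nat.prime_two⟩
    obtain ⟨k, hk⟩ := exists_prime_orderOf_dvd_card' 2 h2
    have h3 := DegPMinusTwo.center_pow_eq_one (χ := A.exc c) hfaith h.hperf (h.hK k)
    have h4 := orderOf_dvd_of_pow_eq_one h3
    rw [Subgroup.orderOf_coe, Subgroup.orderOf_coe, hk] at h4
    exact (Nat.not_even_iff_odd.mpr hodd) (even_iff_two_dvd.mpr h4)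
  exact FeitSmall.even_case h ht he hK A hA

set_option maxHeartbeats 1000000 in
/-- What is left over are two pairs. -/
theorem general_cases {p : ℕ} [hp : Fact p.Prime] (ρ : Representation ℂ G V) [ρ.IsIrreducible]
    (hinj : Function.Injective ρ) (hd : finrank ℂ V + 1 < p) (h27 : finrank ℂ V < 27) (hP : ¬ PComm p ρ) :
    (Nonempty (G ⧸ Subgroup.center G ≃* Matrix.ProjectiveSpecialLinearGroup (Fin 2) (ZMod p)) ∧
      (2 * finrank ℂ V = p + 1 ∨ 2 * finrank ℂ V = p - 1)) ∨
    (p = 17 ∧ finrank ℂ V = 15) ∨ (p = 7 ∧ finrank ℂ V = 4) ∨ (p = 5 ∧ finrank ℂ V = 3) := by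
  haveI := CharApp.nontrivial_of_irr ρ
  have hd2 : 2 ≤ finrank ℂ V := by
    have h0 : 0 < finrank ℂ V := finrank_pos
    by_contra hlt
    exact hP (pcomm_of_finrank_one p ρ (by omega))
  have hp5 : 5 ≤ p := by
    by_contra hlt
    have := hp.out
    interval_cases p
    · omega
    · omega
    · omega
    · omega
    · exact absurd this (by norm_num)
  have hI := idx_of_irr (p := p) hp5 ρ (by omega) hP
  obtain ⟨Q, hQG, hQF, π, σ, T⟩ := exists_quot (p := p) ρ (by omega) hI hP
  haveI := T.irr
  obtain ⟨φ⟩ := T.center_quot_equiv hinj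
  obtain ⟨PQ, hPQ, hPQn⟩ := T.sylow
  obtain ⟨x, L, -, hS⟩ := CyclicDefect.exists_setting_of_sylow hp.out PQ hPQ
  haveI := Fintype.ofFinite Q
  let χ : IrrCharacter Q := ⟨σ.character, Char.isIrrCharacter_character σ⟩
  have hdeg : charDegree (χ : Q → ℂ) = finrank ℂ V := Nat.cast_injective (R := ℂ) (by
    rw [Agent.Blocks.charDegree_cast]; exact Representation.char_one σ)
  have hfaith : ∀ g, (χ : Q → ℂ) g = (χ : Q → ℂ) 1 → g = 1 := fun g hg =>
    T.inj (((Char.character_eq_finrank_iff σ g).mp (hg.trans (Representation.char_one σ))).trans (map_one σ).symm)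
  rcases FeitSmall.reduce_of_five_le hS hp5 T.nn χ hfaith (by rw [hdeg]; exact hd) with
    ⟨⟨ψ⟩, h2, -⟩ | ⟨hdE, H, y, L0, t, R⟩
  · rw [hdeg] at h2
    exact Or.inl ⟨⟨φ.trans ψ⟩, Or.inr (by omega)⟩
  rw [hdeg] at hdE
  have hte := R.core.hte
  have he2 := R.core.he2
  have ht2 := R.core.ht2
  have htwo : p = finrank ℂ V + 2 → p = 5 ∨ p = 17 := by
    intro hdp
    by_contra hne
    have h5 : 5 < p := by omega
    obtain ⟨a, F, hF, hFf, ha, -, -⟩ := Cfsg.Agent.S4705.result p h5 PQ hPQ hPQn σ.character
      (Char.isIrrCharacter_character σ) hfaith (by rw [show σ.character = (χ : Q → ℂ) from rfl, hdeg]; omega)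
    have hpp := hp.out
    have ha5 : a < 5 := by
      by_contra hge
      have := Nat.pow_le_pow_right (show 0 < 2 by norm_num) (show 5 ≤ a by omega)
      omega
    interval_cases a
    · omega
    · omega
    · omega
    · exact absurd (ha ▸ hpp) (by norm_num)
    · omega
  rcases Nat.lt_or_ge 7 p with hp7 | hp7
  · rcases R.cases hp7 with ⟨rfl, ⟨ψ⟩⟩ | ⟨ht, -⟩
    · exact Or.inl ⟨⟨φ.trans ψ⟩, Or.inl (by omega)⟩
    rcases eq_or_ne (K x L).index 2 with he | he
    · rcases htwo (by omega) with h | h
      · omega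
      · exact Or.inr (Or.inl ⟨h, by omega⟩)
    · exfalso
      generalize (K x L).index = e at hdE R hte he2 ht he
      have hb : (t - 1) * e < 27 := by
        have : t * e = (t - 1) * e + e := by
          rw [← Nat.succ_mul]; congr 1; omega
        omega
      have he5 : e < 5 := by
        by_contra hge
        have h1 := Nat.mul_le_mul (show 7 ≤ t - 1 by omega) (show 5 ≤ e by omega)
        omega
      interval_cases e
      · omega
      · -- three
        have ht9 : t ≤ 9 := by omega
        have hpp := hp.out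
        interval_cases t
        · exact false_of_reduced R rfl rfl
        all_goals
          have h' : p = 22 ∨ p = 25 ∨ p = 28 := by omega
          rcases h' with rfl | rfl | rfl <;> norm_num at hpp
      · exact absurd (eq_two_of_even R hp7 (by omega) ⟨2, rfl⟩) (by norm_num)
  · interval_cases p
    · have hE : (K x L).index = 2 := by
        generalize (K x L).index = e at hte he2 ⊢
        nlinarith
      exact Or.inr (Or.inr (Or.inr ⟨rfl, by omega⟩))
    · exact absurd hp.out (by norm_num)
    · have hE : (K x L).index = 2 ∨ (K x L).index = 3 := by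
        generalize (K x L).index = e at hte he2 ⊢
        have : e ≤ 3 := by nlinarith
        omega
      rcases hE with hE | hE
      · rcases htwo (by omega) with h | h <;> omega
      · exact Or.inr (Or.inr (Or.inl ⟨rfl, by omega⟩))

end Cfsg.Agent.FeitBound
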