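/-
Integral valued characters on subgroups and counting of sections (namespace `Cfsg.Agent.FeitBound`).

Main results: `dvd_of_values` (an integral valued character bounds the order of a group), `section_count`,
`sum_odd_re_le`, `pairs_le`.
-/
import Cfsg.Agent.Lib.HalfDegree.Tools
import Cfsg.Agent.Lib.FeitSmall.TwoTools

set_option autoImplicit false
set_option linter.unusedSectionVars false
set_option linter.style.haveILetI false

open scoped ComplexConjugate

namespace Cfsg.Agent.FeitBound

open Cfsg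

section values

variable {P : Type*} [Group P] [Fintype P] {f : P → ℂ}

theorem exists_int_sum (hf : IsCharacter P f) (S : Finset ℤ) : ∀ ψ : P → ℂ, IsCharacter P ψ →
    ∃ m : ℤ, ∑ g, ψ g * ∏ v ∈ S, (f g - (v : ℂ)) = (Nat.card P : ℂ) * m := by
  classical
  induction S using Finset.induction_on with
  | empty =>
    intro ψ hψ
    obtain ⟨n, hn⟩ := HalfDegree.exists_nat_sum hψ
    exact ⟨n, by simpa using hn⟩
  | insert v S hv ih =>
    intro ψ hψ
    obtain ⟨m, hm⟩ := ih (fun g => ψ g * f g) (Char.IsCharacter.mul hψ hf)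
    obtain ⟨m', hm'⟩ := ih ψ hψ
    refine ⟨m - v * m', ?_⟩
    push_cast
    rw [mul_sub, ← hm, mul_left_comm, ← hm', Finset.mul_sum, ← Finset.sum_sub_distrib]
    refine Finset.sum_congr rfl fun g _ => ?_
    rw [Finset.prod_insert hv]
    ring

/-- An integral valued character taking few values bounds the order. -/
theorem dvd_of_values (hf : IsCharacter P f) {d : ℤ} (S : Finset ℤ)
    (h : ∀ g, f g = d ∨ ∃ v ∈ S, f g = (v : ℂ)) :
    (Nat.card P : ℤ) ∣ (Nat.card {g : P // f g = (d : ℂ)} : ℤ) * ∏ v ∈ S, (d - v) := by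
  classical
  obtain ⟨m, hm⟩ := exists_int_sum hf S (1 : P → ℂ) (Char.IsIrrCharacter.isCharacter Char.isIrrCharacter_one)
  refine ⟨m, Int.cast_injective (α := ℂ) ?_⟩
  push_cast
  rw [← hm]
  have hpt : ∀ g, (1 : P → ℂ) g * ∏ v ∈ S, (f g - (v : ℂ)) =
      if f g = (d : ℂ) then ∏ v ∈ S, ((d : ℂ) - (v : ℂ)) else 0 := by
    intro g
    rw [Pi.one_apply, one_mul]
    split_ifs with hg
    · rw [hg]
    · obtain ⟨v, hv, hgv⟩ := (h g).resolve_left hg
      exact Finset.prod_eq_zero hv (by rw [hgv, sub_self])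
  rw [Finset.sum_congr rfl fun g _ => hpt g, ← Finset.sum_filter, Finset.sum_const, nsmul_eq_mul,
    Nat.card_eq_fintype_card, Fintype.card_subtype]

end values

section count

variable {G : Type*} [Group G] [Fintype G]

open scoped Classical in
/-- The conjugates of the elements `a u`, for `u` commuting with `a` of order prime to that of `a`. -/
theorem section_count (a : G) (U : Finset G) (hU : ∀ u ∈ U, Commute a u ∧ (orderOf u).Coprime (orderOf a))
    (X : Finset G) (hX : ∀ g : G, ∀ u ∈ U, g * (a * u) * g⁻¹ ∈ X) :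
    Nat.card G * U.card ≤ Nat.card (Subgroup.centralizer ({a} : Set G)) * X.card := by
  set C := Subgroup.centralizer ({a} : Set G)
  haveI : Fintype (G ⧸ C) := Fintype.ofFinite _
  have h1 : Fintype.card (G ⧸ C) * U.card ≤ X.card := by
    rw [← Finset.card_univ, ← Finset.card_product]
    refine Finset.card_le_card_of_injOn (fun w => w.1.out * (a * w.2) * w.1.out⁻¹)
      (fun w hw => hX _ _ (Finset.mem_product.mp hw).2) ?_
    rintro ⟨q, u⟩ hw ⟨q', u'⟩ hw' he
    obtain ⟨hau, hcu⟩ := hU u (Finset.mem_product.mp hw).2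
    obtain ⟨hau', hcu'⟩ := hU u' (Finset.mem_product.mp hw').2
    obtain ⟨m, hm1, hm2⟩ := Nat.chineseRemainder
      (Nat.Coprime.symm (Nat.Coprime.mul_left hcu hcu')) 1 0
    have hp : ∀ v : G, Commute a v → orderOf v ∣ orderOf u * orderOf u' → (a * v) ^ m = a := by
      intro v hv hd
      rw [hv.mul_pow, orderOf_dvd_iff_pow_eq_one.mp ((hd.trans (Nat.modEq_zero_iff_dvd.mp hm2))), mul_one]
      conv_rhs => rw [← pow_one a]
      exact pow_eq_pow_iff_modEq.mpr hm1
    have he' : q.out * (a * u) * q.out⁻¹ = q'.out * (a * u') * q'.out⁻¹ := he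
    have h2 := congrArg (· ^ m) he'
    simp only [conj_pow] at h2
    rw [hp u hau (dvd_mul_right _ _), hp u' hau' (dvd_mul_left _ _)] at h2
    have hq : q = q' := by
      rw [← QuotientGroup.out_eq' q, ← QuotientGroup.out_eq' q', QuotientGroup.eq,
        Subgroup.mem_centralizer_singleton_iff]
      calc q.out⁻¹ * q'.out * a = q.out⁻¹ * (q'.out * a * q'.out⁻¹) * q'.out := by group
        _ = q.out⁻¹ * (q.out * a * q.out⁻¹) * q'.out := by rw [← h2]
        _ = a * (q.out⁻¹ * q'.out) := by group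
    subst hq
    have := mul_left_cancel (mul_left_cancel (mul_right_cancel he'))
    exact Prod.ext rfl this
  rw [← Nat.card_eq_fintype_card] at h1
  rw [← Subgroup.card_mul_index C, Subgroup.index, mul_assoc]
  exact Nat.mul_le_mul_left _ h1

end count

/-- The odd powers of a root of unity of two-power order. -/
theorem sum_odd_re_le {r : ℂ} {M : ℕ} (hr : r ^ (2 * M) = 1) :
    (∑ i ∈ Finset.range M, r ^ (2 * i + 1)).re ≤ if r = 1 then (M : ℝ) else 0 := by
  by_cases h1 : r = 1
  · rw [if_pos h1, h1]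
    simp
  rw [if_neg h1]
  by_cases h2 : r ^ 2 = 1
  · have : r = -1 := by
      have h3 : (r - 1) * (r + 1) = 0 := by linear_combination h2
      exact eq_neg_of_add_eq_zero_left ((mul_eq_zero.mp h3).resolve_left (sub_ne_zero.mpr h1))
    subst this
    rw [Finset.sum_congr rfl (g := fun _ => (-1 : ℂ)) fun i _ => by rw [pow_succ, pow_mul]; norm_num]
    simp
  · rw [Finset.sum_congr rfl (g := fun i => (r ^ 2) ^ i * r) fun i _ => by rw [pow_succ, pow_mul],
      ← Finset.sum_mul, geom_sum_eq h2, ← pow_mul, hr, sub_self, zero_div, zero_mul, Complex.zero_re]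

theorem pairs_pattern : ∀ c : Fin 4 → Fin 4, (∃ i j, c i ≠ c j) →
    (Finset.univ.filter fun w : Fin 4 × Fin 4 => c w.1 = c w.2).card ≤ 10 := by decide +kernel

/-- Four numbers that are not all equal. -/
theorem pairs_le {α : Type*} [DecidableEq α] (μ : Fin 4 → α) (h : ∃ i j, μ i ≠ μ j) :
    (Finset.univ.filter fun w : Fin 4 × Fin 4 => μ w.1 = μ w.2).card ≤ 10 := by
  classical
  let c : Fin 4 → Fin 4 := fun i => (Finset.univ.filter fun j => μ j = μ i).min' ⟨i, by simp⟩
  have hc : ∀ i j, c i = c j ↔ μ i = μ j := by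
    intro i j
    refine ⟨fun e => ?_, fun e => ?_⟩
    · have h1 := Finset.min'_mem (Finset.univ.filter fun k => μ k = μ i) ⟨i, by simp⟩
      have h2 := Finset.min'_mem (Finset.univ.filter fun k => μ k = μ j) ⟨j, by simp⟩
      rw [Finset.mem_filter] at h1 h2
      have e' : (Finset.univ.filter fun k => μ k = μ i).min' ⟨i, by simp⟩ =
          (Finset.univ.filter fun k => μ k = μ j).min' ⟨j, by simp⟩ := e
      rw [← h1.2, e', h2.2]
    · simp only [c, e]
  obtain ⟨i, j, hij⟩ := h
  refine le_trans (le_of_eq ?_) (pairs_pattern c ⟨i, j, fun e => hij ((hc i j).mp e)⟩)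
  refine congrArg Finset.card (Finset.filter_congr fun w _ => ?_)
  exact (hc w.1 w.2).symm

end Cfsg.Agent.FeitBound
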