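/-
Two classes and degree three or four: the quotient by the centre (namespace `Cfsg.Agent.FeitBound`).

Main results: `exists_count` (the order), `simple_quot`, `exists_normF` (the norm of the exceptional character is a
rational integer on regular elements), `int_value`, `no_large_prime`, `dvd_of_qsub`.
-/
import Cfsg.Agent.Lib.FeitBound.Values
import Cfsg.Agent.Lib.FeitSmall.TwoEvenSetup
import Cfsg.Agent.Lib.FeitSmall.TwoOdd
import Cfsg.Agent.Lib.DegPMinusTwo.Centralizer

set_option autoImplicit false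
set_option linter.unusedSectionVars false
set_option linter.style.haveILetI false

open scoped ComplexConjugate

namespace Cfsg.Agent.FeitBound

open Cfsg Cfsg.Agent.Blocks Cfsg.Agent.CyclicDefect Cfsg.Agent.FeitSmall

variable {G : Type*} [Group G] [Fintype G] {p : ℕ} [Fact p.Prime] {x : G} {L : Subgroup G} {e : ℕ}

/-- The situation: two classes, an exceptional faithful character of degree `e + 1`. -/
structure Two (h : CCore p x L e 2) {μ : K x L →* ℂ} (A : Fam h μ) : Prop where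
  gen : Subgroup.closure {g : G | orderOf g = p} = ⊤
  minus : A.Minus h
  faith : ∃ c0, ∀ g : G, (A.exc c0 : G → ℂ) g = (A.exc c0 : G → ℂ) 1 → g = 1

variable {h : CCore p x L e 2} {μ : K x L →* ℂ} {A : Fam h μ} (D : Two h A)
include D

theorem deg_exc_two (c : T h.hS) : charDegree (A.exc c : G → ℂ) = e + 1 := by
  apply Nat.cast_injective (R := ℂ)
  rw [Agent.Blocks.charDegree_cast, deg_minus h A D.minus, show (p : ℂ) = 2 * e + 1 by exact_mod_cast p_two h]
  push_cast; ring

theorem faith_one : ∀ g : G, ¬ p ∣ orderOf g → (A.exc 1 : G → ℂ) g = (A.exc 1 : G → ℂ) 1 → g = 1 := by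
  intro g hg hv
  obtain ⟨c0, hf⟩ := D.faith
  have h1 : ¬ p ∣ orderOf (1 : G) := by simpa using (Fact.out : p.Prime).ne_one
  exact hf g (by rw [A.reg c0 1 g hg, A.reg c0 1 1 h1, hv])

theorem center_pow {z : G} (hz : z ∈ Subgroup.center G) : z ^ (e + 1) = 1 := by
  obtain ⟨c0, hf⟩ := D.faith
  have := DegPMinusTwo.center_pow_eq_one (χ := A.exc c0) hf h.hperf hz
  rwa [deg_exc_two D] at this

theorem two_mul_e : p = 2 * e + 1 := p_two h

/-- A prime dividing the order of the centre divides the degree. -/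
theorem prime_dvd_center {q : ℕ} (hq : q.Prime) (hd : q ∣ Nat.card (Subgroup.center G)) : q ∣ e + 1 := by
  haveI := Fact.mk hq
  obtain ⟨z, hz⟩ := exists_prime_orderOf_dvd_card' q hd
  rw [← hz, ← Subgroup.orderOf_coe]
  exact orderOf_dvd_of_pow_eq_one (center_pow D z.2)

theorem not_dvd_center : ¬ p ∣ Nat.card (Subgroup.center G) := fun hd => by
  have := Nat.le_of_dvd (by omega) (prime_dvd_center D Fact.out hd)
  have := two_mul_e D
  have := h.he2
  omega

theorem card_center : Nat.card (Subgroup.center G) = Nat.card (K x L) := by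
  let f : K x L → Subgroup.center G := fun k => ⟨((k : L) : G), h.hK k⟩
  refine (Nat.card_eq_of_bijective f ⟨fun a b hab => ?_, fun z => ?_⟩).symm
  · exact Subtype.ext (Subtype.ext (congrArg Subtype.val hab :))
  · obtain ⟨k, hk⟩ := exists_K_of_center h z.2
    exact ⟨k, Subtype.ext hk.symm⟩

/-- The order of the quotient by the centre. -/
theorem exists_count : ∃ n : ℕ, n % p = 1 ∧ Nat.card (G ⧸ Subgroup.center G) = n * (p * e) := by
  obtain ⟨P, hP⟩ := DegPMinusTwo.exists_sylow_zpowers h.hS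
  refine ⟨Nat.card (Sylow p G), ?_, ?_⟩
  · have := card_sylow_modEq_one p G
    exact Eq.trans this (Nat.mod_eq_of_lt (Fact.out : p.Prime).one_lt)
  · have h1 := Subgroup.card_eq_card_quotient_mul_card_subgroup (Subgroup.center G)
    have h2 : Nat.card (Sylow p G) = (Subgroup.normalizer (Subgroup.zpowers x : Set G)).index := by
      rw [Sylow.card_eq_index_normalizer P, ← hP]
      rfl
    have h3 := Subgroup.index_mul_card (Subgroup.normalizer (Subgroup.zpowers x : Set G))
    rw [← h2, h.hS.card_normalizer, card_L h, ← card_center D] at h3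
    refine Nat.eq_of_mul_eq_mul_right (Nat.card_pos (α := Subgroup.center G)) ?_
    rw [← h1, ← h3]
    ring

theorem dvd_quot : p ∣ Nat.card (G ⧸ Subgroup.center G) ∧ ¬ p ^ 2 ∣ Nat.card (G ⧸ Subgroup.center G) := by
  obtain ⟨n, -, hn⟩ := exists_count D
  refine ⟨hn ▸ ⟨n * e, by ring⟩, fun hd => h.hS.hsq (hd.trans ?_)⟩
  exact ⟨_, Subgroup.card_eq_card_quotient_mul_card_subgroup (Subgroup.center G)⟩

/-- The quotient by the centre is simple. -/
theorem simple_quot : IsSimpleGroup (G ⧸ Subgroup.center G) ∧ ¬ IsMulCommutative (G ⧸ Subgroup.center G) := by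
  set Z := Subgroup.center G
  obtain ⟨c0, hfaith⟩ := D.faith
  haveI : Nontrivial (G ⧸ Z) := QuotientGroup.nontrivial_iff.mpr fun htop =>
    x_not_central h (htop.symm ▸ Subgroup.mem_top x : x ∈ Z)
  refine ⟨⟨fun N hN => ?_⟩, fun hc => ?_⟩
  · haveI := hN
    set N' := N.comap (QuotientGroup.mk' Z)
    haveI hN' : N'.Normal := inferInstance
    by_cases hp : p ∣ Nat.card N'
    · right
      obtain ⟨a, ha⟩ := exists_prime_orderOf_dvd_card' p hp
      have ha' : orderOf (a : G) = p := by rw [Subgroup.orderOf_coe, ha]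
      obtain ⟨c, hc⟩ := HalfDegree.exists_conj_mem h.hS ha'
      have h1 : Subgroup.zpowers (c * (a : G) * c⁻¹) = Subgroup.zpowers x := Subgroup.eq_of_le_of_card_ge
        (Subgroup.zpowers_le.mpr hc) (by rw [Nat.card_zpowers, Nat.card_zpowers, SecondMain.orderOf_conj, ha', h.hS.hx])
      have hxN : x ∈ N' := (Subgroup.zpowers_le.mpr (hN'.conj_mem _ a.2 c)) (h1 ▸ Subgroup.mem_zpowers x)
      have hNtop : N' = ⊤ := by
        rw [eq_top_iff, ← D.gen, Subgroup.closure_le]
        intro g hg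
        obtain ⟨c', hc'⟩ := HalfDegree.exists_conj_mem h.hS hg
        have := hN'.conj_mem' _ (Subgroup.zpowers_le.mpr hxN hc') c'
        rwa [show c'⁻¹ * (c' * g * c'⁻¹) * c' = g by group] at this
      refine top_le_iff.mp fun q _ => ?_
      obtain ⟨g, rfl⟩ := QuotientGroup.mk'_surjective Z q
      exact (hNtop.symm ▸ Subgroup.mem_top g : g ∈ N')
    · left
      refine (Subgroup.eq_bot_iff_forall _).mpr fun q hq => ?_
      obtain ⟨g, rfl⟩ := QuotientGroup.mk'_surjective Z q
      refine (QuotientGroup.eq_one_iff g).mpr ?_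
      have hle : Subgroup.closure {a : G | orderOf a = p} ≤ Subgroup.centralizer ({g} : Set G) :=
        (Subgroup.closure_le _).mpr fun a ha => Subgroup.mem_centralizer_singleton_iff.mpr
          (HalfDegree.centralizes_of_coprime (Char.IsIrrCharacter.isCharacter (A.exc c0).2) hfaith (deg_exc_two D c0)
            (by have := two_mul_e D; have := h.he2; omega) N' hp ha hq)
      rw [D.gen] at hle
      exact Subgroup.mem_center_iff.mpr fun a => Subgroup.mem_centralizer_singleton_iff.mp (hle (Subgroup.mem_top a))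
  · have hbot : commutator (G ⧸ Z) = ⊥ := by
      rw [commutator_def, Subgroup.commutator_eq_bot_iff_le_centralizer]
      exact fun a _ => Subgroup.mem_centralizer_iff.mpr fun b _ => hc.is_comm.comm b a
    have htop : commutator (G ⧸ Z) = ⊤ := by
      rw [commutator_def, ← Subgroup.map_top_of_surjective (QuotientGroup.mk' Z) (QuotientGroup.mk'_surjective _),
        ← Subgroup.map_commutator, ← commutator_def, h.hperf]
    exact bot_ne_top (hbot.symm.trans htop)

theorem regular_lift {g : G} (hg : ¬ p ∣ orderOf (QuotientGroup.mk' (Subgroup.center G) g)) : ¬ p ∣ orderOf g := by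
  set m := orderOf (QuotientGroup.mk' (Subgroup.center G) g)
  intro hd
  have hz : g ^ m ∈ Subgroup.center G := (QuotientGroup.eq_one_iff _).mp (by
    show QuotientGroup.mk' (Subgroup.center G) (g ^ m) = 1
    rw [map_pow, pow_orderOf_eq_one])
  have h1 : g ^ (m * (e + 1)) = 1 := by rw [pow_mul]; exact center_pow D hz
  rcases (Fact.out : p.Prime).dvd_mul.mp (hd.trans (orderOf_dvd_of_pow_eq_one h1)) with h2 | h2
  · exact hg h2
  · have := Nat.le_of_dvd (by omega) h2
    have := two_mul_e D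
    have := h.he2
    omega

/-- The norm is invariant under the Galois group. -/
theorem norm_pow (he : e + 1 = 3 ∨ e + 1 = 4) {g : G} (hg : ¬ p ∣ orderOf g) {k : ℕ}
    (hk : k.Coprime (Nat.card G)) :
    (A.exc 1 : G → ℂ) (g ^ k) * conj ((A.exc 1 : G → ℂ) (g ^ k)) =
      (A.exc 1 : G → ℂ) g * conj ((A.exc 1 : G → ℂ) g) := by
  by_cases hK : ∀ z : K x L, z ^ k = z
  · rw [← (exists_pow_fam h A A hk (fun z => by rw [← map_pow, hK z])).2.2 1 g hg]
  have hinv : ∀ z : K x L, z ^ k = z⁻¹ := by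
    push Not at hK
    obtain ⟨w, hw⟩ := hK
    have hpow : ∀ z : K x L, z ^ (e + 1) = 1 := fun z => Subtype.ext (Subtype.ext (by
      simpa using center_pow D (h.hK z)))
    have hw1 : w ≠ 1 := fun e' => hw (by rw [e', one_pow])
    have hcopw : Nat.Coprime (orderOf w) k := (hk.coprime_dvd_right
      ((orderOf_dvd_natCard w).trans (card_K_dvd h))).symm
    have hd1 := orderOf_dvd_of_pow_eq_one (hpow w)
    rcases he with he' | he' <;> rw [he'] at hpow hd1
    · have h3 : ¬ 3 ∣ k := fun hd => hw1 (orderOf_eq_one_iff.mp (Nat.eq_one_of_dvd_coprimes hcopw dvd_rfl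
        (hd1.trans hd)))
      intro z
      rcases Nat.lt_or_ge (k % 3) 2 with h4 | h4
      · exfalso
        refine hw ?_
        rw [pow_eq_pow_mod k (hpow w), show k % 3 = 1 by omega, pow_one]
      · rw [pow_eq_pow_mod k (hpow z), show k % 3 = 2 by omega]
        exact eq_inv_of_mul_eq_one_left (by rw [← pow_succ, hpow z])
    · have h2 : ¬ 2 ∣ k := by
        intro hd
        obtain ⟨i, -, h1⟩ := (Nat.dvd_prime_pow Nat.prime_two).mp (show orderOf w ∣ 2 ^ 2 from hd1)
        rcases Nat.eq_zero_or_pos i with hi0 | hi0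
        · exact hw1 (orderOf_eq_one_iff.mp (by rw [h1, hi0, pow_zero]))
        · have := Nat.eq_one_of_dvd_coprimes hcopw (h1 ▸ dvd_pow_self 2 hi0.ne') hd
          omega
      intro z
      rcases Nat.lt_or_ge (k % 4) 3 with h4 | h4
      · exfalso
        refine hw ?_
        rw [pow_eq_pow_mod k (hpow w), show k % 4 = 1 by omega, pow_one]
      · rw [pow_eq_pow_mod k (hpow z), show k % 4 = 3 by omega]
        exact eq_inv_of_mul_eq_one_left (by rw [← pow_succ, hpow z])
  have hconj : ∀ z : K x L, (starRingEnd ℂ).toMonoidHom.comp μ z = μ z ^ k := fun z => by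
    rw [← map_pow, hinv z]
    show conj (μ z) = μ z⁻¹
    have h1 := norm_hom h μ z
    have h2 : μ z⁻¹ * μ z = 1 := by rw [← map_mul, inv_mul_cancel, map_one]
    calc conj (μ z) = (μ z⁻¹ * μ z) * conj (μ z) := by rw [h2, one_mul]
      _ = μ z⁻¹ := by rw [mul_assoc, h1, mul_one]
  have h3 := (exists_pow_fam h A (conjFam h A) hk hconj).2.2 1 g hg
  have h4 : ((conjFam h A).exc 1 : G → ℂ) g = conj ((A.exc 1 : G → ℂ) g) := by
    show conj ((A.exc _ : G → ℂ) g) = _
    rw [A.reg _ 1 g hg]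
  rw [h4] at h3
  rw [← h3, Complex.conj_conj, mul_comm]

/-- The norm as a character of the quotient. -/
theorem exists_normF (he : e + 1 = 3 ∨ e + 1 = 4) :
    ∃ F : (G ⧸ Subgroup.center G) → ℂ, IsCharacter (G ⧸ Subgroup.center G) F ∧
      (∀ g : G, ¬ p ∣ orderOf g →
        F (QuotientGroup.mk' _ g) = (A.exc 1 : G → ℂ) g * conj ((A.exc 1 : G → ℂ) g)) ∧
      (∀ g : G, F (QuotientGroup.mk' _ g) = (A.exc 1 : G → ℂ) g * conj ((A.exc 1 : G → ℂ) g)) ∧
      ∀ q, ¬ p ∣ orderOf q → ∃ n : ℕ, F q = n ∧ n ≤ (e + 1) * (e + 1) ∧ (n = (e + 1) * (e + 1) → q = 1) := by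
  set Z := Subgroup.center G
  set χ := A.exc 1
  have hχc : IsCharacter G (χ : G → ℂ) := Char.IsIrrCharacter.isCharacter χ.2
  have hχ1 : (χ : G → ℂ) 1 = ((e + 1 : ℕ) : ℂ) := by rw [← deg_exc_two D 1, Agent.Blocks.charDegree_cast]
  obtain ⟨F, hF, hFv⟩ := HalfDegree.exists_descend (QuotientGroup.mk' Z) (QuotientGroup.mk'_surjective _)
    (F := fun g => (χ : G → ℂ) g * conj ((χ : G → ℂ) g)) (Char.IsCharacter.mul hχc (Char.IsCharacter.conj hχc))
    (fun z hz => by
      obtain ⟨w, hw, hw1⟩ := HalfDegree.exists_central χ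
      have hzZ : z ∈ Z := (QuotientGroup.eq_one_iff z).mp hz
      have h1 := hw ⟨z, hzZ⟩ 1
      rw [mul_one] at h1
      show (χ : G → ℂ) z * conj ((χ : G → ℂ) z) = (χ : G → ℂ) 1 * conj ((χ : G → ℂ) 1)
      rw [show (χ : G → ℂ) z = w ⟨z, hzZ⟩ * (χ : G → ℂ) 1 from h1, map_mul]
      linear_combination ((χ : G → ℂ) 1 * conj ((χ : G → ℂ) 1)) * hw1 ⟨z, hzZ⟩)
  refine ⟨F, hF, fun g _ => hFv g, hFv, fun q hq => ?_⟩
  obtain ⟨g, rfl⟩ := QuotientGroup.mk'_surjective Z q
  have hg := regular_lift D hq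
  obtain ⟨a, ha⟩ := BSW.exists_int_of_invariant
    (GaloisAvg.cycloValued_character (Char.IsCharacter.mul hχc (Char.IsCharacter.conj hχc))) g
    (fun k hk => norm_pow D he hg hk)
  have hb := Char.IsCharacter.norm_le hχc g
  rw [hχ1, Complex.natCast_re] at hb
  have ha' : (a : ℝ) = ‖(χ : G → ℂ) g‖ ^ 2 := by
    have h1 := congrArg Complex.re (show (χ : G → ℂ) g * conj ((χ : G → ℂ) g) = (a : ℂ) from ha)
    rw [Complex.mul_conj'] at h1
    norm_cast at h1
    exact h1.symm
  have ha0 : 0 ≤ a := by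
    have : (0 : ℝ) ≤ (a : ℝ) := ha' ▸ sq_nonneg _
    exact_mod_cast this
  lift a to ℕ using ha0
  push_cast at ha'
  refine ⟨a, ?_, ?_, fun hmax => ?_⟩
  · rw [hFv]
    simpa using ha
  · have h2 : (a : ℝ) ≤ ((((e + 1) * (e + 1) : ℕ)) : ℝ) := by
      rw [ha', Nat.cast_mul, sq]
      exact mul_le_mul hb hb (norm_nonneg _) (Nat.cast_nonneg _)
    exact_mod_cast h2
  · obtain ⟨c0, hfaith⟩ := D.faith
    refine (QuotientGroup.eq_one_iff g).mpr (HalfDegree.mem_center_of_norm_eq (A.exc c0) hfaith ?_)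
    rw [A.reg c0 1 g hg, deg_exc_two D c0]
    rw [hmax, Nat.cast_mul] at ha'
    nlinarith [norm_nonneg ((χ : G → ℂ) g)]

/-- The values at elements of prime power order prime to the centre. -/
theorem int_value {q : ℕ} (hq : q.Prime) (hqp : q ≠ p) (hqK : ¬ q ∣ Nat.card (Subgroup.center G)) {g : G}
    (hg : ∃ k, g ^ q ^ k = 1) : ∃ w : ℤ, (A.exc 1 : G → ℂ) g = w ∧ (q : ℤ) ∣ w - (e + 1 : ℕ) ∧
      -((e + 1 : ℕ) : ℤ) ≤ w ∧ w ≤ (e + 1 : ℕ) ∧ (w = (e + 1 : ℕ) → g = 1) ∧
      (w = -((e + 1 : ℕ) : ℤ) → g ∈ Subgroup.center G) := by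
  have hint : ∀ g : G, (∃ k, g ^ q ^ k = 1) → ∃ w : ℤ, (A.exc 1 : G → ℂ) g = w := by
    rintro g ⟨j, hj⟩
    obtain ⟨i, -, hi⟩ := (Nat.dvd_prime_pow hq).mp (orderOf_dvd_of_pow_eq_one hj)
    have hreg : ¬ p ∣ orderOf g := fun hd => by
      rw [hi] at hd
      exact hqp ((Nat.prime_dvd_prime_iff_eq Fact.out hq).mp ((Fact.out : p.Prime).dvd_of_dvd_pow hd)).symm
    refine BSW.exists_int_of_invariant (GaloisAvg.cycloValued_irr (A.exc 1)) g fun k hk => ?_
    have hcop : (q ^ i).Coprime (Nat.card (K x L)) :=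
      ((hq.coprime_iff_not_dvd.mpr (card_center D ▸ hqK))).pow_left i
    obtain ⟨s, hs1, hs2⟩ := Nat.chineseRemainder hcop k 1
    obtain ⟨k', hk', hmod⟩ := exists_coprime_modEq h
      (hcop.mul_dvd_of_dvd_of_dvd (hi ▸ orderOf_dvd_natCard g) (card_K_dvd h)) (r := s) (by
        refine Nat.Coprime.mul_right ?_ ?_
        · have hkq : k.Coprime (q ^ i) := hk.coprime_dvd_right (hi ▸ orderOf_dvd_natCard g)
          show Nat.gcd s _ = 1
          rw [hs1.gcd_eq]; exact hkq
        · show Nat.gcd s _ = 1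
          rw [hs2.gcd_eq, Nat.gcd_one_left])
    have h1 : g ^ k' = g ^ k := pow_eq_pow_iff_modEq.mpr (hi ▸ ((Nat.ModEq.of_mul_right _ hmod).trans hs1))
    have h2 : ∀ z : K x L, z ^ k' = z := fun z => by
      conv_rhs => rw [← pow_one z]
      exact pow_eq_pow_iff_modEq.mpr (((Nat.ModEq.of_mul_left _ hmod).trans hs2).of_dvd (orderOf_dvd_natCard z))
    rw [← h1]
    exact ((exists_pow_fam h A A hk' (fun z => by rw [← map_pow, h2 z])).2.2 1 g hreg).symm
  obtain ⟨w, hw⟩ := hint g hg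
  have hχc : IsCharacter G (A.exc 1 : G → ℂ) := Char.IsIrrCharacter.isCharacter (A.exc 1).2
  have h1 : (A.exc 1 : G → ℂ) 1 = ((((e + 1 : ℕ) : ℤ)) : ℂ) := by
    rw [Int.cast_natCast, ← deg_exc_two D 1, Agent.Blocks.charDegree_cast]
  obtain ⟨j, hj⟩ := hg
  have hb := Char.IsCharacter.norm_le hχc g
  rw [hw, h1, Complex.norm_intCast, Complex.intCast_re] at hb
  have hb' : |w| ≤ ((e + 1 : ℕ) : ℤ) := by exact_mod_cast hb
  have hreg : ¬ p ∣ orderOf g := fun hd => by
    exact hqp ((Nat.prime_dvd_prime_iff_eq Fact.out hq).mp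
      ((Fact.out : p.Prime).dvd_of_dvd_pow (hd.trans (orderOf_dvd_of_pow_eq_one hj)))).symm
  refine ⟨w, hw, HalfDegree.int_congr_one hq hχc hint h1 j g hj w hw, (abs_le.mp hb').1, (abs_le.mp hb').2,
    fun hmax => faith_one D g hreg (by rw [hw, h1, hmax]), fun hmin => ?_⟩
  obtain ⟨c0, hfaith⟩ := D.faith
  refine HalfDegree.mem_center_of_norm_eq (A.exc c0) hfaith ?_
  rw [A.reg c0 1 g hreg, hw, hmin, deg_exc_two D c0, Int.cast_neg, Int.cast_natCast, norm_neg, Complex.norm_natCast]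

/-- A prime above twice the degree does not divide the order. -/
theorem no_large_prime {q : ℕ} (hq : q.Prime) (hqp : q ≠ p) (hlarge : 2 * (e + 1) < q) :
    ¬ q ∣ Nat.card G := by
  intro hd
  haveI := Fact.mk hq
  have hqK : ¬ q ∣ Nat.card (Subgroup.center G) := fun hd' => by
    have := Nat.le_of_dvd (by omega) (prime_dvd_center D hq hd')
    omega
  obtain ⟨g, hg⟩ := exists_prime_orderOf_dvd_card' q hd
  obtain ⟨w, -, hcong, hlo, hhi, hmax, -⟩ := int_value D hq hqp hqK
    (g := g) ⟨1, by rw [pow_one, ← hg, pow_orderOf_eq_one]⟩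
  obtain ⟨j, hj⟩ := hcong
  have hne : g ≠ 1 := fun e' => hq.ne_one (by rw [← hg, e', orderOf_one])
  have hlt : w < ((e + 1 : ℕ) : ℤ) := lt_of_le_of_ne hhi fun e' => hne (hmax e')
  have hj0 : j ≤ -1 := by
    by_contra hcon
    have : (0 : ℤ) ≤ (q : ℤ) * j := mul_nonneg (by positivity) (by omega)
    omega
  have : (q : ℤ) * j ≤ -(q : ℤ) := by
    have h0 : (0 : ℤ) ≤ (q : ℤ) := by positivity
    nlinarith
  have : (2 * ((e + 1 : ℕ) : ℤ)) < (q : ℤ) := by exact_mod_cast hlarge
  omega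

end Cfsg.Agent.FeitBound
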