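/-
The prime five and degree three (namespace `Cfsg.Agent.FeitBound`).

Main results: `subgroup_bound`, `norm_bound`, `dvd_of_prime_pows`, `five_three`.
-/
import Cfsg.Agent.Lib.FeitBound.SmallPrime
import Cfsg.Agent.Lib.DegThreeP.Two
import Cfsg.Agent.Lib.SmallOrders.Order360.Coords
import Cfsg.Agent.S0494
import Cfsg.Agent.Lib.GLOrder.Basic

set_option autoImplicit false
set_option linter.unusedSectionVars false
set_option linter.style.haveILetI false

open scoped ComplexConjugate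

namespace Cfsg.Agent.FeitBound

open Cfsg Cfsg.Agent.Blocks Cfsg.Agent.CyclicDefect Cfsg.Agent.FeitSmall

theorem dvd_of_prime_pows {N M : ℕ} (hN : N ≠ 0) (hM : M ≠ 0)
    (h : ∀ q : ℕ, q.Prime → ¬ q ^ (M.factorization q + 1) ∣ N) : N ∣ M := by
  rw [← Nat.factorization_le_iff_dvd hN hM]
  intro q
  by_cases hq : q.Prime
  · by_contra hlt
    exact h q hq ((pow_dvd_pow q (show M.factorization q + 1 ≤ N.factorization q by omega)).trans (Nat.ordProj_dvd N q))
  · simp [Nat.factorization_eq_zero_of_not_prime N hq]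

variable {G : Type*} [Group G] [Fintype G] {p : ℕ} [Fact p.Prime] {x : G} {L : Subgroup G} {e : ℕ}
variable {h : CCore p x L e 2} {μ : K x L →* ℂ} {A : Fam h μ} (D : Two h A)
include D

/-- A power of a prime prime to the centre, by the values of the character. -/
theorem subgroup_bound {q n : ℕ} (hq : q.Prime) (hqp : q ≠ p) (hqK : ¬ q ∣ Nat.card (Subgroup.center G))
    (S : Finset ℤ)
    (hS : ∀ w : ℤ, (q : ℤ) ∣ w - (e + 1 : ℕ) → -((e + 1 : ℕ) : ℤ) < w → w < (e + 1 : ℕ) → w ∈ S)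
    (hd : q ^ n ∣ Nat.card (G ⧸ Subgroup.center G)) :
    ((q ^ n : ℕ) : ℤ) ∣ ∏ v ∈ S, (((e + 1 : ℕ) : ℤ) - v) := by
  haveI := Fact.mk hq
  obtain ⟨P, hP⟩ := Sylow.exists_subgroup_card_pow_prime q
    (hd.trans ⟨_, Subgroup.card_eq_card_quotient_mul_card_subgroup (Subgroup.center G)⟩)
  haveI := Fintype.ofFinite P
  have hpel : ∀ g : P, ∃ k, (g : G) ^ q ^ k = 1 := fun g => by
    obtain ⟨k, hk⟩ := (IsPGroup.of_card hP) g
    exact ⟨k, congrArg Subtype.val hk⟩
  have hval : ∀ g : P, (g : P) = 1 ∨ ∃ v ∈ S, (A.exc 1 : G → ℂ) (g : G) = (v : ℂ) := by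
    intro g
    obtain ⟨w, hw, hcong, hlo, hhi, hmax, hmin⟩ := int_value D hq hqp hqK (hpel g)
    by_cases hg : g = 1
    · exact Or.inl hg
    refine Or.inr ⟨w, hS w hcong (lt_of_le_of_ne hlo fun e' => hg (Subtype.ext ?_))
      (lt_of_le_of_ne hhi fun e' => hg (Subtype.ext (hmax e'))), hw⟩
    -- a central element of order prime to that of the centre
    obtain ⟨k, hk⟩ := hpel g
    have h1 := orderOf_dvd_natCard (⟨(g : G), hmin e'.symm⟩ : Subgroup.center G)
    rw [Subgroup.orderOf_mk] at h1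
    exact orderOf_eq_one_iff.mp (Nat.eq_one_of_dvd_coprimes
      ((hq.coprime_iff_not_dvd.mpr hqK).pow_left k) (orderOf_dvd_of_pow_eq_one hk) h1)
  have h1 : (A.exc 1 : G → ℂ) 1 = (((e + 1 : ℕ) : ℤ) : ℂ) := by
    rw [Int.cast_natCast, ← deg_exc_two D 1, Agent.Blocks.charDegree_cast]
  have hdvd := dvd_of_values (f := fun g : P => (A.exc 1 : G → ℂ) (g : G))
    (Char.IsCharacter.comp_hom (Char.IsIrrCharacter.isCharacter (A.exc 1).2) P.subtype) (d := ((e + 1 : ℕ) : ℤ)) S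
    (fun g => (hval g).imp (fun e' => by rw [e']; exact h1) id)
  have hone : Nat.card {g : P // (A.exc 1 : G → ℂ) (g : G) = (((e + 1 : ℕ) : ℤ) : ℂ)} = 1 := by
    refine Nat.card_eq_one_iff_unique.mpr ⟨⟨fun a b => Subtype.ext ?_⟩, ⟨⟨1, h1⟩⟩⟩
    have hz : ∀ c : {g : P // (A.exc 1 : G → ℂ) (g : G) = (((e + 1 : ℕ) : ℤ) : ℂ)}, c.1 = 1 := fun c => by
      obtain ⟨w, hw, -, -, -, hmax, -⟩ := int_value D hq hqp hqK (hpel c.1)
      exact Subtype.ext (hmax (Int.cast_injective (α := ℂ) (hw.symm.trans c.2)))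
    rw [hz a, hz b]
  rw [hone, hP, Nat.cast_one, one_mul] at hdvd
  exact hdvd

/-- A power of a prime in the quotient, by the norms. -/
theorem norm_bound {q n : ℕ} (hq : q.Prime) (hqp : q ≠ p) (he : e + 1 = 3 ∨ e + 1 = 4) (S : Finset ℤ)
    (hS : ∀ (F : (G ⧸ Subgroup.center G) → ℂ) (z : G ⧸ Subgroup.center G) (w : ℕ), (∀ g : G,
        F (QuotientGroup.mk' _ g) = (A.exc 1 : G → ℂ) g * conj ((A.exc 1 : G → ℂ) g)) → (∃ k, z ^ q ^ k = 1) →
      z ≠ 1 → F z = w → (q : ℤ) ∣ (w : ℤ) - ((e + 1) * (e + 1) : ℕ) → w < (e + 1) * (e + 1) → (w : ℤ) ∈ S)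
    (hd : q ^ n ∣ Nat.card (G ⧸ Subgroup.center G)) :
    ((q ^ n : ℕ) : ℤ) ∣ ∏ v ∈ S, ((((e + 1) * (e + 1) : ℕ) : ℤ) - v) := by
  haveI := Fact.mk hq
  obtain ⟨F, hF, -, hFv, hFn⟩ := exists_normF D he
  obtain ⟨P, hP⟩ := Sylow.exists_subgroup_card_pow_prime q hd
  haveI := Fintype.ofFinite P
  have hpel : ∀ g : P, ∃ k, (g : G ⧸ Subgroup.center G) ^ q ^ k = 1 := fun g => by
    obtain ⟨k, hk⟩ := (IsPGroup.of_card hP) g
    exact ⟨k, congrArg Subtype.val hk⟩
  have hreg : ∀ z : G ⧸ Subgroup.center G, (∃ k, z ^ q ^ k = 1) → ¬ p ∣ orderOf z := fun z ⟨k, hk⟩ hd' =>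
    hqp ((Nat.prime_dvd_prime_iff_eq Fact.out hq).mp
      ((Fact.out : p.Prime).dvd_of_dvd_pow (hd'.trans (orderOf_dvd_of_pow_eq_one hk)))).symm
  have h1 : F 1 = ((((e + 1) * (e + 1) : ℕ) : ℤ) : ℂ) := by
    rw [← map_one (QuotientGroup.mk' (Subgroup.center G)), hFv, ← Agent.Blocks.charDegree_cast (A.exc 1), deg_exc_two D 1,
      Complex.conj_natCast]
    push_cast; ring
  have hint : ∀ z : P, (∃ k, z ^ q ^ k = 1) → ∃ w : ℤ, F (z : G ⧸ Subgroup.center G) = w := fun z _ => by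
    obtain ⟨w, hw, -⟩ := hFn _ (hreg _ (hpel z))
    exact ⟨w, by rw [hw]; simp⟩
  have hFP : IsCharacter P fun g : P => F (g : G ⧸ Subgroup.center G) := Char.IsCharacter.comp_hom hF P.subtype
  have hval : ∀ g : P, g = 1 ∨ ∃ v ∈ S, F (g : G ⧸ Subgroup.center G) = (v : ℂ) := by
    intro g
    by_cases hg : g = 1
    · exact Or.inl hg
    obtain ⟨w, hw, hle, hmax⟩ := hFn _ (hreg _ (hpel g))
    obtain ⟨k, hk⟩ := (IsPGroup.of_card hP) g
    have hcong := HalfDegree.int_congr_one hq hFP hint (d := (((e + 1) * (e + 1) : ℕ) : ℤ)) h1 k g hk (w : ℤ)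
      (by rw [hw]; simp)
    refine Or.inr ⟨(w : ℤ), hS F _ w hFv (hpel g) (fun e' => hg (Subtype.ext e')) hw hcong
      (lt_of_le_of_ne hle fun e' => hg (Subtype.ext (hmax e'))), by rw [hw]; simp⟩
  have hdvd := dvd_of_values hFP (d := (((e + 1) * (e + 1) : ℕ) : ℤ)) S
    (fun g => (hval g).imp (fun e' => by rw [e']; exact h1) id)
  have hone : Nat.card {g : P // F (g : G ⧸ Subgroup.center G) = ((((e + 1) * (e + 1) : ℕ) : ℤ) : ℂ)} = 1 := by
    refine Nat.card_eq_one_iff_unique.mpr ⟨⟨fun a b => Subtype.ext ?_⟩, ⟨⟨1, h1⟩⟩⟩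
    have hz : ∀ c : {g : P // F (g : G ⧸ Subgroup.center G) = ((((e + 1) * (e + 1) : ℕ) : ℤ) : ℂ)}, c.1 = 1 := fun c => by
      obtain ⟨w, hw, -, hmax⟩ := hFn _ (hreg _ (hpel c.1))
      have h2 := hw.symm.trans c.2
      rw [Int.cast_natCast, Nat.cast_inj] at h2
      exact Subtype.ext (hmax h2)
    rw [hz a, hz b]
  rw [hone, hP, Nat.cast_one, one_mul] at hdvd
  exact hdvd

/-- The prime five. -/
theorem five_three (hp : p = 5) (he : e = 2) :
    Nonempty ((G ⧸ Subgroup.center G) ≃* Matrix.ProjectiveSpecialLinearGroup (Fin 2) (ZMod 5)) ∨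
      Nonempty ((G ⧸ Subgroup.center G) ≃* alternatingGroup (Fin 6)) := by
  subst hp he
  set Q := G ⧸ Subgroup.center G
  obtain ⟨hsimple, hnc⟩ := simple_quot D
  haveI : IsSimpleGroup Q := hsimple
  have hcard : Nat.card Q ∣ 3240 := by
    refine dvd_of_prime_pows Nat.card_pos.ne' (by norm_num) fun q hq hd => ?_
    have hfac : ∀ r k : ℕ, r.Prime → r ^ k ∣ 3240 → k ≤ (3240 : ℕ).factorization r := fun r k hr hk =>
      (Nat.Prime.pow_dvd_iff_le_factorization hr (by norm_num)).mp hk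
    have hdG : q ∣ Nat.card G := ((dvd_pow_self q (by omega)).trans hd).trans
      ⟨_, Subgroup.card_eq_card_quotient_mul_card_subgroup (Subgroup.center G)⟩
    have hle : q ≤ 6 := by
      by_contra hlt
      exact no_large_prime D hq (by omega) (by omega) hdG
    have := hq.two_le
    interval_cases q
    · -- the two-part
      have h3 := hfac 2 3 hq (by norm_num)
      have h4 := subgroup_bound D (n := 4) hq (by norm_num)
        (fun hd' => absurd (prime_dvd_center D hq hd') (by norm_num)) {-1, 1}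
        (fun w hc h1 h2 => by simp only [Finset.mem_insert, Finset.mem_singleton]; push_cast at hc h1 h2; omega)
        ((pow_dvd_pow 2 (by omega)).trans hd)
      norm_num at h4
    · -- the three-part
      have h3 := hfac 3 4 hq (by norm_num)
      have h4 := norm_bound D (n := 5) hq (by norm_num) (Or.inl rfl) {0, 3, 6}
        (fun F z w _ _ _ _ hc hlt => by
          simp only [Finset.mem_insert, Finset.mem_singleton]; push_cast at hc; omega)
        ((pow_dvd_pow 3 (by omega)).trans hd)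
      norm_num at h4
    · exact absurd hq (by norm_num)
    · have h3 := hfac 5 1 hq (by norm_num)
      exact (dvd_quot D).2 ((pow_dvd_pow 5 (by omega)).trans hd)
    · exact absurd hq (by norm_num)
  obtain ⟨n, hn1, hn⟩ := exists_count D
  have hn324 : n ∣ 324 := by
    refine Nat.dvd_of_mul_dvd_mul_right (show 0 < 5 * 2 by norm_num) ?_
    rw [← hn]
    exact hcard
  have hcases : ∀ m : Fin 325, (m : ℕ) ∣ 324 → (m : ℕ) % 5 = 1 →
      (m : ℕ) = 1 ∨ (m : ℕ) = 6 ∨ (m : ℕ) = 36 ∨ (m : ℕ) = 81 := by decide +kernel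
  have hn4 : 4 ∣ Nat.card Q := DegThreeP.four_dvd_card hnc (hn ▸ ⟨n * 5, by ring⟩)
  rcases hcases ⟨n, Nat.lt_succ_of_le (Nat.le_of_dvd (by norm_num) hn324)⟩ hn324 hn1 with e' | e' | e' | e' <;>
    simp only at e' <;> subst e'
  · exact absurd (hn ▸ hn4) (by norm_num)
  · left
    have h60 : Nat.card Q = 60 := by rw [hn]
    have : Fact (Nat.Prime 5) := ⟨Nat.prime_five⟩
    have h5 : Nat.card (ZMod 5) = 5 := Nat.card_zmod 5
    have hpsl : Nat.card (Matrix.ProjectiveSpecialLinearGroup (Fin 2) (ZMod 5)) = 60 := by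
      have := GLOrder.card_PSL_two_of_odd (F := ZMod 5) (by rw [h5]; decide)
      rw [h5] at this
      omega
    have : IsSimpleGroup (Matrix.ProjectiveSpecialLinearGroup (Fin 2) (ZMod 5)) :=
      Matrix.ProjectiveSpecialLinearGroup.rank_two_simple (by omega)
    obtain ⟨e1⟩ := Cfsg.Agent.S0494.result h60
    obtain ⟨e2⟩ := Cfsg.Agent.S0494.result hpsl
    exact ⟨e1.trans e2.symm⟩
  · exact Or.inr (SmallOrders.S360.mulEquiv (by rw [hn]))
  · exact absurd (hn ▸ hn4) (by norm_num)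

end Cfsg.Agent.FeitBound
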