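/-
The prime seven and degree four: local facts (namespace `Cfsg.Agent.FeitBound`).

Main results: `commute_of_mk`, `exists_lift`, `regular_commute`, `two_elt_le`, `five_value`, `five_central`,
`card_centralizer_five`.
-/
import Cfsg.Agent.Lib.FeitBound.SmallPrime

set_option autoImplicit false
set_option linter.unusedSectionVars false
set_option linter.style.haveILetI false

open scoped ComplexConjugate

namespace Cfsg.Agent.FeitBound

open Module Cfsg Cfsg.Agent.Blocks Cfsg.Agent.CyclicDefect Cfsg.Agent.FeitSmall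

variable {G : Type*} [Group G] [Fintype G] {p : ℕ} [Fact p.Prime] {x : G} {L : Subgroup G} {e : ℕ}
variable {h : CCore p x L e 2} {μ : K x L →* ℂ} {A : Fam h μ} (D : Two h A)
include D

theorem commute_of_mk {u a : G} (ha : (orderOf a).Coprime (e + 1))
    (hc : Commute (QuotientGroup.mk' (Subgroup.center G) u) (QuotientGroup.mk' (Subgroup.center G) a)) :
    Commute u a := by
  set z := u * a * u⁻¹ * a⁻¹ with hzdef
  have hz : z ∈ Subgroup.center G := (QuotientGroup.eq_one_iff z).mp (by
    show QuotientGroup.mk' (Subgroup.center G) z = 1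
    rw [hzdef, map_mul, map_mul, map_mul, map_inv, map_inv, hc.eq, mul_inv_cancel_right, mul_inv_cancel])
  have h1 : z ^ orderOf a = 1 := by
    have hcz : Commute z a := (Subgroup.mem_center_iff.mp hz a).symm
    have h2 := hcz.mul_pow (orderOf a)
    rw [show z * a = u * a * u⁻¹ by rw [hzdef]; group, conj_pow, pow_orderOf_eq_one, mul_one, mul_one,
      mul_inv_cancel] at h2
    exact h2.symm
  have h3 := pow_gcd_eq_one.mpr ⟨h1, center_pow D hz⟩
  rw [ha.gcd_eq_one, pow_one] at h3
  show u * a = a * u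
  calc u * a = z * (a * u) := by rw [hzdef]; group
    _ = a * u := by rw [h3, one_mul]

/-- An element of prime order prime to the degree comes from one of the same order. -/
theorem exists_lift {v : G ⧸ Subgroup.center G} {q : ℕ} (hq : q.Prime) (hqe : ¬ q ∣ e + 1) (hv : orderOf v = q) :
    ∃ a : G, orderOf a = q ∧ QuotientGroup.mk' (Subgroup.center G) a = v ^ (e + 1) ∧
      QuotientGroup.mk' (Subgroup.center G) a ≠ 1 := by
  haveI := Fact.mk hq
  obtain ⟨g, rfl⟩ := QuotientGroup.mk'_surjective _ v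
  have hne : (QuotientGroup.mk' (Subgroup.center G) g) ^ (e + 1) ≠ 1 := fun e' =>
    hqe (hv ▸ orderOf_dvd_of_pow_eq_one e')
  refine ⟨g ^ (e + 1), orderOf_eq_prime ?_ ?_, map_pow _ _ _, by rwa [map_pow]⟩
  · rw [← pow_mul, mul_comm, pow_mul]
    refine center_pow D ((QuotientGroup.eq_one_iff _).mp ?_)
    show QuotientGroup.mk' (Subgroup.center G) (g ^ q) = 1
    rw [map_pow, ← hv, pow_orderOf_eq_one]
  · intro e'
    exact hne (by rw [← map_pow, e', map_one])

/-- An element commuting with a regular noncentral element is regular. -/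
theorem regular_commute {g u : G} (hg : ¬ p ∣ orderOf g) (hgc : g ∉ Subgroup.center G) (hc : Commute u g) :
    ¬ p ∣ orderOf u := by
  intro hd
  have ha : orderOf (u ^ (orderOf u / p)) = p := orderOf_pow_orderOf_div (orderOf_pos u).ne' hd
  obtain ⟨c, hc'⟩ := HalfDegree.exists_conj_mem h.hS ha
  obtain ⟨i, hi⟩ := h.hS.exists_pw hc'
  have hi0 : i ≠ 0 := by
    intro h0
    rw [h0, h.hS.pw_zero, mul_inv_eq_one, mul_eq_left] at hi
    rw [hi, orderOf_one] at ha
    exact (Fact.out : p.Prime).one_lt.ne ha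
  have h1 : Commute (pw x i) (c * g * c⁻¹) := by
    rw [← hi]
    exact (Commute.conj_iff c).mpr (hc.pow_left _)
  obtain ⟨k, hk⟩ := h.hS.exists_K_of_regular ((h.hS.commute_pw_iff hi0).mp h1)
    (by rw [SecondMain.orderOf_conj]; exact hg)
  refine hgc ?_
  have h2 : c * g * c⁻¹ ∈ Subgroup.center G := hk ▸ h.hK k
  have h3 := (inferInstance : (Subgroup.center G).Normal).conj_mem' _ h2 c
  rwa [show c⁻¹ * (c * g * c⁻¹) * c = g by group] at h3

/-- Elements of two-power order have norm at most ten. -/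
theorem two_elt_le (hp : p = 7) (he : e = 3) {F : (G ⧸ Subgroup.center G) → ℂ}
    (hF : ∀ g : G, F (QuotientGroup.mk' _ g) = (A.exc 1 : G → ℂ) g * conj ((A.exc 1 : G → ℂ) g))
    {z : G ⧸ Subgroup.center G} {k : ℕ} (hk : z ^ 2 ^ k = 1) {w : ℕ} (hw : F z = w) (hlt : w < 16) :
    w ≤ 10 := by
  classical
  obtain ⟨g, rfl⟩ := QuotientGroup.mk'_surjective _ z
  rw [hF] at hw
  set M := 2 ^ (k + 1) with hM
  have hg : g ^ (2 * M) = 1 := by
    have hz : g ^ 2 ^ k ∈ Subgroup.center G := (QuotientGroup.eq_one_iff _).mp (by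
      show QuotientGroup.mk' (Subgroup.center G) (g ^ 2 ^ k) = 1
      rw [map_pow, hk])
    have h4 := center_pow D hz
    rw [← pow_mul, he] at h4
    rw [hM, show 2 * 2 ^ (k + 1) = 2 ^ k * (3 + 1) by ring]
    exact h4
  have hord : orderOf g ∣ 2 ^ (k + 2) :=
    (orderOf_dvd_of_pow_eq_one hg).trans (dvd_of_eq (by rw [hM]; ring))
  have hreg : ¬ p ∣ orderOf g := fun hd => by
    have h7 := (Fact.out : p.Prime).dvd_of_dvd_pow (hd.trans hord)
    rw [hp] at h7
    norm_num at h7
  obtain ⟨n, ρ, hirr, hρ⟩ := (A.exc 1).2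
  have hχv : ∀ a, (A.exc 1 : G → ℂ) a = ρ.character a := fun a => (congrFun hρ a).symm
  have hn : finrank ℂ (Fin n → ℂ) = 4 := by
    apply Nat.cast_injective (R := ℂ)
    rw [← Representation.char_one ρ, ← hχv, ← Agent.Blocks.charDegree_cast, deg_exc_two D 1, he]
  obtain ⟨b, ν, hν, hroot⟩ := Char.exists_eigenbasis ρ g
  set ν' : Fin 4 → ℂ := fun i => ν (Fin.cast hn.symm i) with hν'
  have hval : ∀ s : ℕ, (A.exc 1 : G → ℂ) (g ^ s) = ∑ i, ν' i ^ s := fun s => by
    rw [hχv, Char.character_pow ρ g b ν hν s]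
    exact (Fintype.sum_equiv (finCongr hn.symm) _ _ fun i => rfl).symm
  have hnorm : ∀ i, ν' i * conj (ν' i) = 1 := fun i => by
    rw [Complex.mul_conj', Complex.norm_eq_one_of_pow_eq_one (hroot _) (orderOf_pos g).ne']
    norm_num
  set r : Fin 4 × Fin 4 → ℂ := fun w => ν' w.1 * conj (ν' w.2) with hr
  have hr1 : ∀ w, r w = 1 ↔ ν' w.1 = ν' w.2 := by
    intro w
    constructor
    · intro e'
      calc ν' w.1 = r w * ν' w.2 := by rw [hr]; linear_combination (-(ν' w.1)) * hnorm w.2
        _ = ν' w.2 := by rw [e', one_mul]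
    · intro e'
      rw [hr]
      simp only
      rw [e', hnorm]
  have hrM : ∀ w, r w ^ (2 * M) = 1 := fun w => by
    have h1 : ∀ i, ν' i ^ (2 * M) = 1 := fun i => by
      obtain ⟨d, hd⟩ := orderOf_dvd_of_pow_eq_one hg
      rw [hd, pow_mul, hν']
      simp only
      rw [hroot, one_pow]
    rw [hr]
    simp only
    rw [mul_pow, ← map_pow, h1, h1, map_one, mul_one]
  have hsum : ∀ i : ℕ, (w : ℂ) = ∑ q, r q ^ (2 * i + 1) := by
    intro i
    have hcop : (2 * i + 1).Coprime (orderOf g) :=
      Nat.Coprime.coprime_dvd_right hord ((Nat.coprime_two_right.mpr ⟨i, rfl⟩).pow_right _)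
    obtain ⟨s, hs, hmod⟩ := exists_coprime_modEq h (orderOf_dvd_natCard g) hcop
    have hgs : g ^ s = g ^ (2 * i + 1) := pow_eq_pow_iff_modEq.mpr hmod
    rw [← hw, ← norm_pow D (Or.inr (by omega)) hreg hs, hgs, hval, map_sum, Finset.sum_mul_sum,
      Fintype.sum_prod_type]
    refine Finset.sum_congr rfl fun a _ => Finset.sum_congr rfl fun c _ => ?_
    rw [hr, mul_pow, map_pow]
  have hcount : (M : ℝ) * (w : ℝ) ≤
      (M : ℝ) * ((Finset.univ.filter fun q : Fin 4 × Fin 4 => ν' q.1 = ν' q.2).card : ℝ) := by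
    have h1 : ((M : ℂ) * (w : ℂ)) = ∑ q, ∑ i ∈ Finset.range M, r q ^ (2 * i + 1) := by
      rw [Finset.sum_comm, ← Finset.sum_congr rfl fun i _ => hsum i, Finset.sum_const, Finset.card_range,
        nsmul_eq_mul]
    have h2 := congrArg Complex.re h1
    rw [Complex.re_sum] at h2
    simp only [Complex.mul_re, Complex.natCast_re, Complex.natCast_im, mul_zero, sub_zero] at h2
    rw [h2, mul_comm, Finset.card_filter, Nat.cast_sum, Finset.sum_mul]
    refine Finset.sum_le_sum fun q _ => (sum_odd_re_le (hrM q)).trans (le_of_eq ?_)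
    by_cases hq : ν' q.1 = ν' q.2
    · rw [if_pos ((hr1 q).mpr hq), if_pos hq, Nat.cast_one, one_mul]
    · rw [if_neg (fun e' => hq ((hr1 q).mp e')), if_neg hq, Nat.cast_zero, zero_mul]
  by_cases hall : ∃ i j, ν' i ≠ ν' j
  · have h1 := pairs_le ν' hall
    have h2 := le_of_mul_le_mul_left hcount (by rw [hM]; positivity)
    have h3 : w ≤ _ := Nat.cast_le.mp h2
    omega
  · exfalso
    push Not at hall
    have h1 : ∀ q, r q = 1 := fun q => (hr1 q).mpr (hall _ _)
    have h2 := hsum 0
    rw [Finset.sum_congr rfl fun q _ => by rw [h1 q, one_pow], Finset.sum_const, Finset.card_univ,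
      Fintype.card_prod, Fintype.card_fin, nsmul_eq_mul, mul_one, Nat.cast_inj] at h2
    omega

theorem five_value (hp : p = 7) (he : e = 3) {y : G} (hy : orderOf y = 5) :
    (A.exc 1 : G → ℂ) y = -1 := by
  have hK : ¬ 5 ∣ Nat.card (Subgroup.center G) := fun hd => by
    have := prime_dvd_center D Nat.prime_five hd
    rw [he] at this
    norm_num at this
  obtain ⟨w, hw, hc, hlo, hhi, hmax, hmin⟩ := int_value D Nat.prime_five (by omega) hK (g := y)
    ⟨1, by rw [pow_one, ← hy, pow_orderOf_eq_one]⟩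
  have hne : y ≠ 1 := fun e' => by rw [e', orderOf_one] at hy; norm_num at hy
  have h1 : w ≠ -((e + 1 : ℕ) : ℤ) := fun e' => hK (by
    have := orderOf_dvd_natCard (⟨y, hmin e'⟩ : Subgroup.center G)
    rwa [Subgroup.orderOf_mk, hy] at this)
  have h2 : w ≠ ((e + 1 : ℕ) : ℤ) := fun e' => hne (hmax e')
  subst he
  push_cast at hc hlo hhi h1 h2
  have : w = -1 := by omega
  rw [hw, this]
  norm_num

/-- The centraliser of an element of order five. -/
theorem five_central (hp : p = 7) (he : e = 3) {y u : G} (hy : orderOf y = 5) (hc : Commute u y)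
    (hu : ¬ 5 ∣ orderOf u) : u ∈ Subgroup.center G := by
  classical
  haveI : Fact (Nat.Prime 5) := ⟨Nat.prime_five⟩
  have hyreg : ¬ p ∣ orderOf y := by rw [hy, hp]; norm_num
  have hycen : y ∉ Subgroup.center G := fun hm => by
    have := orderOf_dvd_of_pow_eq_one (center_pow D hm)
    rw [hy, he] at this
    norm_num at this
  have hureg : ¬ p ∣ orderOf u := regular_commute D hyreg hycen hc
  set χ := A.exc 1
  have hzero : ∀ i : ℕ, ¬ 5 ∣ i → (χ : G → ℂ) (y ^ i) = -1 := fun i hi => five_value D hp he (by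
    rw [Nat.Coprime.orderOf_pow (by rw [hy]; exact (Nat.prime_five.coprime_iff_not_dvd.mpr hi)), hy])
  have hindep : ∀ i : ℕ, ¬ 5 ∣ i → (χ : G → ℂ) (u * y ^ i) = (χ : G → ℂ) (u * y) := by
    intro i hi
    set m := Nat.lcm (orderOf u) (Nat.card (K x L)) with hmdef
    have hm5 : m.Coprime 5 := by
      refine (Nat.Coprime.symm ?_)
      refine Nat.prime_five.coprime_iff_not_dvd.mpr fun hd => ?_
      rcases Nat.prime_five.dvd_mul.mp (hd.trans (Nat.lcm_dvd_mul _ _)) with hd | hd
      · exact hu hd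
      · rw [← card_center D] at hd
        have := prime_dvd_center D Nat.prime_five hd
        rw [he] at this
        norm_num at this
    have hmG : m * 5 ∣ Nat.card G := Nat.Coprime.mul_dvd_of_dvd_of_dvd hm5
      (Nat.lcm_dvd (orderOf_dvd_natCard u) (card_K_dvd h)) (hy ▸ orderOf_dvd_natCard y)
    obtain ⟨r, hr1, hr2⟩ := Nat.chineseRemainder hm5 1 i
    obtain ⟨k, hk, hmod⟩ := exists_coprime_modEq h hmG (r := r) (Nat.Coprime.mul_right
      (by show Nat.gcd r m = 1; rw [hr1.gcd_eq, Nat.gcd_one_left])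
      (by show Nat.gcd r 5 = 1; rw [hr2.gcd_eq]; exact (Nat.prime_five.coprime_iff_not_dvd.mpr hi).symm))
    have hk1 : k ≡ 1 [MOD m] := (Nat.ModEq.of_mul_right _ hmod).trans hr1
    have hk5 : k ≡ i [MOD 5] := (Nat.ModEq.of_mul_left _ hmod).trans hr2
    have h1 : ∀ z : K x L, z ^ k = z := fun z => by
      conv_rhs => rw [← pow_one z]
      exact pow_eq_pow_iff_modEq.mpr (hk1.of_dvd ((orderOf_dvd_natCard z).trans (Nat.dvd_lcm_right _ _)))
    have h2 : (u * y) ^ k = u * y ^ i := by
      rw [hc.mul_pow]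
      congr 1
      · conv_rhs => rw [← pow_one u]
        exact pow_eq_pow_iff_modEq.mpr (hk1.of_dvd (Nat.dvd_lcm_left _ _))
      · exact pow_eq_pow_iff_modEq.mpr (hy ▸ hk5)
    have hreg : ¬ p ∣ orderOf (u * y) := fun hd => by
      rcases (Fact.out : p.Prime).dvd_mul.mp (hd.trans hc.orderOf_mul_dvd_mul_orderOf) with h' | h'
      · exact hureg h'
      · exact hyreg h'
    rw [← h2]
    exact ((exists_pow_fam h A A hk (fun z => by rw [← map_pow, h1 z])).2.2 1 _ hreg).symm
  obtain ⟨n, ρ, hirr, hρ⟩ := χ.2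
  have hχv : ∀ a, (χ : G → ℂ) a = ρ.character a := fun a => (congrFun hρ a).symm
  have hn : finrank ℂ (Fin n → ℂ) = 4 := by
    apply Nat.cast_injective (R := ℂ)
    rw [← Representation.char_one ρ, ← hχv, ← Agent.Blocks.charDegree_cast, deg_exc_two D 1, he]
  obtain ⟨b0, ν0, hν0, hroot0⟩ := Char.exists_eigenbasis ρ y
  set b := b0.reindex (finCongr hn)
  set ν : Fin 4 → ℂ := fun i => ν0 (Fin.cast hn.symm i)
  have hν : ∀ i, ρ y (b i) = ν i • b i := fun i => by
    rw [Basis.reindex_apply]; exact hν0 _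
  have hν5 : ∀ i, ν i ^ 5 = 1 := fun i => hy ▸ hroot0 _
  have hpow : ∀ i : ℕ, ¬ 5 ∣ i → ∑ j, ν j ^ i = -1 := fun i hi => by
    rw [← Char.character_pow ρ y b ν hν i, ← hχv, hzero i hi]
  have hinj : Function.Injective ν := by
    intro a c hac
    by_contra hne
    set r := ν a
    have hr5 : r ^ 5 = 1 := hν5 a
    have hr0 : r ≠ 0 := fun e' => by rw [e', zero_pow (by norm_num)] at hr5; exact zero_ne_one hr5
    have h1 : ∀ j, ∑ i ∈ Finset.range 5, (ν j / r) ^ i = if ν j = r then (5 : ℂ) else 0 := by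
      intro j
      by_cases hj : ν j = r
      · rw [if_pos hj, hj, div_self hr0]
        simp
      · have hq : ν j / r ≠ 1 := fun e' => hj ((div_eq_one_iff_eq hr0).mp e')
        rw [if_neg hj, geom_sum_eq hq, div_pow, hν5, hr5, div_one, sub_self, zero_div]
    have h2 : ∑ j, ∑ i ∈ Finset.range 5, (ν j / r) ^ i = 4 - (r⁻¹ + r⁻¹ ^ 2 + r⁻¹ ^ 3 + r⁻¹ ^ 4) := by
      rw [Finset.sum_comm]
      simp only [Finset.sum_range_succ, Finset.sum_range_zero, zero_add, div_eq_mul_inv, mul_pow, ← Finset.sum_mul,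
        pow_zero, mul_one, Finset.sum_const, Finset.card_univ, Fintype.card_fin]
      rw [hpow 1 (by norm_num), hpow 2 (by norm_num), hpow 3 (by norm_num), hpow 4 (by norm_num)]
      push_cast
      ring
    rw [Finset.sum_congr rfl fun j _ => h1 j, ← Finset.sum_filter, Finset.sum_const, nsmul_eq_mul] at h2
    have h3 : 2 ≤ (Finset.univ.filter fun j => ν j = r).card :=
      Finset.one_lt_card.mpr ⟨a, by simp [r], c, by simp [r, ← hac], hne⟩
    by_cases hr1 : r = 1
    · rw [hr1, inv_one] at h2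
      have h5 : (((Finset.univ.filter fun j => ν j = r).card * 5 : ℕ) : ℂ) = ((0 : ℕ) : ℂ) := by
        rw [hr1]
        push_cast
        rw [h2]
        norm_num
      have := Nat.cast_injective h5
      omega
    · have h4 : r⁻¹ + r⁻¹ ^ 2 + r⁻¹ ^ 3 + r⁻¹ ^ 4 = -1 := by
        have hg := geom_sum_eq (show r⁻¹ ≠ 1 from fun e' => hr1 (inv_eq_one.mp e')) 5
        rw [inv_pow, hr5, inv_one, sub_self, zero_div] at hg
        simp only [Finset.sum_range_succ, Finset.sum_range_zero, zero_add, pow_zero, pow_one] at hg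
        linear_combination hg
      rw [h4] at h2
      have h5 : (((Finset.univ.filter fun j => ν j = r).card * 5 : ℕ) : ℂ) = ((5 : ℕ) : ℂ) := by
        push_cast
        rw [h2]
        norm_num
      have := Nat.cast_injective h5
      omega
  -- the commuting element is diagonal
  set c : Fin 4 → ℂ := fun j => b.repr (ρ u (b j)) j
  have hdiag : ∀ j, ρ u (b j) = c j • b j := by
    intro j
    have h1 : ρ y (ρ u (b j)) = ν j • ρ u (b j) := by
      rw [← Module.End.mul_apply, ← map_mul, ← hc.eq, map_mul, Module.End.mul_apply, hν, map_smul]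
    have h2 : ρ u (b j) = ∑ i, b.repr (ρ u (b j)) i • b i := (b.sum_repr _).symm
    rw [h2, Finset.sum_eq_single j]
    · intro i _ hij
      have h3 := congrArg (fun v => b.repr v i) h1
      rw [h2] at h3
      simp only [map_sum, map_smul, hν, Finsupp.coe_finsetSum, Finset.sum_apply, Finsupp.smul_apply,
        Basis.repr_self, Finsupp.single_apply, smul_eq_mul, mul_ite, mul_one, mul_zero, Finset.sum_ite_eq',
        Finset.mem_univ, if_true] at h3
      have h4 : (ν i - ν j) * b.repr (ρ u (b j)) i = 0 := by linear_combination h3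
      rw [(mul_eq_zero.mp h4).resolve_left (sub_ne_zero.mpr (hinj.ne hij)), zero_smul]
    · exact fun hh => absurd (Finset.mem_univ j) hh
  have hval : ∀ i : ℕ, (χ : G → ℂ) (u * y ^ i) = ∑ j, c j * ν j ^ i := by
    intro i
    have h1 : ∀ j, ρ (u * y ^ i) (b j) = (c j * ν j ^ i) • b j := fun j => by
      have h2 : ρ (y ^ i) (b j) = ν j ^ i • b j := by
        induction i with
        | zero => simp
        | succ i ih => rw [pow_succ, map_mul, Module.End.mul_apply, hν, map_smul, ih, smul_smul, pow_succ']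
      rw [map_mul, Module.End.mul_apply, h2, map_smul, hdiag, smul_smul, mul_comm]
    rw [hχv]
    exact Char.character_eq_sum_eigenvalues ρ _ b _ h1
  set S := (χ : G → ℂ) (u * y)
  have hd : (fun j => (c j + S) * ν j) = 0 := by
    refine Matrix.eq_zero_of_forall_pow_sum_mul_pow_eq_zero hinj fun i => ?_
    have hi : ¬ 5 ∣ (i : ℕ) + 1 := fun hd' => by
      have := Nat.le_of_dvd (by omega) hd'
      omega
    simp only [add_mul, Finset.sum_add_distrib, mul_assoc, ← pow_succ', ← Finset.mul_sum]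
    rw [← hval, hindep _ hi, hpow _ hi]
    ring
  have hc0 : ∀ j, c j = -S := fun j => by
    have hne : ν j ≠ 0 := fun e' => by
      have := hν5 j
      rw [e', zero_pow (by norm_num)] at this
      exact zero_ne_one this
    exact eq_neg_of_add_eq_zero_left ((mul_eq_zero.mp (congrFun hd j)).resolve_right hne)
  obtain ⟨c0, hfaith⟩ := D.faith
  have hn4 : ((A.exc c0 : G → ℂ) u) = (4 : ℂ) * (-S) := by
    rw [A.reg c0 1 u hureg]
    have := hval 0
    rw [pow_zero, mul_one] at this
    rw [this]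
    simp [hc0]
  refine HalfDegree.mem_center_of_norm_eq (A.exc c0) hfaith ?_
  rw [hn4, deg_exc_two D c0, he, norm_mul]
  have hS1 : ‖-S‖ = 1 := by
    refine Complex.norm_eq_one_of_pow_eq_one (n := orderOf u) ?_ (orderOf_pos u).ne'
    have h1 : ∀ m : ℕ, ρ (u ^ m) (b 0) = (-S) ^ m • b 0 := by
      intro m
      induction m with
      | zero => simp
      | succ m ih => rw [pow_succ, map_mul, Module.End.mul_apply, hdiag, hc0, map_smul, ih, smul_smul, pow_succ']
    have h2 := h1 (orderOf u)
    rw [pow_orderOf_eq_one, map_one, Module.End.one_apply] at h2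
    exact (smul_left_injective ℂ (b.ne_zero 0) (by simpa using h2)).symm
  rw [hS1]
  norm_num

/-- The centraliser of an element of order five in the quotient. -/
theorem card_centralizer_five (hp : p = 7) (he : e = 3) {v : G ⧸ Subgroup.center G} (hv : orderOf v = 5)
    (h25 : ¬ 5 ^ 2 ∣ Nat.card (G ⧸ Subgroup.center G)) :
    Nat.card (Subgroup.centralizer ({v} : Set (G ⧸ Subgroup.center G))) = 5 := by
  haveI : Fact (Nat.Prime 5) := ⟨Nat.prime_five⟩
  set C := Subgroup.centralizer ({v} : Set (G ⧸ Subgroup.center G))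
  obtain ⟨y, hy, hyv, -⟩ := exists_lift D Nat.prime_five (by rw [he]; norm_num) hv
  have h5 : ∀ w ∈ C, ¬ 5 ∣ orderOf w → w = 1 := by
    intro w hw h5
    obtain ⟨g, rfl⟩ := QuotientGroup.mk'_surjective _ w
    refine (QuotientGroup.eq_one_iff g).mpr (five_central D hp he hy (commute_of_mk D
      (by rw [hy, he]; norm_num) ?_) ?_)
    · rw [hyv]
      exact Commute.pow_right (Subgroup.mem_centralizer_singleton_iff.mp hw) _
    · intro hd
      set m := orderOf (QuotientGroup.mk' (Subgroup.center G) g)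
      have hz : g ^ m ∈ Subgroup.center G := (QuotientGroup.eq_one_iff _).mp (by
        show QuotientGroup.mk' (Subgroup.center G) (g ^ m) = 1
        rw [map_pow, pow_orderOf_eq_one])
      have h1 : g ^ (m * (e + 1)) = 1 := by rw [pow_mul]; exact center_pow D hz
      rcases Nat.prime_five.dvd_mul.mp (hd.trans (orderOf_dvd_of_pow_eq_one h1)) with h2 | h2
      · exact h5 h2
      · rw [he] at h2; norm_num at h2
  have hP : IsPGroup 5 C := by
    intro w
    refine ⟨(orderOf (w : G ⧸ Subgroup.center G)).factorization 5, Subtype.ext ?_⟩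
    set m := orderOf (w : G ⧸ Subgroup.center G)
    have hdvd := Nat.ordProj_dvd m 5
    show (w : G ⧸ Subgroup.center G) ^ _ = 1
    refine h5 _ (pow_mem w.2 _) ?_
    rw [orderOf_pow_of_dvd (pow_ne_zero _ (by norm_num)) hdvd]
    exact Nat.not_dvd_ordCompl Nat.prime_five (orderOf_pos _).ne'
  obtain ⟨k, hk⟩ := hP.exists_card_eq
  have hvC : v ∈ C := Subgroup.mem_centralizer_singleton_iff.mpr rfl
  have h1 : 5 ∣ Nat.card C := by
    have := orderOf_dvd_natCard (⟨v, hvC⟩ : C)
    rwa [Subgroup.orderOf_mk, hv] at this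
  have h2 : k < 2 := by
    by_contra hlt
    exact h25 (((pow_dvd_pow 5 (by omega : 2 ≤ k)).trans (dvd_of_eq hk.symm)).trans
      (Subgroup.card_subgroup_dvd_card C))
  interval_cases k
  · rw [hk] at h1; norm_num at h1
  · exact hk

end Cfsg.Agent.FeitBound
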