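/-
The prime seven and degree four (namespace `Cfsg.Agent.FeitBound`).

Main results: `class_sum`, `sum_seven`, `exists_three`, `false_of_20160`, `seven_four`.
-/
import Cfsg.Agent.Lib.FeitBound.SevenTools
import Cfsg.Agent.Lib.FeitSmall.Reduction
import Cfsg.Agent.Lib.FeitBound.FiveThree
import Cfsg.Agent.Lib.SmallOrders.ThreePrime.Cofactor
import Cfsg.Agent.S0984

set_option autoImplicit false
set_option linter.unusedSectionVars false
set_option linter.style.haveILetI false

open scoped ComplexConjugate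

namespace Cfsg.Agent.FeitBound

open Cfsg Cfsg.Agent.Blocks Cfsg.Agent.CyclicDefect Cfsg.Agent.FeitSmall

/-- The conjugates of the powers of `y` in an image. -/
theorem class_sum {H Q : Type*} [Group H] [Group Q] [Finite H] [Fintype Q] {q : ℕ} [Fact q.Prime] {y : H}
    {M : Subgroup H} (hS : Setting q y M) (π : H →* Q)
    (hinj : ∀ a b : H, orderOf a = q → orderOf b = q → π a = π b → a = b)
    (hord : ∀ a : H, orderOf a = q → orderOf (π a) = q)
    (r : Q → ℝ) (hr0 : ∀ g, 0 ≤ r g) (hrc : ∀ g c : Q, r (c * g * c⁻¹) = r g) :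
    ((Subgroup.normalizer (Subgroup.zpowers y : Set H)).index : ℝ) * ∑ u : (ZMod q)ˣ, r (π (pw y (u : ZMod q))) ≤
      ∑ g ∈ Finset.univ.filter (fun g : Q => orderOf g = q), r g := by
  classical
  set N := Subgroup.normalizer (Subgroup.zpowers y : Set H)
  haveI : Fintype (H ⧸ N) := Fintype.ofFinite _
  let f : (H ⧸ N) × (ZMod q)ˣ → H := fun w => w.1.out * pw y (w.2 : ZMod q) * w.1.out⁻¹
  have hf : ∀ w, orderOf (f w) = q := fun w => by
    show orderOf (_ * _ * _) = q
    rw [SecondMain.orderOf_conj, hS.orderOf_pw w.2.ne_zero]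
  have hfinj : Function.Injective fun w => π (f w) := by
    rintro ⟨w, u⟩ ⟨w', u'⟩ he
    have h1 : w.out * pw y (u : ZMod q) * w.out⁻¹ = w'.out * pw y (u' : ZMod q) * w'.out⁻¹ :=
      hinj _ _ (hf (w, u)) (hf (w', u')) he
    have h2 : (w'.out⁻¹ * w.out) * pw y (u : ZMod q) * (w'.out⁻¹ * w.out)⁻¹ = pw y (u' : ZMod q) := by
      rw [show (w'.out⁻¹ * w.out) * pw y (u : ZMod q) * (w'.out⁻¹ * w.out)⁻¹ =
        w'.out⁻¹ * (w.out * pw y (u : ZMod q) * w.out⁻¹) * w'.out by group, h1]
      group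
    have h3 : (w'.out⁻¹ * w.out) * y * (w'.out⁻¹ * w.out)⁻¹ =
        pw y (((u' * u⁻¹ : (ZMod q)ˣ)) : ZMod q) := by
      have h4 := congrArg (· ^ (((u⁻¹ : (ZMod q)ˣ)) : ZMod q).val) h2
      simp only [conj_pow, hS.pw_pow, ZMod.natCast_rightInverse _] at h4
      rwa [← Units.val_mul, inv_mul_cancel, Units.val_one, hS.pw_one, ← Units.val_mul, mul_comm u⁻¹] at h4
    have hmem : w'.out⁻¹ * w.out ∈ N := Subgroup.mem_normalizer_fintype fun a ha => by
      obtain ⟨j, rfl⟩ := hS.exists_pw ha
      rw [hS.conj_pw h3]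
      exact hS.pw_mem _
    have hw : w = w' := by
      rw [← QuotientGroup.out_eq' w, ← QuotientGroup.out_eq' w']
      exact (QuotientGroup.eq.mpr hmem).symm
    subst hw
    exact Prod.ext rfl (Units.ext (hS.pw_inj (mul_left_cancel (mul_right_cancel h1))))
  rw [Subgroup.index, Nat.card_eq_fintype_card]
  calc (Fintype.card (H ⧸ N) : ℝ) * ∑ u : (ZMod q)ˣ, r (π (pw y (u : ZMod q)))
      = ∑ w : (H ⧸ N) × (ZMod q)ˣ, r (π (f w)) := by
        rw [Fintype.sum_prod_type, Finset.sum_congr rfl fun w _ => Finset.sum_congr rfl fun u _ => by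
          show r (π (w.out * pw y (u : ZMod q) * w.out⁻¹)) = r (π (pw y (u : ZMod q)))
          rw [map_mul, map_mul, map_inv, hrc]]
        rw [Finset.sum_const, Finset.card_univ, nsmul_eq_mul]
    _ = ∑ g ∈ Finset.univ.image (fun w => π (f w)), r g :=
        (Finset.sum_image fun a _ b _ e => hfinj e).symm
    _ ≤ _ := by
        refine Finset.sum_le_sum_of_subset_of_nonneg (fun g hg => ?_) fun g _ _ => hr0 g
        obtain ⟨w, -, rfl⟩ := Finset.mem_image.mp hg
        exact Finset.mem_filter.mpr ⟨Finset.mem_univ _, hord _ (hf w)⟩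

variable {G : Type*} [Group G] [Fintype G] {p : ℕ} [Fact p.Prime] {x : G} {L : Subgroup G} {e : ℕ}
variable {h : CCore p x L e 2} {μ : K x L →* ℂ} {A : Fam h μ} (D : Two h A)
include D

/-- The index of the normaliser. -/
theorem index_normalizer : (Subgroup.normalizer (Subgroup.zpowers x : Set G)).index * (p * e) =
    Nat.card (G ⧸ Subgroup.center G) := by
  refine Nat.eq_of_mul_eq_mul_right (Nat.card_pos (α := Subgroup.center G)) ?_
  have h3 := Subgroup.index_mul_card (Subgroup.normalizer (Subgroup.zpowers x : Set G))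
  rw [h.hS.card_normalizer, card_L h, ← card_center D] at h3
  rw [← Subgroup.card_eq_card_quotient_mul_card_subgroup (Subgroup.center G), ← h3]
  ring

theorem mk_inj {q : ℕ} (hqe : q.Coprime (e + 1)) {a b : G} (ha : orderOf a = q) (hb : orderOf b = q)
    (hab : QuotientGroup.mk' (Subgroup.center G) a = QuotientGroup.mk' (Subgroup.center G) b) : a = b := by
  have hz : a * b⁻¹ ∈ Subgroup.center G := (QuotientGroup.eq_one_iff _).mp (by
    show QuotientGroup.mk' (Subgroup.center G) (a * b⁻¹) = 1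
    rw [map_mul, map_inv, hab, mul_inv_cancel])
  have h1 : (a * b⁻¹) ^ q = 1 := by
    have hcz : Commute (a * b⁻¹) b := (Subgroup.mem_center_iff.mp hz b).symm
    have h2 := hcz.mul_pow q
    rw [inv_mul_cancel_right, ← ha, pow_orderOf_eq_one, ha, ← hb, pow_orderOf_eq_one, mul_one] at h2
    rw [← hb]
    exact h2.symm
  have h3 := pow_gcd_eq_one.mpr ⟨h1, center_pow D hz⟩
  rw [hqe.gcd_eq_one, pow_one] at h3
  exact mul_inv_eq_one.mp h3

theorem orderOf_mk {q : ℕ} (hq : q.Prime) (hqe : ¬ q ∣ e + 1) {a : G} (ha : orderOf a = q) :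
    orderOf (QuotientGroup.mk' (Subgroup.center G) a) = q := by
  haveI := Fact.mk hq
  refine orderOf_eq_prime (by rw [← map_pow, ← ha, pow_orderOf_eq_one, map_one]) fun e' => hqe ?_
  rw [← ha]
  exact orderOf_dvd_of_pow_eq_one (center_pow D ((QuotientGroup.eq_one_iff a).mp e'))

/-- The norms on the powers of `x`. -/
theorem sum_seven : ∑ i : ZMod p, (A.exc 1 : G → ℂ) (pw x i) * conj ((A.exc 1 : G → ℂ) (pw x i)) =
    (p : ℂ) * (e + 1 : ℕ) := by
  classical
  set χ := A.exc 1
  calc ∑ i : ZMod p, (χ : G → ℂ) (pw x i) * conj ((χ : G → ℂ) (pw x i))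
      = ∑ i : ZMod p, ∑ j : ZMod p, (N h χ j : ℂ) * (ζ (-(i * j)) * (χ : G → ℂ) (pw x i)) := by
        refine Finset.sum_congr rfl fun i _ => ?_
        conv_lhs => arg 2; rw [apply_pw_eq_sum (x := x) (p := p) (χ : G → ℂ) i]
        rw [map_sum, Finset.mul_sum]
        refine Finset.sum_congr rfl fun j _ => ?_
        rw [map_mul, N_spec h, Complex.conj_natCast, conj_ζ]
        ring
    _ = ∑ j : ZMod p, (N h χ j : ℂ) * ((p : ℂ) * (N h χ j : ℂ)) := by
        rw [Finset.sum_comm]
        refine Finset.sum_congr rfl fun j _ => ?_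
        rw [← Finset.mul_sum, ← N_spec h, mu, mul_inv_cancel_left₀ (Nat.cast_ne_zero.mpr (Fact.out : p.Prime).ne_zero)]
    _ = (p : ℂ) * ∑ j : ZMod p, (N h χ j : ℂ) := by
        rw [Finset.mul_sum]
        refine Finset.sum_congr rfl fun j _ => ?_
        have h1 := A.row 1 j
        rw [D.minus.m, D.minus.eps, show A.exc 1 = χ from rfl] at h1
        have h2 : N h χ j = 0 ∨ N h χ j = 1 := by
          have : ind h (1 : T h.hS) j = 0 ∨ ind h (1 : T h.hS) j = 1 := by
            unfold ind; split_ifs <;> simp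
          rcases this with h3 | h3 <;> rw [h3] at h1 <;> omega
        rcases h2 with h3 | h3 <;> rw [h3] <;> simp
    _ = _ := by rw [← Nat.cast_sum, ← deg_eq_sum h, deg_exc_two D 1]

/-- A three-element of character value one. -/
theorem exists_three (hp : p = 7) (he : e = 3) (h9 : 9 ∣ Nat.card (G ⧸ Subgroup.center G)) :
    ∃ t : G, (∃ k, t ^ 3 ^ k = 1) ∧ t ≠ 1 ∧ (A.exc 1 : G → ℂ) t = 1 := by
  classical
  haveI : Fact (Nat.Prime 3) := ⟨Nat.prime_three⟩
  have hK : ¬ 3 ∣ Nat.card (Subgroup.center G) := fun hd => by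
    have := prime_dvd_center D Nat.prime_three hd
    rw [he] at this
    norm_num at this
  obtain ⟨P, hP⟩ := Sylow.exists_subgroup_card_pow_prime 3 (n := 2) ((show 3 ^ 2 = 9 by norm_num) ▸
    h9.trans ⟨_, Subgroup.card_eq_card_quotient_mul_card_subgroup (Subgroup.center G)⟩)
  haveI := Fintype.ofFinite P
  by_contra hcon
  push Not at hcon
  have hval : ∀ g : P, g ≠ 1 → (A.exc 1 : G → ℂ) (g : G) = -2 := by
    intro g hg
    obtain ⟨k, hk⟩ := (IsPGroup.of_card hP) g
    have hk' : (g : G) ^ 3 ^ k = 1 := congrArg Subtype.val hk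
    have hg' : (g : G) ≠ 1 := fun e' => hg (Subtype.ext e')
    obtain ⟨w, hw, hc, hlo, hhi, hmax, hmin⟩ := int_value D Nat.prime_three (by omega) hK ⟨k, hk'⟩
    have h1 : w ≠ -((e + 1 : ℕ) : ℤ) := fun e' => by
      have h1 := orderOf_dvd_natCard (⟨(g : G), hmin e'⟩ : Subgroup.center G)
      rw [Subgroup.orderOf_mk] at h1
      exact hg' (orderOf_eq_one_iff.mp (Nat.eq_one_of_dvd_coprimes
        ((Nat.prime_three.coprime_iff_not_dvd.mpr hK).pow_left k) (orderOf_dvd_of_pow_eq_one hk') h1))
    have h2 : w ≠ ((e + 1 : ℕ) : ℤ) := fun e' => hg' (hmax e')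
    have h3 : w ≠ 1 := fun e' => hcon _ ⟨k, hk'⟩ hg' (by rw [hw, e', Int.cast_one])
    subst he
    push_cast at hc hlo hhi h1 h2
    have : w = -2 := by omega
    rw [hw, this]
    norm_num
  obtain ⟨n, hn⟩ := HalfDegree.exists_nat_sum (θ := fun g : P => (A.exc 1 : G → ℂ) (g : G))
    (Char.IsCharacter.comp_hom (Char.IsIrrCharacter.isCharacter (A.exc 1).2) P.subtype)
  rw [← Finset.add_sum_erase _ _ (Finset.mem_univ (1 : P)),
    Finset.sum_congr rfl fun g hg => hval g (Finset.ne_of_mem_erase hg), Finset.sum_const,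
    Finset.card_erase_of_mem (Finset.mem_univ _), Finset.card_univ, ← Nat.card_eq_fintype_card, hP,
    OneMemClass.coe_one, ← Agent.Blocks.charDegree_cast, deg_exc_two D 1, he] at hn
  norm_num at hn
  have h1 := congrArg Complex.re hn
  norm_num at h1
  have : (0 : ℝ) ≤ n := Nat.cast_nonneg n
  linarith

/-- The order `20160` does not occur. -/
theorem false_of_20160 (hp : p = 7) (he : e = 3) (hc : Nat.card (G ⧸ Subgroup.center G) = 20160)
    {v : G ⧸ Subgroup.center G} {M : Subgroup (G ⧸ Subgroup.center G)} (hv : Setting 5 v M)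
    (hidx : (Subgroup.normalizer (Subgroup.zpowers v : Set (G ⧸ Subgroup.center G))).index = 2016) : False := by
  classical
  haveI : Fact (Nat.Prime 5) := ⟨Nat.prime_five⟩
  haveI : Fintype (G ⧸ Subgroup.center G) := Fintype.ofFinite _
  obtain ⟨F, hF, -, hFv, hFn⟩ := exists_normF D (Or.inr (by omega))
  set χ := A.exc 1
  set π := QuotientGroup.mk' (Subgroup.center G)
  set r : G ⧸ Subgroup.center G → ℝ := fun g => (F g).re with hr
  have hrv : ∀ g : G, r (π g) = ‖(χ : G → ℂ) g‖ ^ 2 := fun g => by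
    simp only [hr]
    rw [hFv, Complex.mul_conj']
    norm_cast
  have hr0 : ∀ g, 0 ≤ r g := fun g => by
    obtain ⟨g, rfl⟩ := QuotientGroup.mk'_surjective _ g
    rw [hrv]; positivity
  have hrc : ∀ g c, r (c * g * c⁻¹) = r g := fun g c => by
    simp only [hr]
    rw [Char.IsCharacter.isClassFunction hF g c]
  -- the whole sum
  have htot : ∑ g, r g = 20160 := by
    have h1 := Char.classInner_irr_self χ.2
    rw [classInner, inv_mul_eq_one₀ (Nat.cast_ne_zero.mpr Nat.card_pos.ne')] at h1
    have h2 : ∑ g : G, F (π g) = (Nat.card (Subgroup.center G) : ℂ) * ∑ q, F q := by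
      rw [← Finset.sum_fiberwise Finset.univ π (fun g => F (π g)), Finset.mul_sum]
      refine Finset.sum_congr rfl fun q _ => ?_
      rw [Finset.sum_congr rfl (g := fun _ => F q) fun g hg => by rw [(Finset.mem_filter.mp hg).2],
        Finset.sum_const, nsmul_eq_mul]
      congr 2
      obtain ⟨a, rfl⟩ := QuotientGroup.mk'_surjective _ q
      rw [← Fintype.card_subtype, ← Nat.card_eq_fintype_card]
      exact Nat.card_congr
        { toFun := fun z : {g // π g = π a} =>
            (⟨a⁻¹ * z.1, (QuotientGroup.eq (s := Subgroup.center G)).mp z.2.symm⟩ : Subgroup.center G)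
          invFun := fun z => ⟨a * z.1, by
            rw [map_mul, show π z.1 = 1 from (QuotientGroup.eq_one_iff _).mpr z.2, mul_one]⟩
          left_inv := fun z => Subtype.ext (mul_inv_cancel_left _ _)
          right_inv := fun z => Subtype.ext (inv_mul_cancel_left _ _) }
    rw [Finset.sum_congr rfl fun g _ => (hFv g).symm, h2,
      Subgroup.card_eq_card_quotient_mul_card_subgroup (Subgroup.center G), hc, Nat.cast_mul, mul_comm _ (Nat.card (Subgroup.center G) : ℂ)] at h1
    have h3 := mul_left_cancel₀ (Nat.cast_ne_zero.mpr (Nat.card_pos (α := Subgroup.center G)).ne') h1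
    simp only [hr]
    rw [← Complex.re_sum, ← h3]
    simp
  -- the elements of order seven
  have h7 : (11520 : ℝ) ≤ ∑ g ∈ Finset.univ.filter (fun g => orderOf g = p), r g := by
    refine le_trans (le_of_eq ?_) (class_sum h.hS π (fun a b => mk_inj D (by rw [hp, he]; norm_num))
      (fun a => orderOf_mk D Fact.out (by rw [hp, he]; norm_num)) r hr0 hrc)
    have hi := index_normalizer D
    rw [hc] at hi
    have hi' : (Subgroup.normalizer (Subgroup.zpowers x : Set G)).index = 960 := by
      refine Nat.eq_of_mul_eq_mul_right (m := p * e) (by rw [hp, he]; norm_num) ?_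
      rw [hi, hp, he]
    have h1 := congrArg Complex.re (sum_seven D)
    rw [← Finset.add_sum_erase _ _ (Finset.mem_univ (0 : ZMod p)), h.hS.pw_zero,
      ← Agent.Blocks.charDegree_cast, deg_exc_two D 1, Complex.add_re, Complex.re_sum] at h1
    have h2 : ∑ u : (ZMod p)ˣ, r (π (pw x (u : ZMod p))) =
        ∑ i ∈ Finset.univ.erase (0 : ZMod p), ((χ : G → ℂ) (pw x i) * conj ((χ : G → ℂ) (pw x i))).re := by
      refine Finset.sum_bij (fun u _ => (u : ZMod p)) (fun u _ => Finset.mem_erase.mpr ⟨u.ne_zero, Finset.mem_univ _⟩)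
        (fun a _ b _ e' => Units.ext e') (fun i hi => ⟨Units.mk0 i (Finset.ne_of_mem_erase hi), Finset.mem_univ _, rfl⟩)
        fun u _ => ?_
      simp only [hr]
      rw [hFv]
    have h7' : (p : ℝ) = 7 := by rw [hp]; norm_num
    simp only [Complex.mul_re, Complex.natCast_re, Complex.natCast_im, Complex.conj_natCast, mul_zero, sub_zero, h7',
      he] at h1
    rw [hi', h2]
    simp only [Complex.mul_re] at h1 ⊢
    push_cast at h1 ⊢
    linarith
  -- the elements of order five
  have hone : ∀ g, orderOf g = 5 → r g = 1 := by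
    intro g hg
    obtain ⟨y, hy, hyv, -⟩ := exists_lift D Nat.prime_five (by rw [he]; norm_num)
      (show orderOf (g ^ (e + 1)) = 5 by
        rw [Nat.Coprime.orderOf_pow (by rw [hg, he]; norm_num), hg])
    have h1 : (g ^ (e + 1)) ^ (e + 1) = g := by
      rw [← pow_mul]
      conv_rhs => rw [← pow_one g]
      exact pow_eq_pow_iff_modEq.mpr (by rw [hg, he]; decide)
    rw [← h1, ← hyv, hrv, five_value D hp he hy]
    norm_num
  have h5 : (8064 : ℝ) ≤ ∑ g ∈ Finset.univ.filter (fun g : G ⧸ Subgroup.center G => orderOf g = 5), r g := by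
    refine le_trans (le_of_eq ?_) (class_sum hv (MonoidHom.id _) (fun a b _ _ e' => e') (fun a ha => ha) r hr0 hrc)
    have hu : ∀ u : (ZMod 5)ˣ, r ((MonoidHom.id _) (pw v (u : ZMod 5))) = 1 := fun u => hone _ (hv.orderOf_pw u.ne_zero)
    rw [hidx, Finset.sum_congr rfl fun u _ => hu u, Finset.sum_const, Finset.card_univ,
      ZMod.card_units]
    norm_num
  -- the section of a three-element
  obtain ⟨t, ⟨k, hk⟩, ht1, htv⟩ := exists_three D hp he (by rw [hc]; norm_num)
  have htord : ∃ i, orderOf t = 3 ^ i := by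
    obtain ⟨i, -, hi⟩ := (Nat.dvd_prime_pow Nat.prime_three).mp (orderOf_dvd_of_pow_eq_one hk)
    exact ⟨i, hi⟩
  obtain ⟨i, hi⟩ := htord
  have hi0 : i ≠ 0 := fun e' => ht1 (orderOf_eq_one_iff.mp (by rw [hi, e', pow_zero]))
  have hcop4 : (orderOf t).Coprime (e + 1) := by
    rw [hi, he]; exact Nat.Coprime.pow_left _ (by norm_num)
  have htc : t ∉ Subgroup.center G := fun hm => ht1 (orderOf_eq_one_iff.mp
    (Nat.eq_one_of_dvd_coprimes hcop4 dvd_rfl (orderOf_dvd_of_pow_eq_one (center_pow D hm))))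
  have htreg : ¬ p ∣ orderOf t := fun hd => by
    rw [hi] at hd
    have := (Nat.prime_dvd_prime_iff_eq Fact.out Nat.prime_three).mp ((Fact.out : p.Prime).dvd_of_dvd_pow hd)
    omega
  set a := π t with ha
  have haord : orderOf a = orderOf t := by
    refine Nat.dvd_antisymm (orderOf_map_dvd π t) ?_
    have hz : t ^ orderOf a ∈ Subgroup.center G := (QuotientGroup.eq_one_iff _).mp (by
      show π (t ^ orderOf a) = 1
      rw [map_pow, ← ha, pow_orderOf_eq_one])
    have h1 : t ^ (orderOf a * (e + 1)) = 1 := by rw [pow_mul]; exact center_pow D hz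
    exact hcop4.dvd_of_dvd_mul_right (orderOf_dvd_of_pow_eq_one h1)
  set C := Subgroup.centralizer ({a} : Set (G ⧸ Subgroup.center G)) with hC
  have hC5 : ¬ 5 ∣ Nat.card C := by
    intro hd
    obtain ⟨w, hw⟩ := exists_prime_orderOf_dvd_card' 5 hd
    have hw' : orderOf (w : G ⧸ Subgroup.center G) = 5 := by rw [Subgroup.orderOf_coe, hw]
    have h1 := card_centralizer_five D hp he hw' (by rw [hc]; norm_num)
    have h2 := orderOf_dvd_natCard (⟨a, Subgroup.mem_centralizer_singleton_iff.mpr
      (Subgroup.mem_centralizer_singleton_iff.mp w.2).symm⟩ :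
      Subgroup.centralizer ({(w : G ⧸ Subgroup.center G)} : Set (G ⧸ Subgroup.center G)))
    rw [Subgroup.orderOf_mk, h1, haord, hi] at h2
    have := (Nat.prime_dvd_prime_iff_eq Nat.prime_three Nat.prime_five).mp ((dvd_pow_self 3 hi0).trans h2)
    omega
  have hC7 : ¬ 7 ∣ Nat.card C := by
    intro hd
    subst hp
    obtain ⟨w, hw⟩ := exists_prime_orderOf_dvd_card' 7 hd
    obtain ⟨b, hb, hbw, -⟩ := exists_lift D Fact.out (by rw [he]; norm_num)
      (show orderOf (w : G ⧸ Subgroup.center G) = 7 by rw [Subgroup.orderOf_coe, hw])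
    refine regular_commute D htreg htc (commute_of_mk D hcop4 ?_ : Commute b t) (by rw [hb])
    rw [hbw]
    exact Commute.pow_left (Subgroup.mem_centralizer_singleton_iff.mp w.2) _
  have hC576 : Nat.card C ∣ 576 := by
    refine Nat.Coprime.dvd_of_dvd_mul_right (k := Nat.card C) (n := 35) ?_ ?_
    · exact Nat.Coprime.mul_right (m := 5) (n := 7) (Nat.Coprime.symm (Nat.prime_five.coprime_iff_not_dvd.mpr hC5))
        (Nat.Coprime.symm ((by norm_num : Nat.Prime 7).coprime_iff_not_dvd.mpr hC7))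
    · exact (Subgroup.card_subgroup_dvd_card C).trans (dvd_of_eq hc)
  haveI : Fact (Nat.Prime 2) := ⟨Nat.prime_two⟩
  obtain ⟨T⟩ : Nonempty (Sylow 2 C) := inferInstance
  have hT9 : Nat.card C ≤ 9 * Nat.card T := by
    have h1 := T.not_dvd_index
    have h2 : (T : Subgroup C).index ∣ 9 * 64 := (Subgroup.index_dvd_card _).trans hC576
    have h3 := (Nat.Coprime.pow_right 6 ((Nat.prime_two.coprime_iff_not_dvd.mpr h1).symm)).dvd_of_dvd_mul_right h2
    rw [← (T : Subgroup C).index_mul_card]
    exact Nat.mul_le_mul_right _ (Nat.le_of_dvd (by norm_num) h3)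
  set U := Finset.univ.filter fun u : G ⧸ Subgroup.center G => ∃ w : C, w ∈ T ∧ (w : G ⧸ Subgroup.center G) = u
  have hUcard : Nat.card T ≤ U.card := by
    have hinj : Function.Injective fun w : T =>
        (⟨((w : C) : G ⧸ Subgroup.center G), Finset.mem_filter.mpr ⟨Finset.mem_univ _, (w : C), w.2, rfl⟩⟩ : U) :=
      fun w w' e' => Subtype.ext (Subtype.ext (Subtype.ext_iff.mp e' :))
    have := Nat.card_le_card_of_injective _ hinj
    rwa [Nat.card_eq_fintype_card (α := U), Fintype.card_coe] at this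
  have hU : ∀ u ∈ U, Commute a u ∧ (∃ j, u ^ 2 ^ j = 1) := by
    intro u hu
    obtain ⟨w, hw, rfl⟩ := (Finset.mem_filter.mp hu).2
    obtain ⟨j, hj⟩ := T.isPGroup' ⟨w, hw⟩
    exact ⟨(Subgroup.mem_centralizer_singleton_iff.mp w.2).symm, j,
      congrArg (fun z : T => ((z : C) : G ⧸ Subgroup.center G)) hj⟩
  have hUcop : ∀ u ∈ U, (orderOf u).Coprime (orderOf a) := by
    intro u hu
    obtain ⟨-, j, hj⟩ := hU u hu
    rw [haord, hi]
    exact ((Nat.Coprime.pow _ _ (by norm_num : Nat.Coprime 2 3))).coprime_dvd_left (orderOf_dvd_of_pow_eq_one hj)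
  set X := (Finset.univ ×ˢ U).image fun w : (G ⧸ Subgroup.center G) × (G ⧸ Subgroup.center G) =>
    w.1 * (a * w.2) * w.1⁻¹
  have hX : ∀ g ∈ X, 1 ≤ r g ∧ orderOf g ≠ p ∧ orderOf g ≠ 5 := by
    intro g hg
    obtain ⟨⟨c, u⟩, hcu, rfl⟩ := Finset.mem_image.mp hg
    have hu := (Finset.mem_product.mp hcu).2
    obtain ⟨hau, j, hj⟩ := hU u hu
    have h3 : 3 ∣ orderOf (c * (a * u) * c⁻¹) := by
      rw [SecondMain.orderOf_conj, hau.orderOf_mul_eq_mul_orderOf_of_coprime (hUcop u hu).symm, haord, hi]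
      exact (dvd_pow_self 3 hi0).mul_right _
    refine ⟨?_, fun e' => ?_, fun e' => by rw [e'] at h3; norm_num at h3⟩
    swap
    · rw [e', hp] at h3; norm_num at h3
    rw [hrc]
    obtain ⟨b, rfl⟩ := QuotientGroup.mk'_surjective _ u
    have hbt : Commute b t := commute_of_mk D hcop4 hau.symm
    have hb : b ^ 2 ^ (j + 2) = 1 := by
      rw [pow_add, pow_mul]
      have hz : b ^ 2 ^ j ∈ Subgroup.center G := (QuotientGroup.eq_one_iff _).mp (by
        show π (b ^ 2 ^ j) = 1
        rw [map_pow]; exact hj)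
      have := center_pow D hz
      rwa [he] at this
    obtain ⟨I, hI⟩ := CentralChar.exists_pModular 2
    have hmem := CentralChar.memI_sub_of_pow_eq hI (Char.IsIrrCharacter.isCharacter χ.2)
      (g := t * b) (s := t) (k := j + 2) (by rw [hbt.symm.mul_pow, hb, mul_one])
    have hne : (χ : G → ℂ) (t * b) ≠ 0 := fun e' => by
      rw [e', htv] at hmem
      exact not_memI_one hI (memI_sub_comm hmem |> fun hh => by simpa using hh)
    have hbreg : ¬ p ∣ orderOf b := fun hd => by
      have := (Nat.prime_dvd_prime_iff_eq Fact.out Nat.prime_two).mp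
        ((Fact.out : p.Prime).dvd_of_dvd_pow (hd.trans (orderOf_dvd_of_pow_eq_one hb)))
      omega
    have hreg : ¬ p ∣ orderOf (π (t * b)) := fun hd => by
      rcases (Fact.out : p.Prime).dvd_mul.mp
        ((hd.trans (orderOf_map_dvd π _)).trans hbt.symm.orderOf_mul_dvd_mul_orderOf) with h' | h'
      · exact htreg h'
      · exact hbreg h'
    obtain ⟨n, hn, -, -⟩ := hFn _ hreg
    have hn0 : n ≠ 0 := fun e' => hne (by
      have h1 := hFv (t * b)
      rw [hn, e', Nat.cast_zero, eq_comm, Complex.mul_conj'] at h1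
      simpa using h1)
    have : r (π (t * b)) = n := by simp only [hr]; rw [hn, Complex.natCast_re]
    rw [show a * π b = π (t * b) by rw [map_mul], this]
    exact_mod_cast Nat.one_le_iff_ne_zero.mpr hn0
  have hcount := section_count a U (fun u hu => ⟨(hU u hu).1, hUcop u hu⟩) X
    (fun g u hu => Finset.mem_image.mpr ⟨(g, u), Finset.mem_product.mpr ⟨Finset.mem_univ _, hu⟩, rfl⟩)
  rw [hc] at hcount
  have hXcard : 2240 ≤ X.card := by
    have hpos : 0 < Nat.card T := Nat.card_pos
    have h1 : 20160 * Nat.card T ≤ 9 * X.card * Nat.card T :=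
      calc 20160 * Nat.card T ≤ 20160 * U.card := Nat.mul_le_mul_left _ hUcard
        _ ≤ Nat.card C * X.card := hcount
        _ ≤ 9 * Nat.card T * X.card := Nat.mul_le_mul_right _ hT9
        _ = 9 * X.card * Nat.card T := by ring
    have := Nat.le_of_mul_le_mul_right h1 hpos
    omega
  -- disjoint
  set S7 := Finset.univ.filter (fun g : G ⧸ Subgroup.center G => orderOf g = p)
  set S5 := Finset.univ.filter (fun g : G ⧸ Subgroup.center G => orderOf g = 5)
  have hd1 : Disjoint S7 S5 := Finset.disjoint_filter.mpr fun g _ e1 e2 => by omega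
  have hd2 : Disjoint (S7 ∪ S5) X := Finset.disjoint_left.mpr fun g hg hgX => by
    rcases Finset.mem_union.mp hg with hg' | hg'
    · exact (hX g hgX).2.1 (Finset.mem_filter.mp hg').2
    · exact (hX g hgX).2.2 (Finset.mem_filter.mp hg').2
  have hsum : ∑ g ∈ S7 ∪ S5 ∪ X, r g ≤ ∑ g, r g :=
    Finset.sum_le_sum_of_subset_of_nonneg (Finset.subset_univ _) fun g _ _ => hr0 g
  rw [Finset.sum_union hd2, Finset.sum_union hd1, htot] at hsum
  have hXsum : (X.card : ℝ) ≤ ∑ g ∈ X, r g := by
    rw [Finset.card_eq_sum_ones, Nat.cast_sum, Nat.cast_one]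
    exact Finset.sum_le_sum fun g hg => (hX g hg).1
  have : (2240 : ℝ) ≤ X.card := by exact_mod_cast hXcard
  linarith

/-- The prime seven. -/
theorem seven_four (hp : p = 7) (he : e = 3) :
    Nonempty ((G ⧸ Subgroup.center G) ≃* Matrix.ProjectiveSpecialLinearGroup (Fin 2) (ZMod 7)) ∨
      Nonempty ((G ⧸ Subgroup.center G) ≃* alternatingGroup (Fin 7)) := by
  subst hp he
  obtain ⟨hsimple, hnc⟩ := simple_quot D
  haveI : IsSimpleGroup (G ⧸ Subgroup.center G) := hsimple
  have hcard : Nat.card (G ⧸ Subgroup.center G) ∣ 2 ^ 12 * 315 := by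
    refine dvd_of_prime_pows Nat.card_pos.ne' (by norm_num) fun q hq hd => ?_
    have hfac : ∀ r k : ℕ, r.Prime → r ^ k ∣ 2 ^ 12 * 315 → k ≤ (2 ^ 12 * 315 : ℕ).factorization r := fun r k hr hk =>
      (Nat.Prime.pow_dvd_iff_le_factorization hr (by norm_num)).mp hk
    have hdG : q ∣ Nat.card G := ((dvd_pow_self q (by omega)).trans hd).trans
      ⟨_, Subgroup.card_eq_card_quotient_mul_card_subgroup (Subgroup.center G)⟩
    have hle : q ≤ 8 := by
      by_contra hlt
      exact no_large_prime D hq (by omega) (by omega) hdG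
    have := hq.two_le
    interval_cases q
    · -- the two-part
      have h3 := hfac 2 12 hq (by norm_num)
      have h4 := norm_bound D (n := 13) hq (by norm_num) (Or.inr rfl) {0, 2, 4, 6, 8, 10}
        (fun F z w hF hk _ hw hc hlt => by
          obtain ⟨k, hk⟩ := hk
          have := two_elt_le D rfl rfl hF hk hw (by omega)
          simp only [Finset.mem_insert, Finset.mem_singleton]; push_cast at hc; omega)
        ((pow_dvd_pow 2 (by omega)).trans hd)
      norm_num at h4
    · -- the three-part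
      have h3 := hfac 3 2 hq (by norm_num)
      have h4 := subgroup_bound D (n := 3) hq (by norm_num)
        (fun hd' => absurd (prime_dvd_center D hq hd') (by norm_num)) {-2, 1}
        (fun w hc h1 h2 => by simp only [Finset.mem_insert, Finset.mem_singleton]; push_cast at hc h1 h2; omega)
        ((pow_dvd_pow 3 (by omega)).trans hd)
      norm_num at h4
    · exact absurd hq (by norm_num)
    · have h3 := hfac 5 1 hq (by norm_num)
      have h4 := subgroup_bound D (n := 2) hq (by norm_num)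
        (fun hd' => absurd (prime_dvd_center D hq hd') (by norm_num)) {-1}
        (fun w hc h1 h2 => by simp only [Finset.mem_singleton]; push_cast at hc h1 h2; omega)
        ((pow_dvd_pow 5 (by omega)).trans hd)
      norm_num at h4
    · exact absurd hq (by norm_num)
    · have h3 := hfac 7 1 hq (by norm_num)
      exact (dvd_quot D).2 ((pow_dvd_pow 7 (by omega)).trans hd)
    · exact absurd hq (by norm_num)
  obtain ⟨n, hn1, hn⟩ := exists_count D
  have hnd : n ∣ 2 ^ 12 * 15 := by
    refine Nat.dvd_of_mul_dvd_mul_right (show 0 < 7 * 3 by norm_num) ?_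
    rw [← hn]
    exact hcard
  obtain ⟨⟨⟨u, hu⟩, ⟨m, hm⟩⟩, rfl⟩ := exists_dvd_and_dvd_of_dvd_mul hnd |>.elim fun u h' =>
    h'.elim fun m h'' => (⟨(⟨u, h''.1⟩, ⟨m, h''.2.1⟩), h''.2.2⟩ : ∃ w : {u // u ∣ 2 ^ 12} × {m // m ∣ 15}, n = w.1.1 * w.2.1)
  simp only at hn hn1
  obtain ⟨a, ha, rfl⟩ := (Nat.dvd_prime_pow Nat.prime_two).mp hu
  have hcases : ∀ a : Fin 13, ∀ m : Fin 16, (m : ℕ) ∣ 15 → (2 ^ (a : ℕ) * (m : ℕ)) % 7 = 1 →
      (m : ℕ) = 1 ∨ ((m : ℕ) = 15 ∧ ((a : ℕ) = 0 ∨ (a : ℕ) = 3 ∨ (a : ℕ) = 6 ∨ (a : ℕ) = 9 ∨ (a : ℕ) = 12)) := by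
    decide +kernel
  rcases hcases ⟨a, by omega⟩ ⟨m, Nat.lt_succ_of_le (Nat.le_of_dvd (by norm_num) hm)⟩ hm hn1 with e' | ⟨e', hacases⟩
  · simp only at e'
    subst e'
    left
    rcases SmallOrders.ThreePrime.iso_of_three hnc (p := 7) (q := 2) (a := 1) (b := a)
      (by norm_num) Nat.prime_two (by norm_num) (by norm_num) (by rw [hn]; ring) with hh | hh
    · exfalso
      obtain ⟨ψ⟩ := hh
      have h1 := Nat.card_congr ψ.toEquiv
      rw [hn, nat_card_alternatingGroup, Nat.card_fin, show (Nat.factorial 5) / 2 = 60 from rfl] at h1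
      omega
    · exact hh
  simp only at e' hacases
  subst e'
  have h5d : 5 ∣ Nat.card (G ⧸ Subgroup.center G) := hn ▸ ⟨2 ^ a * 3 * (7 * 3), by ring⟩
  by_cases ha3 : a = 3
  · subst ha3
    exact Or.inr (Cfsg.Agent.S0984.result (by rw [hn]; norm_num))
  exfalso
  haveI : Fact (Nat.Prime 5) := ⟨Nat.prime_five⟩
  have h25 : ¬ 5 ^ 2 ∣ Nat.card (G ⧸ Subgroup.center G) := fun hd => by
    have h1 : 5 ^ 2 ∣ 2 ^ 12 * 315 := hd.trans hcard
    norm_num at h1
  obtain ⟨v, hv⟩ := exists_prime_orderOf_dvd_card' 5 h5d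
  obtain ⟨M, hS⟩ := exists_setting Nat.prime_five hv h25
  have hC := card_centralizer_five D rfl rfl hv h25
  have hK : Nat.card (K v M) = 1 := by
    haveI : Subsingleton (K v M) := ⟨fun b c => by
      have hb : ∀ b : K v M, b = 1 := fun b => by
        have hle : Subgroup.zpowers v ≤ Subgroup.centralizer ({v} : Set (G ⧸ Subgroup.center G)) :=
          Subgroup.zpowers_le.mpr (Subgroup.mem_centralizer_singleton_iff.mpr rfl)
        have heq := Subgroup.eq_of_le_of_card_ge hle (by rw [hC, Nat.card_zpowers, hv])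
        have hbm : ((b : M) : G ⧸ Subgroup.center G) ∈ Subgroup.zpowers v := by
          rw [heq]; exact Subgroup.mem_centralizer_singleton_iff.mpr (hS.commute_K b).eq.symm
        obtain ⟨i, hi⟩ := hS.exists_pw hbm
        have hi0 : i = 0 := (hS.regular_pw_mul_iff (1 : K v M)).mp (by
          simpa [← hi] using hS.regular_K b)
        rw [hi0, hS.pw_zero] at hi
        exact Subtype.ext (Subtype.ext hi)
      rw [hb b, hb c]⟩
    exact Nat.card_unique
  set s := (K v M).index with hsdef
  have hM : Nat.card M = s := by rw [← Subgroup.card_mul_index (K v M), hK, one_mul]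
  have hs4 : s ∣ 4 := FeitSmall.index_dvd_pred hS
  obtain ⟨P, hP⟩ := DegPMinusTwo.exists_sylow_zpowers hS
  set N := Subgroup.normalizer (Subgroup.zpowers v : Set (G ⧸ Subgroup.center G))
  have hsyl : N.index % 5 = 1 := by
    have h1 := card_sylow_modEq_one 5 (G ⧸ Subgroup.center G)
    have h2 : Nat.card (Sylow 5 (G ⧸ Subgroup.center G)) = N.index := by
      rw [Sylow.card_eq_index_normalizer P]
      simp only [N, ← hP]
      rfl
    rw [h2] at h1
    exact h1
  have hN : N.index * (5 * s) = 2 ^ a * 15 * (7 * 3) := by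
    rw [← hn, ← N.index_mul_card, hS.card_normalizer, hM]
  have hs : s = 1 ∨ s = 2 ∨ s = 4 := by
    have := Nat.le_of_dvd (by norm_num) hs4
    interval_cases s <;> omega
  rcases hs with hs | hs | hs
  · -- a normal complement
    have hle : Subgroup.normalizer (((P : Subgroup (G ⧸ Subgroup.center G))) : Set (G ⧸ Subgroup.center G)) ≤
        Subgroup.centralizer (((P : Subgroup (G ⧸ Subgroup.center G))) : Set (G ⧸ Subgroup.center G)) := by
      rw [hP]
      have heq : Subgroup.zpowers v = N := Subgroup.eq_of_le_of_card_ge Subgroup.le_normalizer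
        (by rw [hS.card_normalizer, hM, hs, mul_one, Nat.card_zpowers, hv])
      show N ≤ _
      rw [← heq]
      intro b hb
      refine Subgroup.mem_centralizer_iff.mpr fun c hc => ?_
      obtain ⟨i, rfl⟩ := Subgroup.mem_zpowers_iff.mp hb
      obtain ⟨j, rfl⟩ := Subgroup.mem_zpowers_iff.mp hc
      exact ((Commute.refl v).zpow_zpow j i).eq
    have hcomp := MonoidHom.ker_transferSylow_isComplement' P hle
    have hnd' := MonoidHom.not_dvd_card_ker_transferSylow P hle
    rcases (inferInstance : (MonoidHom.transferSylow P hle).ker.Normal).eq_bot_or_eq_top with hb | hb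
    · have h1 := hcomp.card_mul_card
      rw [hb, Subgroup.card_bot, one_mul, hP, Nat.card_zpowers, hv, hn] at h1
      have : 1 ≤ 2 ^ a := Nat.one_le_two_pow
      omega
    · rw [hb, Subgroup.card_top] at hnd'
      exact hnd' h5d
  · rw [hs] at hN
    by_cases ha6 : a = 6
    · subst ha6
      refine false_of_20160 D rfl rfl (by rw [hn]; norm_num) hS ?_
      show N.index = 2016
      omega
    · rcases hacases with rfl | rfl | rfl | rfl | rfl <;> norm_num at hN <;> omega
  · rw [hs] at hN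
    rcases hacases with rfl | rfl | rfl | rfl | rfl <;> norm_num at hN <;> omega

end Cfsg.Agent.FeitBound
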