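/-
Degree below `27` and a prime above the degree plus one (namespace `Cfsg.Agent.FeitBound`).

Main results: `two_of_reduced`, `small_pairs`.
-/
import Cfsg.Agent.Lib.FeitBound.Below27
import Cfsg.Agent.Lib.FeitBound.SevenFour

set_option autoImplicit false
set_option linter.unusedSectionVars false
set_option linter.style.haveILetI false

namespace Cfsg.Agent.FeitBound

open Module Cfsg Cfsg.Agent.Blocks Cfsg.Agent.CyclicDefect Cfsg.Agent.FeitSmall

universe u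

variable {G : Type u} [Group G] [Finite G] {V : Type} [AddCommGroup V] [Module ℂ V] [FiniteDimensional ℂ V]

set_option maxHeartbeats 1000000 in
/-- The pairs `(5, 3)` and `(7, 4)`. -/
theorem small_pairs {p : ℕ} [hp : Fact p.Prime] (ρ : Representation ℂ G V) [ρ.IsIrreducible]
    (hinj : Function.Injective ρ) (hpd : (p = 7 ∧ finrank ℂ V = 4) ∨ (p = 5 ∧ finrank ℂ V = 3))
    (hP : ¬ PComm p ρ) :
    Nonempty (G ⧸ Subgroup.center G ≃* Matrix.ProjectiveSpecialLinearGroup (Fin 2) (ZMod p)) ∨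
    (p = 7 ∧ Nonempty (G ⧸ Subgroup.center G ≃* alternatingGroup (Fin 7))) ∨
    (p = 5 ∧ Nonempty (G ⧸ Subgroup.center G ≃* alternatingGroup (Fin 6))) := by
  haveI := CharApp.nontrivial_of_irr ρ
  have hI := idx_of_irr (p := p) (by omega) ρ (by omega) hP
  obtain ⟨Q, hQG, hQF, π, σ, T⟩ := exists_quot (p := p) ρ (by omega) hI hP
  haveI := T.irr
  obtain ⟨φ⟩ := T.center_quot_equiv hinj
  obtain ⟨PQ, hPQ, hPQn⟩ := T.sylow
  obtain ⟨x, L, -, hS⟩ := CyclicDefect.exists_setting_of_sylow hp.out PQ hPQ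
  haveI := Fintype.ofFinite Q
  let χ : IrrCharacter Q := ⟨σ.character, Char.isIrrCharacter_character σ⟩
  have hdeg : charDegree (χ : Q → ℂ) = finrank ℂ V := Nat.cast_injective (R := ℂ) (by
    rw [Agent.Blocks.charDegree_cast]; exact Representation.char_one σ)
  have hfaith : ∀ g, (χ : Q → ℂ) g = (χ : Q → ℂ) 1 → g = 1 := fun g hg =>
    T.inj (((Char.character_eq_finrank_iff σ g).mp (hg.trans (Representation.char_one σ))).trans (map_one σ).symm)
  rcases FeitSmall.reduce_of_five_le hS (by omega) T.nn χ hfaith (by rw [hdeg]; omega) with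
    ⟨-, h2, -⟩ | ⟨hdE, H, y, L0, t, R⟩
  · rw [hdeg] at h2
    omega
  rw [hdeg] at hdE
  have hte := R.core.hte
  generalize hE : (K x L).index = e at hdE R hte
  have he : (p = 7 ∧ e = 3) ∨ (p = 5 ∧ e = 2) := by omega
  obtain rfl : t = 2 := by
    rcases he with ⟨rfl, rfl⟩ | ⟨rfl, rfl⟩ <;> omega
  haveI := Fintype.ofFinite H
  obtain ⟨ν, A, c, hε, hM, hf⟩ := R.fam
  have D : Two R.core A := ⟨R.gen, ⟨hε, hM⟩, ⟨c, hf⟩⟩
  obtain ⟨θ⟩ := R.quot
  rcases he with ⟨hp7, he3⟩ | ⟨hp5, he2⟩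
  · subst hp7
    rcases seven_four D rfl he3 with ⟨⟨ψ⟩⟩ | ⟨⟨ψ⟩⟩
    · exact Or.inl ⟨φ.trans (θ.trans ψ)⟩
    · exact Or.inr (Or.inl ⟨rfl, ⟨φ.trans (θ.trans ψ)⟩⟩)
  · subst hp5
    rcases five_three D rfl he2 with ⟨⟨ψ⟩⟩ | ⟨⟨ψ⟩⟩
    · exact Or.inl ⟨φ.trans (θ.trans ψ)⟩
    · exact Or.inr (Or.inr ⟨rfl, ⟨φ.trans (θ.trans ψ)⟩⟩)

end Cfsg.Agent.FeitBound
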